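import Cfsg.Agent.Lib.MaxSub.TensorForm.Wrap
import Cfsg.Agent.Lib.MaxSub.SubspaceMaximalUnitary
import Cfsg.Agent.Lib.Aschbacher.UnitaryPair

/-!
The stabiliser of a tensor power of unitary spaces is maximal.
-/

set_option autoImplicit false
set_option maxHeartbeats 1000000
set_option linter.unusedSectionVars false
set_option linter.unusedSimpArgs false

namespace CfsgLib.MaxSub.TensorForm

open Matrix
open CfsgLib.Aschbacher CfsgLib.MaxSub.TensorPow CfsgLib.UnitaryTransvection

variable {F : Type*} [Field F] [Fintype F] {k t q : ℕ} (hF : Fintype.card F = q ^ 2)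

local notation "Mm" => Matrix (Fin k) (Fin k) F
local notation "MT" => Matrix (Fin t → Fin k) (Fin t → Fin k) F

/-- The unitary frame. -/
noncomputable def unitaryFrame (k : ℕ) : Frame F k where
  σ := frob hF
  invol := frob_frob hF
  sg _ := 1
  sg_sq _ := one_mul 1
  eps := 1
  eps_sq := one_mul 1
  sg_rev _ := (one_mul 1).symm

include hF in
theorem q_gt : 1 < q := (UnitaryBasic.frob_exists hF).1

/-- An element moved away from its square and from its inverse by the automorphism. -/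
theorem exists_alpha (hq : 3 ≤ q) :
    (∃ α : F, α ≠ 0 ∧ frob hF α ≠ α ^ 2) ∧ ∃ α : F, α ≠ 0 ∧ α * frob hF α ≠ 1 := by
  classical
  obtain ⟨g, hg⟩ := IsCyclic.exists_generator (α := Fˣ)
  have hord : orderOf g = q ^ 2 - 1 := by
    rw [orderOf_eq_card_of_forall_mem_zpowers hg, Nat.card_units, Nat.card_eq_fintype_card, hF]
  have hq2 : 3 * q ≤ q ^ 2 := by rw [pow_two]; exact Nat.mul_le_mul_right q hq
  refine ⟨⟨g, g.ne_zero, fun h => ?_⟩, ⟨g, g.ne_zero, fun h => ?_⟩⟩
  · rw [frob_apply, ← Units.val_pow_eq_pow_val, ← Units.val_pow_eq_pow_val] at h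
    have h1 : g ^ (q - 2) = 1 := by
      have h2 : g ^ (q - 2) * g ^ 2 = 1 * g ^ 2 := by
        rw [← pow_add, Nat.sub_add_cancel (show 2 ≤ q by omega), one_mul]; exact Units.ext h
      exact mul_right_cancel h2
    have := Nat.le_of_dvd (by omega) (hord ▸ orderOf_dvd_of_pow_eq_one h1)
    omega
  · rw [frob_apply, ← pow_succ', ← Units.val_pow_eq_pow_val] at h
    have h1 : g ^ (q + 1) = 1 := Units.ext h
    have := Nat.le_of_dvd (by omega) (hord ▸ orderOf_dvd_of_pow_eq_one h1)
    omega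

/-- The diagonal element on a hyperbolic pair and a middle index. -/
theorem exists_torus {b y : Fin k} (hb : b ≠ b.rev) (hy : y = y.rev) {α : F} (hα : α ≠ 0) :
    ∃ s : GL (Fin k) F, (unitaryFrame hF k).SI s ∧ (∀ p r, p ≠ r → (s : Mm) p r = 0) ∧
      (s : Mm) b b = α ∧ (s : Mm) y y = frob hF α / α ∧ (s : Mm) b.rev b.rev = (frob hF α)⁻¹ ∧
      ∀ z, z ≠ b → z ≠ b.rev → z ≠ y → (s : Mm) z z = 1 := by
  classical
  have hσα : frob hF α ≠ 0 := by simpa using hα
  have hyb : y ≠ b := fun e => hb (e ▸ hy)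
  have hyb' : y ≠ b.rev := fun e => hb (by rw [e, Fin.rev_rev] at hy; exact hy.symm)
  set d : Fin k → F := fun z =>
    if z = b then α else if z = b.rev then (frob hF α)⁻¹ else if z = y then frob hF α / α else 1 with hd
  have hb1 : d b = α := if_pos rfl
  have hb2 : d b.rev = (frob hF α)⁻¹ := by simp only [d, if_neg hb.symm, if_pos rfl]; simp
  have hy1 : d y = frob hF α / α := by simp only [d, if_neg hyb, if_neg hyb', if_pos rfl]; simp
  have hz1 : ∀ z, z ≠ b → z ≠ b.rev → z ≠ y → d z = 1 := fun z h1 h2 h3 => by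
    simp only [d, if_neg h1, if_neg h2, if_neg h3]
  have hprod : ∀ z, frob hF (d z.rev) * d z = 1 := by
    intro z
    by_cases h1 : z = b
    · subst h1; rw [hb1, hb2, map_inv₀, frob_frob, inv_mul_cancel₀ hα]
    by_cases h2 : z = b.rev
    · subst h2; rw [Fin.rev_rev, hb1, hb2, mul_inv_cancel₀ hσα]
    by_cases h3 : z = y
    · subst h3; rw [← hy, hy1, map_div₀, frob_frob]; field_simp
    · rw [hz1 z h1 h2 h3, hz1 _ (fun e => h2 (by rw [← e, Fin.rev_rev])) (fun e => h1 (Fin.rev_injective e))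
        (fun e => h3 (by rw [hy, ← e, Fin.rev_rev])), map_one, one_mul]
  have hdet : (Matrix.diagonal d).det = 1 := by
    rw [Matrix.det_diagonal, ← Finset.prod_subset (Finset.subset_univ ({b, b.rev, y} : Finset (Fin k))) fun z _ hz => ?_]
    · rw [Finset.prod_insert (by simp [hb, hyb.symm]), Finset.prod_pair hyb'.symm, hb1, hb2, hy1]
      field_simp
    · simp only [Finset.mem_insert, Finset.mem_singleton, not_or] at hz
      exact hz1 z hz.1 hz.2.1 hz.2.2
  refine ⟨Matrix.GeneralLinearGroup.mkOfDetNeZero (Matrix.diagonal d) (hdet.trans_ne one_ne_zero), ⟨?_, hdet⟩,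
    fun p r hpr => Matrix.diagonal_apply_ne _ hpr, (Matrix.diagonal_apply_eq _ _).trans hb1,
    (Matrix.diagonal_apply_eq _ _).trans hy1, (Matrix.diagonal_apply_eq _ _).trans hb2,
    fun z h1 h2 h3 => (Matrix.diagonal_apply_eq _ _).trans (hz1 z h1 h2 h3)⟩
  show (unitaryFrame hF k).adj1 (Matrix.diagonal d) * Matrix.diagonal d = 1
  ext p r
  rw [Matrix.mul_diagonal, Frame.adj1_apply]
  show (1 : F) * 1 * frob hF _ * _ = _
  by_cases h : p = r
  · subst h; rw [Matrix.diagonal_apply_eq, Matrix.one_apply_eq, one_mul, one_mul, hprod]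
  · rw [Matrix.diagonal_apply_ne _ (fun e => h (Fin.rev_injective e).symm), map_zero, mul_zero, zero_mul,
      Matrix.one_apply_ne h]

/-- The tools for the unitary frame. -/
theorem unitary_tools (hk : 3 ≤ k) (hex : ¬ (q = 2 ∧ k = 3)) {a : Fin k} (ha0 : (a : ℕ) = 0) :
    Tools (unitaryFrame hF k) a ∧ PatTools (unitaryFrame hF k) := by
  classical
  set Φ := unitaryFrame hF k with hΦ
  obtain ⟨γ, hγ, hγs⟩ := exists_skew hF
  have hL : Φ.Lng γ := by show γ + 1 * frob hF γ = 0; rwa [one_mul]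
  obtain ⟨c, hc⟩ := exists_trace_one hF
  have hd : Φ.HalfTrace := Φ.halfTrace_of (c := c) (by show c + frob hF c = 1; rwa [add_comm])
  obtain ⟨ω, hω⟩ : ∃ ω, frob hF ω ≠ ω := by
    by_contra h
    push Not at h
    exact frob_ne_id hF (RingHom.ext h)
  have hq := q_gt hF
  have hq3 : k = 3 → 3 ≤ q := fun h => by
    by_contra h'
    exact hex ⟨by omega, h⟩
  have ha : a ≠ a.rev := fun e => by
    have := congrArg Fin.val e; rw [Fin.val_rev] at this; omega
  have hω0 : ω ≠ 0 := fun h => hω (by rw [h, map_zero])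
  have hne3 : ∀ x y : Fin k, k = 3 → x ≠ x.rev → y = y.rev → ∀ z, z = x ∨ z = x.rev ∨ z = y := by
    intro x y h3 hx hy z
    by_contra h
    push Not at h
    obtain ⟨h1, h2, h3'⟩ := h
    have e1 : (x : ℕ) ≠ x.rev := fun e => hx (Fin.ext e)
    have e2 := congrArg Fin.val hy
    have e3 : (z : ℕ) ≠ x := fun e => h1 (Fin.ext e)
    have e4 : (z : ℕ) ≠ x.rev := fun e => h2 (Fin.ext e)
    have e5 : (z : ℕ) ≠ y := fun e => h3' (Fin.ext e)
    have := x.isLt; have := y.isLt; have := z.isLt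
    simp only [Fin.val_rev] at e1 e2 e4
    omega
  have hpt : ∀ x : Fin k, x ≠ x.rev → Φ.PointTools x := by
    intro x hx
    refine Φ.pointTools_of hd hγ hL hx ?_ ?_
    · intro y hy
      rcases Nat.lt_or_ge k 4 with h | h
      · have h3 : k = 3 := by omega
        obtain ⟨⟨α, hα, hαne⟩, -⟩ := exists_alpha hF (hq3 h3)
        obtain ⟨s, hs, hsd, h1, h2, -, -⟩ := exists_torus hF hx hy hα
        refine ⟨s, hs, hsd, ?_⟩
        rw [h1, h2]
        intro e
        refine hαne ?_
        field_simp at e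
        exact e
      · have h5 : 5 ≤ k := by
          have := congrArg Fin.val hy
          rw [Fin.val_rev] at this
          omega
        obtain ⟨b, hb, hbb⟩ := exists_iso_notMem (s := {x, x.rev}) (k := k) (by rw [Finset.card_pair hx]; omega)
        simp only [Finset.mem_insert, Finset.mem_singleton, not_or] at hb
        obtain ⟨s, hs, hsd, -, h2, -, h4⟩ := exists_torus hF hbb hy hω0
        refine ⟨s, hs, hsd, ?_⟩
        rw [h4 x (fun e => hb.1 e.symm) (fun e => hb.2 (by rw [e, Fin.rev_rev])) (fun e => hx (e ▸ hy)), h2, inv_one,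
          one_mul]
        intro e
        exact hω ((div_eq_one_iff_eq hω0).1 e)
    · rcases Nat.lt_or_ge k 4 with h | h
      · right
        have h3 : k = 3 := by omega
        obtain ⟨-, α, hα, hαne⟩ := exists_alpha hF (hq3 h3)
        obtain ⟨y, hy⟩ : ∃ y : Fin k, y = y.rev := ⟨⟨1, by omega⟩, Fin.ext (by rw [Fin.val_rev]; simp; omega)⟩
        obtain ⟨s, hs, hsd, h1, -, h3', -⟩ := exists_torus hF hx hy hα
        refine ⟨s, hs, hsd, ?_⟩
        rw [h1, h3']
        intro e
        refine hαne ?_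
        conv_lhs => arg 1; rw [e]
        exact inv_mul_cancel₀ (by simpa using hα)
      · exact Or.inl h
  refine ⟨⟨ha, hpt, Φ.transitive_of hγ hL (hpt a ha), ⟨fun _ => ha0, fun h3 _ => ?_⟩, ⟨⟨γ, hγ, hL⟩, ?_⟩⟩, Or.inl ⟨ω, hω⟩⟩
  · obtain ⟨-, α, hα, hαne⟩ := exists_alpha hF (hq3 h3)
    exact ⟨γ, α * frob hF α, hγ, hL, by show frob hF _ = _; rw [map_mul, frob_frob, mul_comm],
      mul_ne_zero hα (by simpa using hα), hαne⟩
  · rcases Nat.lt_or_ge k 4 with h | h
    · have h3 : k = 3 := by omega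
      obtain ⟨⟨α, hα, hαne⟩, β, hβ, hβne⟩ := exists_alpha hF (hq3 h3)
      obtain ⟨y, hy⟩ : ∃ y : Fin k, y = y.rev := ⟨⟨1, by omega⟩, Fin.ext (by rw [Fin.val_rev]; simp; omega)⟩
      obtain ⟨s, hs, hsd, h1, h2, h3', -⟩ := exists_torus hF ha hy hα
      left
      refine ⟨⟨β * frob hF β, by show frob hF _ = _; rw [map_mul, frob_frob, mul_comm],
        mul_ne_zero hβ (by simpa using hβ), hβne⟩, Or.inr ⟨s, hs, hsd, fun p r hpr hne => ?_⟩⟩
      have hσα : frob hF α ≠ 0 := by simpa using hα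
      have n1 : α ≠ frob hF α / α := fun e => hαne (by field_simp at e; linear_combination -e)
      have n2 : frob hF α / α ≠ (frob hF α)⁻¹ := fun e => hαne (by
        field_simp at e
        have := congrArg (frob hF) e
        rw [map_pow, frob_frob] at this
        linear_combination -this)
      rcases hne3 a y h3 ha hy p with hp | hp | hp <;> rcases hne3 a y h3 ha hy r with hr | hr | hr <;> subst hp <;>
        subst hr
      all_goals first
        | exact absurd rfl hne
        | exact absurd rfl hpr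
        | exact absurd (Fin.rev_rev _) hpr
        | exact absurd hy.symm hpr
        | (rw [h1, h2]; exact n1)
        | (rw [h2, h1]; exact Ne.symm n1)
        | (rw [h2, h3']; exact n2)
        | (rw [h3', h2]; exact Ne.symm n2)
    · exact Or.inr (Or.inr ⟨h, ω, hω⟩)

/-- The standard antidiagonal Gram matrix. -/
def antiJ (k : ℕ) (F : Type*) [Field F] : Matrix (Fin k) (Fin k) F :=
  Matrix.of fun x y => if y = x.rev then 1 else 0

include hF in
/-- A basis with antidiagonal Gram matrix. -/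
theorem exists_anti {f : (Fin k → F) → (Fin k → F) → F} (hf : Cfsg.Geo.IsUnitaryFormPow q f) :
    ∃ C : GL (Fin k) F, (C : Mm)ᵀ * Cfsg.Geo.gramMatrix f * (C : Mm).map (frob hF) = antiJ k F := by
  classical
  let σ : F ≃+* F := RingEquiv.ofBijective (frob hF)
    ⟨(frob hF).injective, fun x => ⟨frob hF x, frob_frob hF x⟩⟩
  have hne : σ ≠ RingEquiv.refl F := fun h => frob_ne_id hF (RingHom.ext fun x => by
    show σ x = x; rw [h]; rfl)
  have hinv : ∀ x, σ (σ x) = x := frob_frob hF
  set M := Cfsg.Geo.gramMatrix f with hM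
  have hswap : ∀ x y, f x y = σ (f y x) := fun x y => by rw [hf.herm]; exact (frob_apply hF _).symm
  have hherm : Mᵀ = M.map σ := by
    ext x y
    exact hswap _ _
  have hleft : ∀ (w : Fin k → F) (u : Fin k → F), f w u = ∑ b, w b * f (Pi.single b 1) u := by
    intro w u
    let L : (Fin k → F) →ₗ[F] F :=
      { toFun := fun w => f w u, map_add' := fun x y => hf.add_left x y u, map_smul' := fun c x => hf.smul_left c x u }
    have : L w = ∑ b, w b * L (Pi.single b 1) := by
      conv_lhs => rw [pi_eq_sum_univ' w]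
      simp [map_sum, Pi.single_apply]
    exact this
  have hu : IsUnit M := by
    rw [← Matrix.vecMul_injective_iff_isUnit]
    refine (injective_iff_map_eq_zero (Matrix.vecMulLinear M)).2 fun w hw => ?_
    by_contra h0
    obtain ⟨-, x, hx⟩ := hf.nondegenerate w h0
    refine hx ?_
    rw [hswap, hleft]
    have e : ∀ b, f (Pi.single b 1) w = 0 := fun b => by
      rw [hswap, hleft]
      have : (w ᵥ* M) b = 0 := congrFun hw b
      simp only [Matrix.vecMul, dotProduct, M, Cfsg.Geo.gramMatrix] at this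
      rw [this, map_zero]
    simp [e]
  have hJh : (antiJ k F)ᵀ = (antiJ k F).map σ := by
    ext x y
    simp only [Matrix.transpose_apply, Matrix.map_apply, antiJ, Matrix.of_apply]
    have : x = y.rev ↔ y = x.rev := ⟨fun e => by rw [e, Fin.rev_rev], fun e => by rw [e, Fin.rev_rev]⟩
    simp only [this]
    split <;> simp
  have hJJ : antiJ k F * antiJ k F = 1 := by
    ext x y
    rw [Matrix.mul_apply, Finset.sum_eq_single x.rev]
    · simp [antiJ, Matrix.one_apply, eq_comm]
    · intro z _ hz; simp [antiJ, hz]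
    · simp
  obtain ⟨C₁, h1⟩ := exists_orthonormal hne hinv hu hherm
  obtain ⟨C₂, h2⟩ := exists_orthonormal hne hinv ⟨⟨_, _, hJJ, hJJ⟩, rfl⟩ hJh
  refine ⟨C₁ * C₂⁻¹, ?_⟩
  have hmap : ∀ A B : Mm, (A * B).map (frob hF) = A.map (frob hF) * B.map (frob hF) := fun A B => Matrix.map_mul
  have h1' : (C₁ : Mm)ᵀ * M * (C₁ : Mm).map (frob hF) = 1 := h1
  have h2' : (C₂ : Mm)ᵀ * antiJ k F * (C₂ : Mm).map (frob hF) = 1 := h2
  rw [Units.val_mul, Matrix.transpose_mul, hmap]
  calc _ = ((C₂⁻¹ : GL (Fin k) F) : Mm)ᵀ * ((C₁ : Mm)ᵀ * M * (C₁ : Mm).map (frob hF)) *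
        ((C₂⁻¹ : GL (Fin k) F) : Mm).map (frob hF) := by simp only [mul_assoc]
    _ = ((C₂⁻¹ : GL (Fin k) F) : Mm)ᵀ * ((C₂ : Mm)ᵀ * antiJ k F * (C₂ : Mm).map (frob hF)) *
        ((C₂⁻¹ : GL (Fin k) F) : Mm).map (frob hF) := by rw [h1', h2']
    _ = ((C₂ : Mm) * ((C₂⁻¹ : GL (Fin k) F) : Mm))ᵀ * antiJ k F *
        ((C₂ : Mm) * ((C₂⁻¹ : GL (Fin k) F) : Mm)).map (frob hF) := by
          rw [Matrix.transpose_mul, hmap]; simp only [mul_assoc]
    _ = antiJ k F := by rw [Units.mul_inv, Matrix.transpose_one, Matrix.map_one _ (map_zero _) (map_one _), one_mul, mul_one]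

include hF in
open Cfsg.Geo in
/-- The stabiliser of a tensor power of unitary spaces is maximal. -/
theorem unitary_tensorWreath_maximal {n : ℕ} (hk : 3 ≤ k) (ht : 2 ≤ t) (hex : ¬ (q = 2 ∧ k = 3))
    (e : Fin n ≃ (Fin t → Fin k)) (P : GL (Fin n) F) (f₁ : (Fin k → F) → (Fin k → F) → F)
    (hf₁ : IsUnitaryFormPow q f₁)
    (hT : IsTensorPowerFormStructure (fun x : F => x ^ q) (Cfsg.hermForm n F q) f₁ e P) :
    IsMaximalIn (Cfsg.GU n F q ⊓ specialLinear (Fin n) F)
      (tensorWreathSubgroup k t e P ⊓ (Cfsg.GU n F q ⊓ specialLinear (Fin n) F)) := by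
  classical
  haveI : NeZero k := ⟨by omega⟩
  set Φ := unitaryFrame hF k with hΦ
  obtain ⟨C, hC⟩ := exists_anti hF hf₁
  rw [← tensorWreath_newFrame e P C]
  set P' := newFrame e P C with hP'
  obtain ⟨c, hc, hform⟩ := hT
  -- the form in the new frame
  have hform' : ∀ x y : (Fin t → Fin k) → F,
      Cfsg.hermForm n F q ((P' : Matrix (Fin n) (Fin n) F) *ᵥ (x ∘ e)) ((P' : Matrix (Fin n) (Fin n) F) *ᵥ (y ∘ e)) =
        c * (Φ.qT y ⬝ᵥ x) := by
    intro x y
    rw [hP', newFrame_mulVec, newFrame_mulVec, hform]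
    congr 1
    set U : MT := ((pureGL fun _ => C : GL (Fin t → Fin k) F) : MT) with hU
    have hUv : U = pureMat fun _ => (C : Mm) := rfl
    have h1 : ∑ a, ∑ b, (U *ᵥ x) a * (∏ i, gramMatrix f₁ (a i) (b i)) * (U *ᵥ y) b ^ q =
        (U *ᵥ x) ⬝ᵥ (pureMat (fun _ => gramMatrix f₁) *ᵥ (fun b => frob hF ((U *ᵥ y) b))) := by
      simp only [dotProduct, Matrix.mulVec, pureMat_apply, Finset.mul_sum, frob_apply hF, mul_assoc]
    have h2 : (fun b => frob hF ((U *ᵥ y) b)) = U.map (frob hF) *ᵥ (fun b => frob hF (y b)) := by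
      funext b; simp [Matrix.mulVec, dotProduct, map_sum]
    have h3 : Uᵀ * pureMat (fun _ => gramMatrix f₁) * U.map (frob hF) = pureMat fun _ => antiJ k F := by
      have eT : Uᵀ = pureMat fun _ => (C : Mm)ᵀ := by ext p r; simp [hUv, pureMat_apply]
      have eM : U.map (frob hF) = pureMat fun _ => (C : Mm).map (frob hF) := by
        ext p r; simp [hUv, pureMat_apply, map_prod]
      rw [eT, eM, pureMat_mul, pureMat_mul]
      exact congrArg pureMat (funext fun _ => hC)
    rw [h1, h2, Matrix.mulVec_mulVec, ← Matrix.vecMul_transpose, ← Matrix.dotProduct_mulVec, Matrix.mulVec_mulVec,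
      ← mul_assoc, h3, dotProduct_comm (Φ.qT y)]
    congr 1
    funext p
    rw [Matrix.mulVec, dotProduct, Finset.sum_eq_single (Fin.rev ∘ p)]
    · rw [pureMat_apply, Finset.prod_eq_one (fun i _ => by simp [antiJ]), one_mul]
      simp [Frame.qT, Frame.sgT, Φ, unitaryFrame]
    · intro z _ hz
      obtain ⟨i, hi⟩ : ∃ i, z i ≠ (p i).rev := by
        by_contra h
        push Not at h
        exact hz (funext h)
      rw [pureMat_apply, Finset.prod_eq_zero (Finset.mem_univ i) (by simp [antiJ, hi]), zero_mul]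
    · simp
  clear_value P'
  have heps : Φ.eps ^ t = 1 := one_pow t
  have hsingle : ∀ x : Fin t → Fin k, Φ.qT (Pi.single x 1) ⬝ᵥ Pi.single (Fin.rev ∘ x) 1 = 1 := by
    intro x
    have : (Fin.rev ∘ (Fin.rev ∘ x)) = x := Frame.revT_inv x
    simp [Frame.qT, Frame.sgT, Φ, unitaryFrame, this]
  have hcσ : frob hF c = c := by
    let x : Fin t → Fin k := fun _ => 0
    have h1 := hform' (Pi.single (Fin.rev ∘ x) 1) (Pi.single x 1)
    have h2 := hform' (Pi.single x 1) (Pi.single (Fin.rev ∘ x) 1)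
    rw [hsingle] at h1
    rw [Φ.qT_dot, heps, one_mul, hsingle, map_one, mul_one] at h2
    rw [mul_one] at h1
    have h3 := h_swap hF ((P' : Matrix (Fin n) (Fin n) F) *ᵥ (Pi.single (Fin.rev ∘ x) 1 ∘ e))
      ((P' : Matrix (Fin n) (Fin n) F) *ᵥ (Pi.single x 1 ∘ e))
    rwa [h1, h2] at h3
  have hext : ∀ w : Fin n → F, ∃ x : (Fin t → Fin k) → F, w = (P' : Matrix (Fin n) (Fin n) F) *ᵥ (x ∘ e) := by
    intro w
    refine ⟨(((P'⁻¹ : GL (Fin n) F) : Matrix (Fin n) (Fin n) F) *ᵥ w) ∘ e.symm, ?_⟩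
    rw [Function.comp_assoc, Equiv.symm_comp_self, Function.comp_id, Matrix.mulVec_mulVec, Units.mul_inv,
      Matrix.one_mulVec]
  have hiso : ∀ g : GL (Fin t → Fin k) F, frU e P' g ∈ Cfsg.GU n F q ↔ Φ.Iso g := by
    intro g
    constructor
    · intro hg
      refine Matrix.ext_of_mulVec_single fun x => funext fun z => ?_
      have h1 := fun y => hg ((P' : Matrix (Fin n) (Fin n) F) *ᵥ ((Pi.single x 1 : (Fin t → Fin k) → F) ∘ e))
        ((P' : Matrix (Fin n) (Fin n) F) *ᵥ (y ∘ e))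
      simp only [Units.coeHom_apply, frU_mulVec, hform', mul_eq_mul_left_iff, hc, or_false] at h1
      simp only [Φ.qT_mulVec, ← Matrix.dotProduct_mulVec, Matrix.mulVec_mulVec] at h1
      have h2 := h1 (Pi.single (Fin.rev ∘ z) 1)
      have hq : Φ.qT (Pi.single (Fin.rev ∘ z) 1) = Pi.single z 1 := by
        funext w
        have hw : (Fin.rev ∘ w = Fin.rev ∘ z) ↔ w = z := ⟨fun h => Frame.revT_inv.injective h, fun h => by rw [h]⟩
        by_cases h : w = z
        · subst h; simp [Frame.qT, Frame.sgT, Φ, unitaryFrame]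
        · simp [Frame.qT, Frame.sgT, Φ, unitaryFrame, Pi.single_apply, hw, h]
      rw [hq, single_one_dotProduct, single_one_dotProduct] at h2
      rwa [Matrix.one_mulVec]
    · intro hg u v
      obtain ⟨x, rfl⟩ := hext u
      obtain ⟨y, rfl⟩ := hext v
      simp only [Units.coeHom_apply, frU_mulVec, hform']
      simp only [Φ.qT_mulVec, ← Matrix.dotProduct_mulVec, Matrix.mulVec_mulVec]
      rw [show Φ.adj (g : MT) * (g : MT) = 1 from hg, Matrix.one_mulVec]
  obtain ⟨γ, hγ, hγs⟩ := exists_skew hF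
  have hL : Φ.Lng γ := by show γ + 1 * frob hF γ = 0; rwa [one_mul]
  obtain ⟨cc, hcc⟩ := exists_trace_one hF
  have hcc' : cc + Φ.σ cc = 1 := by show cc + frob hF cc = 1; rwa [add_comm]
  set a : Fin k := ⟨0, by omega⟩ with ha
  obtain ⟨hTools, hPat⟩ := unitary_tools hF hk hex (a := a) rfl
  have hSL : ∀ g : GL (Fin t → Fin k) F, frU e P' g ∈ specialLinear (Fin n) F ↔ (g : MT).det = 1 := by
    intro g
    rw [specialLinear, MonoidHom.mem_ker, Units.ext_iff]
    show ((frU e P' g : GL (Fin n) F) : Matrix (Fin n) (Fin n) F).det = 1 ↔ _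
    rw [det_frU]
  refine ⟨lt_of_le_of_ne inf_le_right fun h => ?_, fun G hG hGS => ?_⟩
  · -- a transvection outside
    have hne : (fun _ : Fin t => a) ≠ fun _ : Fin t => a.rev := fun e => hTools.ne (congrFun e ⟨0, by omega⟩)
    let g : GL (Fin t → Fin k) F := one_add (Matrix.single (fun _ => a) (fun _ => a.rev) γ) (Matrix.single_mul_single_of_ne _ _ _ _ (Ne.symm hne) _)
    have hgi : Φ.Iso g := by
      show Φ.adj (1 + _) * (1 + _) = (1 : MT)
      rw [Φ.adj_add, Φ.adj_one, Φ.adj_single]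
      have e1 : (Fin.rev ∘ fun _ : Fin t => a.rev) = fun _ => a := funext fun _ => Fin.rev_rev a
      have e2 : (Fin.rev ∘ fun _ : Fin t => a) = fun _ => a.rev := rfl
      rw [e1, e2]
      have hs : (Φ.sgT (fun _ : Fin t => a) * Φ.sgT (fun _ : Fin t => a.rev) * Φ.σ γ) = -γ := by
        simp only [Frame.sgT, Φ, unitaryFrame, Finset.prod_const_one, one_mul]
        linear_combination hγs
      rw [hs, ← Matrix.single_neg]
      simp [add_mul, mul_add, Matrix.single_mul_single_of_ne _ _ _ _ (Ne.symm hne)]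
    have hgd : (g : MT).det = 1 := Matrix.det_transvection_of_ne _ _ hne γ
    have hmem : frU e P' g ∈ tensorWreathSubgroup k t e P' := by
      have : frU e P' g ∈ Cfsg.GU n F q ⊓ specialLinear (Fin n) F := ⟨(hiso g).2 hgi, (hSL g).2 hgd⟩
      rw [← h] at this
      exact this.1
    rw [tensorWreathSubgroup, map_glReindex_conj] at hmem
    obtain ⟨g', hg', he⟩ := hmem
    obtain rfl : g' = g := (frU e P').injective he
    exact not_isWr_transvection ht hTools.ne hγ (g := g) rfl (mem_std_iff.1 hg')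
  by_cases hin : G ≤ tensorWreathSubgroup k t e P'
  · exact Or.inl (le_antisymm (le_inf hin hGS) hG)
  refine Or.inr (le_antisymm hGS ?_)
  rw [tensorWreathSubgroup, map_glReindex_conj] at hG hin
  let K := G.comap (frU e P').toMonoidHom
  have hK : ∀ g : GL (Fin t → Fin k) F, IsWr g → Φ.Iso g → (g : MT).det = 1 → g ∈ K := fun g hg hi hd =>
    hG ⟨⟨g, mem_std_iff.2 hg, rfl⟩, (hiso g).2 hi, (hSL g).2 hd⟩
  have hswap : 3 ≤ t → ∀ x y : Fin t, x ≠ y →
      ∃ A : Fin t → GL (Fin k) F, pureGL A * permGL k F (Equiv.swap x y) ∈ K := by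
    intro ht3 x y hxy
    have hone : (pureGL 1 * permGL k F (Equiv.swap x y) : GL (Fin t → Fin k) F) = permGL k F (Equiv.swap x y) := by
      rw [pureGL_one, one_mul]
    by_cases hsign : (permGL k F (Equiv.swap x y) : MT).det = 1
    · exact ⟨1, hone.symm ▸ hK _ ⟨1, _, hone.symm⟩ (Φ.iso_perm _) hsign⟩
    have hodd : Odd k := by
      rcases Nat.even_or_odd k with hev | hodd
      · rw [det_permGL, sign_idxPerm_swap hev ht3 hxy] at hsign
        simp at hsign
      · exact hodd
    have hd : (permGL k F (Equiv.swap x y) : MT).det = -1 := by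
      rcases Int.units_eq_one_or (Equiv.Perm.sign (idxPerm k (Equiv.swap x y))) with h | h
      · rw [det_permGL, h] at hsign; simp at hsign
      · rw [det_permGL, h]; simp
    have hneg : Φ.Iso1 (-1 : GL (Fin k) F) := by
      show Φ.adj1 ((-1 : GL (Fin k) F) : Mm) * ((-1 : GL (Fin k) F) : Mm) = 1
      rw [Units.val_neg, Units.val_one, show (-1 : Mm) = (-1 : F) • (1 : Mm) by simp, Φ.adj1_smul, Φ.adj1_one]
      simp
    refine ⟨Function.update 1 x (-1), hK _ ⟨_, _, rfl⟩ ?_ ?_⟩
    · rw [← fu_eq]; exact (Φ.iso_fu x hneg).mul _ (Φ.iso_perm _)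
    · rw [Units.val_mul, det_mul, ← fu_eq, fu_val, det_fa, hd, Units.val_neg, Units.val_one, Matrix.det_neg,
        Matrix.det_one, mul_one, Fintype.card_fin, ← pow_mul, (hodd.mul hodd.pow).neg_one_pow]
      simp
  have hH : Φ.Hyp K := by
    refine ⟨fun g hg => (hiso g).1 (hGS hg).1, fun i s hs => hK _ (isWr_fu i s) (Φ.iso_fu i hs.1)
      (by rw [fu_val, det_fa, hs.2, one_pow]), ⟨fun i j l hij hli hlj => ?_, fun i j l hji hli => ?_⟩⟩
    · have ht3 : 3 ≤ t := by
        by_contra h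
        have h1 := i.isLt; have h2 := j.isLt; have h3 := l.isLt
        have n1 : (i : ℕ) ≠ j := fun e => hij (Fin.ext e)
        have n2 : (l : ℕ) ≠ i := fun e => hli (Fin.ext e)
        have n3 : (l : ℕ) ≠ j := fun e => hlj (Fin.ext e)
        omega
      obtain ⟨A, hA⟩ := hswap ht3 i j hij
      exact ⟨A, _, Equiv.swap_apply_left i j, fun x hxi hxj _ => Equiv.swap_apply_of_ne_of_ne hxi hxj, hA⟩
    · by_cases hjl : j = l
      · exact ⟨1, 1, rfl, hjl, by rw [pureGL_one, permGL_one, one_mul]; exact one_mem K⟩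
      have ht3 : 3 ≤ t := by
        by_contra h
        have h1 := i.isLt; have h2 := j.isLt; have h3 := l.isLt
        have n1 : (j : ℕ) ≠ i := fun e => hji (Fin.ext e)
        have n2 : (l : ℕ) ≠ i := fun e => hli (Fin.ext e)
        have n3 : (j : ℕ) ≠ l := fun e => hjl (Fin.ext e)
        omega
      obtain ⟨A, hA⟩ := hswap ht3 j l hjl
      exact ⟨A, _, Equiv.swap_apply_of_ne_of_ne hji.symm hli.symm, Equiv.swap_apply_left j l, hA⟩
  rcases wr_or_transvections hk ht hH hTools hPat rfl hγ hL hcc' with h | h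
  · refine absurd (fun g hg => ?_) hin
    exact ⟨(frU e P').symm g, h (show frU e P' ((frU e P').symm g) ∈ G by rwa [MulEquiv.apply_symm_apply]),
      MulEquiv.apply_symm_apply _ _⟩
  have hn : 4 ≤ n := by
    have := Fintype.card_congr e
    simp only [Fintype.card_fin, Fintype.card_fun] at this
    rw [this]
    calc 4 ≤ 3 ^ 2 := by norm_num
      _ ≤ k ^ t := (Nat.pow_le_pow_left hk 2).trans (Nat.pow_le_pow_right (by omega) ht)
  refine SU_le_of_ctr (hF := hF) hn ?_
  intro v hv g d hd hg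
  obtain ⟨x, rfl⟩ := hext v
  rw [hform'] at hv
  obtain ⟨g₀, hg₀, hg₀v⟩ := h x ((mul_eq_zero.1 hv).resolve_left hc) (d * c) (by
    rw [heps, one_mul]
    show d * c + frob hF (d * c) = 0
    rw [map_mul, hcσ]
    linear_combination c * hd)
  suffices g = frU e P' g₀ by rw [this]; exact hg₀
  refine Units.ext (Matrix.ext_of_mulVec_single fun p => ?_)
  obtain ⟨y, hy⟩ := hext (Pi.single p 1)
  rw [hg, tmat_mulVec, hy, frU_mulVec, hform', hg₀v, Matrix.add_mulVec, Matrix.one_mulVec, Matrix.smul_mulVec,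
    Matrix.vecMulVec_mulVec, op_smul_eq_smul, smul_smul, show (y + (d * c * (Φ.qT x ⬝ᵥ y)) • x) ∘ e =
      y ∘ e + (d * c * (Φ.qT x ⬝ᵥ y)) • (x ∘ e) from rfl, Matrix.mulVec_add, Matrix.mulVec_smul, mul_assoc d c]

end CfsgLib.MaxSub.TensorForm
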