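import Cfsg.Agent.Lib.MaxSub.TensorForm.Hyper

/-!
The algebra generated by long root blocks of square zero acts on the radical rows; its symmetries.
-/

set_option autoImplicit false
set_option maxHeartbeats 1000000
set_option linter.unusedSectionVars false
set_option linter.unusedSimpArgs false

namespace CfsgLib.MaxSub.TensorForm

open Matrix
open CfsgLib.Aschbacher CfsgLib.MaxSub.TensorPow

variable {F : Type*} [Field F] {k t : ℕ}

local notation "Mm" => Matrix (Fin k) (Fin k) F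
local notation "MT" => Matrix (Fin t → Fin k) (Fin t → Fin k) F
local notation "E[" i "](" a "," b ")" => fa i (Matrix.single a b (1 : F))

/-- Matrices of square zero with a multiple on a long root position. -/
def sqLong (G : Subgroup (GL (Fin t → Fin k) F)) (i : Fin t) (a : Fin k) :
    Set (Matrix (Fin t → Fin k) (Fin t → Fin k) F) :=
  {M | M * M = 0 ∧ ∃ ρ : F, ρ ≠ 0 ∧ IsLong G i a (ρ • M)}

/-- The algebra acting on the rows. -/
noncomputable def rowAlg (G : Subgroup (GL (Fin t → Fin k) F)) (i : Fin t) (a : Fin k) :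
    Subalgebra F (Matrix (Fin t → Fin k) (Fin t → Fin k) F) :=
  Algebra.adjoin F (sqLong G i a)

variable {Φ : Frame F k} {G : Subgroup (GL (Fin t → Fin k) F)} {i : Fin t} {a : Fin k} [NeZero k]

theorem sqLong.cent {M : MT} (h : M ∈ sqLong G i a) (X : Mm) : Commute M (fa i X) := by
  obtain ⟨-, ρ, hρ, hL⟩ := h
  simpa [smul_smul, inv_mul_cancel₀ hρ] using (hL.1 X).smul_left ρ⁻¹

theorem rowAlg.cent {A : MT} (h : A ∈ rowAlg G i a) (X : Mm) : Commute A (fa i X) := by
  induction h using Algebra.adjoin_induction with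
  | mem x hx => exact sqLong.cent hx X
  | algebraMap c => exact Algebra.commute_algebraMap_left c _
  | add x y _ _ hx hy => exact hx.add_left hy
  | mul x y _ _ hx hy => exact hx.mul_left hy

/-- Every element of the algebra times a scalar row is a row. -/
theorem rowAlg.row (hH : Φ.Hyp G) (hT : Φ.PointTools a) {γ : F} (hγ : γ ≠ 0) (hL : Φ.Lng γ) {A : MT}
    (h : A ∈ rowAlg G i a) (c : Fin k → F) : IsRow G i a (fun v => c v • A) := by
  have h1 : ∀ A ∈ Submonoid.closure (sqLong G i a), ∀ c : Fin k → F, IsRow G i a (fun v => c v • A) := by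
    intro A hA
    induction hA using Submonoid.closure_induction_left with
    | one => exact fun c => IsRow.scalar hH hT c
    | mul_left M hM y _ ih =>
      intro c
      obtain ⟨hM2, ρ, hρ, hML⟩ := hM
      have h2 : (ρ • M) * (ρ • M) = 0 := by rw [Matrix.smul_mul, Matrix.mul_smul, hM2, smul_zero, smul_zero]
      refine (IsRow.mul_left hH hT.ne hγ hL hML h2 (ih fun v => γ * ρ⁻¹ * c v)).congr fun v _ => ?_
      rw [Matrix.mul_smul, Matrix.smul_mul, Matrix.smul_mul, smul_smul, smul_smul]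
      congr 1
      field_simp
  have h2 : A ∈ Submodule.span F (Submonoid.closure (sqLong G i a) : Set MT) := by
    rw [← Algebra.adjoin_eq_span]; exact h
  clear h
  revert c
  induction h2 using Submodule.span_induction with
  | mem x hx => exact h1 x hx
  | zero => exact fun c => (IsRow.zero G i a).congr fun v _ => (smul_zero _).symm
  | add x y _ _ hx hy =>
    exact fun c => (IsRow.add hT.ne (hx c) (hy c)).congr
      fun v _ => (smul_add _ _ _).symm
  | smul d x _ hx => exact fun c => (hx fun v => c v * d).congr fun v _ => mul_smul _ _ _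

/-- A matrix on a long root position is skew. -/
theorem IsLong.skew (hH : Φ.Hyp G) (ha : a ≠ a.rev) {Z : MT} (h : IsLong G i a Z) :
    Φ.eps • Φ.adj Z + Z = 0 := by
  obtain ⟨hc, g, hg, hgv⟩ := h
  have h1 : Φ.adj (g : MT) * (g : MT) = 1 := hH.iso g hg
  have hcd : ∀ X, Commute (Φ.adj Z) (fa i X) := Φ.adj_commute hc
  have hsk : E[i](a, a.rev) * (Φ.eps • Φ.adj Z + Z) = 0 := by
    rw [hgv, Φ.adj_add, Φ.adj_one, Φ.adj_mul, Φ.adj_fa, Φ.adj1_long, map_one, mul_one,
      show Matrix.single a a.rev Φ.eps = Φ.eps • Matrix.single a a.rev (1 : F) by simp, map_smul, Matrix.mul_smul,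
      (hcd _).eq] at h1
    simp only [add_mul, mul_add, one_mul, mul_one, Matrix.smul_mul] at h1
    rw [show E[i](a, a.rev) * Φ.adj Z * (E[i](a, a.rev) * Z) = 0 by
      rw [mul_assoc, ← mul_assoc (Φ.adj Z), (hcd _).eq, mul_assoc, ← mul_assoc, fs_mul, if_neg ha.symm, zero_mul],
      smul_zero, add_zero] at h1
    rw [mul_add, Matrix.mul_smul]
    have h3 := sub_eq_zero.2 h1
    rw [← h3]
    abel
  have := congrArg (fun M => bl i M a a.rev) hsk
  simpa [bl_fa_mul i _ (fun X => ((hcd X).smul_left Φ.eps).add_left (hc X)), bl_zero] using this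

theorem rowAlg.adj (hH : Φ.Hyp G) (ha : a ≠ a.rev) {A : MT} (h : A ∈ rowAlg G i a) :
    Φ.adj A ∈ rowAlg G i a := by
  induction h using Algebra.adjoin_induction with
  | mem M hM =>
    obtain ⟨hM2, ρ, hρ, hL⟩ := hM
    have h1 := hL.skew hH ha
    rw [Φ.adj_smul, smul_smul] at h1
    have hne : Φ.eps * Φ.σ ρ ≠ 0 := mul_ne_zero (left_ne_zero_of_mul_eq_one Φ.eps_sq) (by simpa using hρ)
    have h2 : Φ.adj M = (-((Φ.eps * Φ.σ ρ)⁻¹ * ρ)) • M := by
      rw [← inv_smul_smul₀ hne (Φ.adj M), eq_neg_of_add_eq_zero_left h1, smul_neg, smul_smul, neg_smul]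
    rw [h2]
    exact Subalgebra.smul_mem _ (Algebra.subset_adjoin (show M ∈ sqLong G i a from ⟨hM2, ρ, hρ, hL⟩)) _
  | algebraMap c =>
    rw [Algebra.algebraMap_eq_smul_one, Φ.adj_smul, Φ.adj_one]
    exact Subalgebra.smul_mem _ (one_mem _) _
  | add x y _ _ hx hy => rw [Φ.adj_add]; exact add_mem hx hy
  | mul x y _ _ hx hy => rw [Φ.adj_mul]; exact mul_mem hy hx

/-- The algebra is invariant under a conjugation preserving its generators. -/
theorem rowAlg.map (g : GL (Fin t → Fin k) F) (hg : ∀ M ∈ sqLong G i a, Ad g M ∈ sqLong G i a)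
    {A : MT} (h : A ∈ rowAlg G i a) : Ad g A ∈ rowAlg G i a := by
  induction h using Algebra.adjoin_induction with
  | mem M hM => exact Algebra.subset_adjoin (hg M hM)
  | algebraMap c =>
    rw [Algebra.algebraMap_eq_smul_one, map_smul, Ad_apply, mul_one, Units.mul_inv]
    exact Subalgebra.smul_mem _ (one_mem _) _
  | add x y _ _ hx hy => rw [map_add]; exact add_mem hx hy
  | mul x y _ _ hx hy => rw [Ad_mul_apply]; exact mul_mem hx hy

theorem rowAlg.invariant (hH : Φ.Hyp G) (ha : a ≠ a.rev) :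
    Invariant Φ i (rowAlg G i a).toSubmodule.toAddSubgroup := by
  refine ⟨fun A hA => rowAlg.cent hA, fun j hj s hs A hA => rowAlg.map (fu j s) (fun M hM => ?_) hA⟩
  obtain ⟨hM2, ρ, hρ, hL⟩ := hM
  refine ⟨by rw [← Ad_mul_apply, hM2, map_zero], ρ, hρ, ?_⟩
  rw [← map_smul]
  exact (long_invariant ha hH).conj j hj s hs _ hL

/-- A movement of the factors fixing one, preserving the algebra. -/
theorem rowAlg.move (hH : Φ.Hyp G) (ha : a ≠ a.rev) (hV : Φ.Transitive a) {γ : F} (hγ : γ ≠ 0) (hL : Φ.Lng γ)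
    {j l : Fin t} (hj : j ≠ i) (hl : l ≠ i) :
    ∃ (h : GL (Fin t → Fin k) F) (B : GL (Fin k) F),
      (∀ A ∈ rowAlg G i a, Ad h A ∈ rowAlg G i a) ∧
      ∀ Y, Ad h (fa j Y) = fa l ((B : Mm) * Y * ((B⁻¹ : GL (Fin k) F) : Mm)) := by
  obtain ⟨C, π, hπi, hπj, hg⟩ := hH.moves.fix i j l hj hl
  set g : GL (Fin t → Fin k) F := pureGL C * permGL k F π with hgdef
  set K : Mm := (C i : Mm) * Matrix.single a a.rev 1 * (((C i)⁻¹ : GL (Fin k) F) : Mm) with hK
  have hgE : Ad g (E[i](a, a.rev) : MT) = fa i K := by rw [hgdef, Ad_wr_fa, hπi]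
  have hKad : Φ.adj1 K = Φ.eps • K := by
    refine fa_injective (t := t) i ?_
    have h1 := (hH.iso g hg).adj_Ad (E[i](a, a.rev))
    rw [hgE, Φ.adj_fa, Φ.adj_fa, Φ.adj1_long, map_one, mul_one,
      show Matrix.single a a.rev Φ.eps = Φ.eps • Matrix.single a a.rev (1 : F) by simp, map_smul, map_smul, hgE] at h1
    rw [h1, map_smul]
  set v : Fin k → F := (C i : Mm) *ᵥ Pi.single a 1 with hv
  set φ : Fin k → F := γ • (Pi.single a.rev 1 ᵥ* (((C i)⁻¹ : GL (Fin k) F) : Mm)) with hφ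
  have hKv : γ • K = vecMulVec v φ := by rw [hK, conj_single, hφ, vecMulVec_smul]
  have hv0 : v ≠ 0 := by
    intro h0
    have h1 := congrArg ((((C i)⁻¹ : GL (Fin k) F) : Mm) *ᵥ ·) h0
    simp only [hv, Matrix.mulVec_mulVec, Units.inv_mul, Matrix.one_mulVec, Matrix.mulVec_zero] at h1
    simpa using congrFun h1 a
  have hφ0 : φ ≠ 0 := by
    intro h0
    have h1 := congrArg (· ᵥ* (C i : Mm)) ((smul_eq_zero.1 h0).resolve_left hγ)
    simp only [Matrix.vecMul_vecMul, Units.inv_mul, Matrix.vecMul_one, Matrix.zero_vecMul] at h1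
    simpa using congrFun h1 a.rev
  have hdot : φ ⬝ᵥ v = 0 := by
    rw [hφ, hv, smul_dotProduct, ← Matrix.dotProduct_mulVec, Matrix.mulVec_mulVec, Units.inv_mul, Matrix.one_mulVec]
    simp [ha.symm, ha]
  obtain ⟨μ, hμ, hφv, hvv⟩ := root_form hv0 hφ0 hdot (by
    rw [← hKv, Φ.adj1_smul, hKad, smul_smul, ← neg_smul]
    congr 1
    have hL' : γ + Φ.eps * Φ.σ γ = 0 := hL
    linear_combination hL')
  obtain ⟨s, ν, hν, hs, hsv⟩ := hV v hv0 hvv
  have hν' : Φ.sg a.rev * (ν * Φ.σ ν) ≠ 0 :=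
    mul_ne_zero (Φ.sg_ne _) (mul_ne_zero hν (by simpa using hν))
  set lam : F := γ⁻¹ * μ * (Φ.sg a.rev * (ν * Φ.σ ν))⁻¹ with hlam
  have hlam0 : lam ≠ 0 := mul_ne_zero (mul_ne_zero (inv_ne_zero hγ) hμ) (inv_ne_zero hν')
  have hKs : K = lam • ((s : Mm) * Matrix.single a a.rev 1 * ((s⁻¹ : GL (Fin k) F) : Mm)) := by
    rw [Φ.conj_long hs.1, hsv, Φ.qv_smul, smul_vecMulVec, vecMulVec_smul, smul_smul, smul_smul, smul_smul,
      ← inv_smul_smul₀ hγ K, hKv, hφv, vecMulVec_smul, smul_smul, hlam]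
    congr 1
    field_simp
    rw [div_self (mul_ne_zero (Φ.sg_ne _) (by simpa using hν))]
  set h : GL (Fin t → Fin k) F := (fu i s)⁻¹ * g with hhdef
  have hhG : h ∈ G := mul_mem (inv_mem (hH.roots i s hs)) hg
  have hhE : Ad h (E[i](a, a.rev) : MT) = lam • E[i](a, a.rev) := by
    rw [hhdef, Ad_mul, hgE, hKs, map_smul, map_smul, ← Ad_fu_fa, Ad_inv_cancel]
  have hcent : ∀ Z : MT, (∀ X, Commute Z (fa i X)) → ∀ X, Commute (Ad h Z) (fa i X) := by
    intro Z hZ X
    have e : fa i X = Ad h (fa i ((((C i)⁻¹ : GL (Fin k) F) : Mm) *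
        ((s : Mm) * X * ((s⁻¹ : GL (Fin k) F) : Mm)) * (C i : Mm)) : MT) := by
      rw [hhdef, Ad_mul, hgdef, Ad_wr_fa, hπi]
      simp only [mul_assoc, Units.mul_inv_cancel_left, Units.mul_inv, mul_one]
      rw [← mul_assoc (s : Mm), ← Ad_fu_fa, Ad_inv_cancel]
    rw [e, Commute, SemiconjBy, ← Ad_mul_apply, ← Ad_mul_apply, (hZ _).eq]
  refine ⟨h, C l, fun A hA => rowAlg.map h ?_ hA, fun Y => ?_⟩
  · rintro M ⟨hM2, ρ, hρ, hMc, g', hg', hgv'⟩
    refine ⟨by rw [← Ad_mul_apply, hM2, map_zero], lam * ρ, mul_ne_zero hlam0 hρ, ?_,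
      h * g' * h⁻¹, mul_mem (mul_mem hhG hg') (inv_mem hhG), ?_⟩
    · intro X
      have := (hcent _ hMc X).smul_left lam
      rwa [map_smul, smul_smul] at this
    · rw [Units.val_mul, Units.val_mul, hgv', ← Ad_apply, map_add, Ad_mul_apply, hhE, map_smul, Ad_apply, mul_one,
        Units.mul_inv]
      simp only [Matrix.mul_smul, Matrix.smul_mul, smul_smul, Ad_apply]
      rw [mul_comm lam ρ]
  · rw [hhdef, Ad_mul, hgdef, Ad_wr_fa, hπj, Ad_apply, inv_inv, ← map_inv, fu_val, fu_val,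
      (fa_commute hl.symm _ _).eq, mul_assoc, ← map_mul, Units.inv_mul, map_one, mul_one]

end CfsgLib.MaxSub.TensorForm
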