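import Cfsg.Agent.Lib.MaxSub.TensorForm.Frame

/-!
Block matrices with respect to one factor.
-/

set_option autoImplicit false
set_option maxHeartbeats 400000
set_option linter.unusedSectionVars false

namespace CfsgLib.MaxSub.TensorForm

open Matrix
open CfsgLib.Aschbacher CfsgLib.MaxSub.TensorPow

variable {F : Type*} [Field F] {k t : ℕ}

local notation "Mm" => Matrix (Fin k) (Fin k) F
local notation "MT" => Matrix (Fin t → Fin k) (Fin t → Fin k) F
local notation "E[" i "](" a "," b ")" => fa i (Matrix.single a b (1 : F))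

/-- The block at a position of the factor `i`. -/
noncomputable def bl (i : Fin t) (h : MT) (x y : Fin k) : MT := ∑ r, E[i](r, x) * h * E[i](y, r)

theorem fa_single_mul (i : Fin t) (a b c : Fin k) :
    (E[i](a, b) : MT) * E[i](b, c) = E[i](a, c) := by rw [fs_mul, if_pos rfl]

/-- The blocks commute with the factor. -/
theorem bl_commute (i : Fin t) (h : MT) (x y : Fin k) (X : Mm) : Commute (bl i h x y) (fa i X) := by
  rw [Matrix.matrix_eq_sum_single X, map_sum]
  refine Commute.sum_right _ _ _ fun p _ => ?_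
  rw [map_sum]
  refine Commute.sum_right _ _ _ fun q _ => ?_
  rw [show Matrix.single p q (X p q) = X p q • Matrix.single p q (1 : F) by simp, map_smul]
  refine Commute.smul_right ?_ _
  show bl i h x y * E[i](p, q) = E[i](p, q) * bl i h x y
  rw [bl, Finset.sum_mul, Finset.mul_sum, Finset.sum_eq_single p, Finset.sum_eq_single q]
  · simp only [mul_assoc, fs_mul, fs_mul', if_true]
  · intro r _ hr; simp [fs_mul', Ne.symm hr, mul_assoc]
  · simp
  · intro r _ hr; simp [fs_mul, hr, mul_assoc]
  · simp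

/-- A matrix is the sum of its blocks. -/
theorem bl_expand (i : Fin t) (h : MT) : h = ∑ x, ∑ y, E[i](x, y) * bl i h x y := by
  have e : ∀ x y, (E[i](x, y) : MT) * bl i h x y = E[i](x, x) * h * E[i](y, y) := fun x y => by
    rw [bl, Finset.mul_sum, Finset.sum_eq_single y]
    · simp only [← mul_assoc, fs_mul, if_true]
    · intro r _ hr; simp [← mul_assoc, fs_mul, Ne.symm hr]
    · simp
  simp only [e, ← Finset.mul_sum, fs_sum, mul_one, ← Finset.sum_mul, one_mul]

/-- Matrices with equal blocks agree. -/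
theorem bl_ext (i : Fin t) {g h : MT} (e : ∀ x y, bl i g x y = bl i h x y) : g = h := by
  rw [bl_expand i g, bl_expand i h]
  simp only [e]

theorem bl_mul (i : Fin t) (g h : MT) (x y : Fin k) :
    bl i (g * h) x y = ∑ z, bl i g x z * bl i h z y := by
  have e : ∀ z, bl i g x z * bl i h z y = ∑ r, E[i](r, x) * (g * E[i](z, z) * h) * E[i](y, r) := fun z => by
    rw [bl, bl, Finset.sum_mul]
    refine Finset.sum_congr rfl fun r _ => ?_
    rw [Finset.mul_sum, Finset.sum_eq_single r]
    · simp only [mul_assoc, fs_mul', if_true]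
    · intro s _ hs; simp [mul_assoc, fs_mul', Ne.symm hs]
    · simp
  simp only [e]
  rw [Finset.sum_comm, bl]
  refine Finset.sum_congr rfl fun r _ => ?_
  rw [← Finset.sum_mul, ← Finset.mul_sum, ← Finset.sum_mul, ← Finset.mul_sum, fs_sum, mul_one]

theorem bl_add (i : Fin t) (g h : MT) (x y : Fin k) : bl i (g + h) x y = bl i g x y + bl i h x y := by
  simp [bl, mul_add, add_mul, Finset.sum_add_distrib]

theorem bl_sub (i : Fin t) (g h : MT) (x y : Fin k) : bl i (g - h) x y = bl i g x y - bl i h x y := by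
  simp [bl, mul_sub, sub_mul, Finset.sum_sub_distrib]

theorem bl_smul (i : Fin t) (c : F) (h : MT) (x y : Fin k) : bl i (c • h) x y = c • bl i h x y := by
  simp [bl, Finset.smul_sum]

theorem bl_zero (i : Fin t) (x y : Fin k) : bl i (0 : MT) x y = 0 := by simp [bl]

/-- The blocks of an element times one commuting with the factor. -/
theorem bl_mul_commute (i : Fin t) (h : MT) {C : MT} (hC : ∀ X, Commute C (fa i X)) (x y : Fin k) :
    bl i (h * C) x y = bl i h x y * C := by
  rw [bl, bl, Finset.sum_mul]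
  refine Finset.sum_congr rfl fun r _ => ?_
  rw [mul_assoc, mul_assoc, (hC _).eq]
  simp only [mul_assoc]

theorem commute_mul_bl (i : Fin t) (h : MT) {C : MT} (hC : ∀ X, Commute C (fa i X)) (x y : Fin k) :
    bl i (C * h) x y = C * bl i h x y := by
  rw [bl, bl, Finset.mul_sum]
  refine Finset.sum_congr rfl fun r _ => ?_
  rw [← mul_assoc _ C h, ← (hC _).eq]
  simp only [mul_assoc]

/-- The blocks of an element of the factor. -/
theorem bl_fa (i : Fin t) (X : Mm) (x y : Fin k) : bl i (fa i X) x y = X x y • (1 : MT) := by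
  rw [bl, ← fs_sum i, Finset.smul_sum]
  refine Finset.sum_congr rfl fun r _ => ?_
  rw [← map_mul, ← map_mul, ← map_smul]
  simp [Matrix.single_mul_mul_single, Matrix.smul_single]

theorem bl_one (i : Fin t) (x y : Fin k) : bl i (1 : MT) x y = if x = y then 1 else 0 := by
  rw [← map_one (fa (F := F) (m := k) i), bl_fa, map_one, Matrix.one_apply]
  split <;> simp

/-- The blocks of an element of the factor times one commuting with it. -/
theorem bl_fa_mul (i : Fin t) (X : Mm) {C : MT} (hC : ∀ X, Commute C (fa i X)) (x y : Fin k) :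
    bl i (fa i X * C) x y = X x y • C := by
  rw [bl_mul_commute i _ hC, bl_fa, Matrix.smul_mul, one_mul]

theorem bl_fa_left (i : Fin t) (X : Mm) (h : MT) (x y : Fin k) :
    bl i (fa i X * h) x y = ∑ z, X x z • bl i h z y := by
  simp [bl_mul, bl_fa]

theorem bl_fa_right (i : Fin t) (X : Mm) (h : MT) (x y : Fin k) :
    bl i (h * fa i X) x y = ∑ z, X z y • bl i h x z := by
  simp [bl_mul, bl_fa]

namespace Frame

variable (Φ : Frame F k)

/-- The adjoint preserves the centraliser of a factor. -/
theorem adj_commute {i : Fin t} {C : MT} (hC : ∀ X, Commute C (fa i X)) (X : Mm) :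
    Commute (Φ.adj C) (fa i X) := by
  rw [← Φ.adj1_adj1 X, ← Φ.adj_fa, Commute, SemiconjBy, ← Φ.adj_mul, ← Φ.adj_mul, (hC _).eq]

/-- The blocks of the adjoint. -/
theorem bl_adj (i : Fin t) (h : MT) (x y : Fin k) :
    bl i (Φ.adj h) x y = (Φ.sg x * Φ.sg y) • Φ.adj (bl i h y.rev x.rev) := by
  rw [bl, bl, Φ.adj_sum, Finset.smul_sum]
  refine Fintype.sum_equiv (Function.Involutive.toPerm Fin.rev rev_inv) _ _ fun r => ?_
  simp only [Function.Involutive.coe_toPerm]
  rw [Φ.adj_mul, Φ.adj_mul, Φ.adj_fa, Φ.adj_fa, Φ.adj1_single, Φ.adj1_single]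
  simp only [Fin.rev_rev, map_one, mul_one]
  have e : ∀ (a b : Fin k) (c : F), Matrix.single a b c = c • Matrix.single a b (1 : F) := fun a b c => by simp
  rw [e r x (Φ.sg r * Φ.sg x), e y r (Φ.sg y * Φ.sg r), map_smul, map_smul]
  simp only [Matrix.smul_mul, Matrix.mul_smul, smul_smul, mul_assoc]
  rw [show Φ.sg x * (Φ.sg y * (Φ.sg y * (Φ.sg r * (Φ.sg r * Φ.sg x)))) =
      (Φ.sg x * Φ.sg x) * (Φ.sg y * Φ.sg y) * (Φ.sg r * Φ.sg r) by ring,
    Φ.sg_sq, Φ.sg_sq, Φ.sg_sq, one_mul, one_mul, one_smul]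

end Frame

end CfsgLib.MaxSub.TensorForm
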