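import Cfsg.Agent.Lib.MaxSub.TensorForm.Move

/-!
The tools on the points of a factor, from traces and diagonal elements.
-/

set_option autoImplicit false
set_option maxHeartbeats 1000000
set_option linter.unusedSectionVars false
set_option linter.unusedSimpArgs false

namespace CfsgLib.MaxSub.TensorForm

open Matrix
open CfsgLib.Aschbacher CfsgLib.MaxSub.TensorPow

variable {F : Type*} [Field F] {k t : ℕ}

local notation "Mm" => Matrix (Fin k) (Fin k) F

/-- A rank one perturbation of the identity with vanishing pairing. -/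
theorem det_one_add_vmv {ι : Type} [Fintype ι] [DecidableEq ι] (v φ : ι → F) (h : φ ⬝ᵥ v = 0) :
    (1 + vecMulVec v φ : Matrix ι ι F).det = 1 := by
  rw [vecMulVec_eq Unit, Matrix.det_one_add_replicateCol_mul_replicateRow, h, add_zero]

namespace Frame

variable (Φ : Frame F k)

/-- The values of the form on the middle have a trace root. -/
def HalfTrace : Prop :=
  ∀ Y : Fin k → F, ∀ sgn : F, Φ.σ sgn = sgn → ∃ d : F, d + Φ.eps * Φ.σ d + sgn * (Y ⬝ᵥ Φ.qv Y) = 0

theorem halfTrace_of {c : F} (hc : c + Φ.σ c = 1) : Φ.HalfTrace := by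
  intro Y sgn hsgn
  set l := Y ⬝ᵥ Φ.qv Y
  have hl : Φ.σ l = Φ.eps * l := by
    simp only [l, dotProduct, qv, map_sum, Finset.mul_sum, map_mul, Φ.invol, Φ.map_sg]
    refine Fintype.sum_equiv (Function.Involutive.toPerm Fin.rev rev_inv) _ _ fun y => ?_
    simp only [Function.Involutive.coe_toPerm, Fin.rev_rev, Φ.sg_rev]
    linear_combination (-(Φ.sg y * Φ.σ (Y y) * Y y.rev)) * Φ.eps_sq
  refine ⟨-(c * (sgn * l)), ?_⟩
  rw [map_neg, map_mul, map_mul, hsgn, hl]
  linear_combination (-(sgn * l * Φ.σ c)) * Φ.eps_sq - (sgn * l) * hc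

theorem short_of (hd : Φ.HalfTrace) {x : Fin k} (hx : x ≠ x.rev) (y : Fin k → F) :
    ∃ s : GL (Fin k) F, Φ.SI s ∧ InRad1 x (s : Mm) ∧ ∀ v, Mid x v → (s : Mm) x v = y v := by
  classical
  set Y : Fin k → F := fun v => if Mid x v then y v else 0 with hY
  have hYx : Y x = 0 := if_neg fun h => h.1 rfl
  have hYx' : Y x.rev = 0 := if_neg fun h => h.2 rfl
  obtain ⟨d, hd0⟩ := hd Y (Φ.sg x.rev) (Φ.map_sg _)
  set A : Mm := vecMulVec (Pi.single x 1) Y with hA
  set B : Mm := Φ.adj1 A with hB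
  set E : Mm := Matrix.single x x.rev (1 : F) with hE
  set l : F := Φ.sg x.rev * (Y ⬝ᵥ Φ.qv Y) with hl
  have hqe : Φ.qv (Pi.single x 1) = Pi.single x.rev (Φ.sg x.rev) := by
    funext z
    rw [qv_single_apply]
    by_cases h : z = x.rev
    · subst h; simp
    · rw [if_neg fun h' => h (by rw [← h', Fin.rev_rev]), Pi.single_eq_of_ne h]
  have hB' : B = vecMulVec (Φ.qv Y) (Pi.single x.rev (Φ.sg x.rev)) := by
    rw [hB, hA, Φ.adj1_vecMulVec, hqe]
  have hEv : E = vecMulVec (Pi.single x 1) (Pi.single x.rev 1) := single_eq_single_vecMulVec_single _ _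
  have q1 : Φ.qv Y x.rev = 0 := by simp [qv, hYx]
  have q2 : Φ.qv Y x = 0 := by simp [qv, hYx']
  have hAA : A * A = 0 := by rw [hA, vecMulVec_mul_vecMulVec]; simp [hYx]
  have hBB : B * B = 0 := by rw [hB', vecMulVec_mul_vecMulVec]; simp [q1]
  have hAB : A * B = l • E := by
    rw [hA, hB', vecMulVec_mul_vecMulVec, hEv, ← vecMulVec_smul]
    congr 1
    funext z
    by_cases hz : z = x.rev
    · subst hz; simp [hl, mul_comm]
    · simp [hz]
  have hBA : B * A = 0 := by rw [hA, hB', vecMulVec_mul_vecMulVec]; simp [hx.symm, hx]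
  have hAE : A * E = 0 := by rw [hA, hEv, vecMulVec_mul_vecMulVec]; simp [hYx]
  have hEA : E * A = 0 := by rw [hA, hEv, vecMulVec_mul_vecMulVec]; simp [hx.symm, hx]
  have hEB : E * B = 0 := by rw [hB', hEv, vecMulVec_mul_vecMulVec]; simp [q1]
  have hBE : B * E = 0 := by rw [hB', hEv, vecMulVec_mul_vecMulVec]; simp [hx.symm, hx]
  have hEE : E * E = 0 := by rw [hE, Matrix.single_mul_single_of_ne _ _ _ _ hx.symm]
  have hadjE : Φ.adj1 E = Φ.eps • E := by rw [hE, adj1_long, map_one, mul_one]; simp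
  set S : Mm := 1 + A - B + d • E with hS
  have hS' : Φ.adj1 S = 1 + B - A + (Φ.eps * Φ.σ d) • E := by
    have hsub : ∀ P Q : Mm, Φ.adj1 (P - Q) = Φ.adj1 P - Φ.adj1 Q := fun P Q => by
      rw [eq_sub_iff_add_eq, ← Φ.adj1_add, sub_add_cancel]
    rw [hS, Φ.adj1_add, hsub, Φ.adj1_add, Φ.adj1_one, hB, Φ.adj1_adj1, Φ.adj1_smul, hadjE, smul_smul, mul_comm]
  have hiso : Φ.adj1 S * S = 1 := by
    rw [hS', hS]
    simp only [add_mul, sub_mul, mul_add, mul_sub, one_mul, mul_one, Matrix.smul_mul, Matrix.mul_smul, hAA, hBB, hAB, hBA,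
      hAE, hEA, hEB, hBE, hEE, smul_zero, add_zero, zero_add, sub_zero]
    have hfac : S + B - A + (Φ.eps * Φ.σ d) • E + l • E = 1 := by
      rw [hS]
      have : (d + Φ.eps * Φ.σ d + l) • E = 0 := by rw [hl, hd0, zero_smul]
      rw [add_smul, add_smul] at this
      linear_combination (norm := abel) this
    rw [hS] at hfac
    linear_combination (norm := abel) hfac
  have hdet : S.det = 1 := by
    have e : S = (1 + A) * (1 + vecMulVec ((d + l) • Pi.single x 1 - Φ.sg x.rev • Φ.qv Y) (Pi.single x.rev 1)) := by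
      have e2 : vecMulVec ((d + l) • (Pi.single x 1 : Fin k → F) - Φ.sg x.rev • Φ.qv Y) (Pi.single x.rev 1) =
          (d + l) • E - B := by
        rw [sub_vecMulVec, smul_vecMulVec, smul_vecMulVec, hEv, hB']
        congr 1
        rw [← vecMulVec_smul, ← Pi.single_smul, smul_eq_mul, mul_one]
      rw [e2, hS]
      simp only [add_mul, mul_add, mul_sub, one_mul, mul_one, Matrix.mul_smul, hAE, hAB, smul_zero]
      module
    rw [e, det_mul, hA, det_one_add_vmv _ _ (by simp [hYx]), det_one_add_vmv _ _ (by simp [q1, hx.symm, hx]), mul_one]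
  let s : GL (Fin k) F := Matrix.GeneralLinearGroup.mkOfDetNeZero S (hdet.trans_ne one_ne_zero)
  refine ⟨s, ⟨hiso, hdet⟩, fun p q hpq => ?_, fun v hv => ?_⟩
  · show S p q = _
    rw [hS, hA, hB', hEv]
    simp only [Matrix.add_apply, Matrix.sub_apply, Matrix.smul_apply, vecMulVec_apply]
    rcases cases3 x p with rfl | rfl | hp
    · rw [hpq.1 rfl]; simp [hYx, hx, hx.symm]
    · simp [q1, hx, hx.symm]
    · rcases cases3 x q with rfl | rfl | hq
      · simp [hp.1, hx, hx.symm]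
      · exact absurd (hpq.2 rfl) hp.2
      · simp [hp.1, hq.2]
  · show S x v = _
    rw [hS, hA, hB', hEv]
    simp only [Matrix.add_apply, Matrix.sub_apply, Matrix.smul_apply, vecMulVec_apply]
    simp [hv.1.symm, hv.2, Y, hv]

/-- A diagonal element moves every middle index fixed by the reversal. -/
def TorusMid (a : Fin k) : Prop :=
  ∀ y : Fin k, y = y.rev → ∃ s : GL (Fin k) F, Φ.SI s ∧ (∀ p r, p ≠ r → (s : Mm) p r = 0) ∧
    ((s : Mm) a a)⁻¹ * (s : Mm) y y ≠ 1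

/-- The tools on a point. -/
theorem pointTools_of (hd : Φ.HalfTrace) {γ : F} (hγ : γ ≠ 0) (hL : Φ.Lng γ) {a : Fin k} (ha : a ≠ a.rev)
    (hM : Φ.TorusMid a)
    (htop : 4 ≤ k ∨ ∃ s : GL (Fin k) F, Φ.SI s ∧ (∀ p r, p ≠ r → (s : Mm) p r = 0) ∧
      (s : Mm) a a ≠ (s : Mm) a.rev a.rev) : Φ.PointTools a := by
  classical
  have hdiag : ∀ s : GL (Fin k) F, (∀ p r, p ≠ r → (s : Mm) p r = 0) → IsLevi1 a (s : Mm) := fun s h p r hpr =>
    h p r fun e => hpr (by subst e; exact ⟨Iff.rfl, Iff.rfl⟩)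
  refine ⟨ha, short_of Φ hd ha, fun W hW y hy => ?_, ?_⟩
  · by_cases hyy : y = y.rev
    · obtain ⟨s, hs, hsd, hne⟩ := hM y hyy
      set c := 1 - ((s : Mm) a a)⁻¹ * (s : Mm) y y with hc
      have hc0 : c ≠ 0 := sub_ne_zero.2 fun h => hne h.symm
      have h := hW s hs (hdiag s hsd) y hy (Pi.single y c) (fun r _ => by
        by_cases hr : r = y
        · subst hr; rw [Pi.single_eq_same, Matrix.one_apply_eq]
        · rw [Pi.single_eq_of_ne hr, Matrix.one_apply_ne hr, hsd r y hr, mul_zero, sub_zero])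
        (fun r hr => Pi.single_eq_of_ne (fun e : r = y => hr (by rw [e]; exact hy)) _)
      have h2 := W.smul_mem c⁻¹ h
      rwa [← Pi.single_smul, smul_eq_mul, inv_mul_cancel₀ hc0] at h2
    · obtain ⟨s, hs, hsv⟩ := Φ.exists_long hyy hL
      have hsl : IsLevi1 a (s : Mm) := fun p r hpr => by
        have hne : p ≠ r := fun e => hpr (by subst e; exact ⟨Iff.rfl, Iff.rfl⟩)
        rw [hsv, Matrix.add_apply, Matrix.one_apply_ne hne, Matrix.single_apply, if_neg, add_zero]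
        rintro ⟨rfl, rfl⟩
        exact hpr ⟨iff_of_false hy.1 hy.rev.1, iff_of_false hy.2 hy.rev.2⟩
      have hsaa : (s : Mm) a a = 1 := by
        rw [hsv, Matrix.add_apply, Matrix.one_apply_eq, Matrix.single_apply, if_neg (fun h => hy.1 h.1), add_zero]
      have h := hW s hs hsl y.rev hy.rev (Pi.single y (-γ)) (fun r _ => by
        rw [hsaa, inv_one, one_mul, hsv, Matrix.add_apply, sub_add_cancel_left, Matrix.single_apply]
        by_cases hr : r = y
        · subst hr; simp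
        · simp [hr, Ne.symm hr])
        (fun r hr => Pi.single_eq_of_ne (fun e : r = y => hr (by rw [e]; exact hy)) _)
      have h2 := W.smul_mem (-γ)⁻¹ h
      rwa [← Pi.single_smul, smul_eq_mul, inv_mul_cancel₀ (neg_ne_zero.2 hγ)] at h2
  rcases htop with h4 | ⟨s, hs, hsd, hne⟩
  swap
  · exact Or.inl ⟨s, hs, hdiag s hsd, hne⟩
  obtain ⟨m, hm, hmm⟩ : ∃ m, Mid a m ∧ m ≠ m.rev := by
    obtain ⟨m, hm, hmm⟩ := exists_iso_notMem (s := {a, a.rev}) (k := k) (by rw [Finset.card_pair ha]; omega)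
    simp only [Finset.mem_insert, Finset.mem_singleton, not_or] at hm
    exact ⟨m, hm, hmm⟩
  set c' : F := -(Φ.sg a.rev * Φ.sg m.rev) with hc'
  set N : Mm := Matrix.single m a 1 + Matrix.single a.rev m.rev c' with hN
  have hne1 : a ≠ a.rev := ha
  have hne2 : m.rev ≠ m := hmm.symm
  have hN2 : N * N = 0 := by
    rw [hN, add_mul, mul_add, mul_add, Matrix.single_mul_single_of_ne _ _ _ _ hm.1.symm,
      Matrix.single_mul_single_of_ne _ _ _ _ hne1, Matrix.single_mul_single_of_ne _ _ _ _ hne2,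
      Matrix.single_mul_single_of_ne _ _ _ _ hm.rev.2]
    simp
  have hNadj : Φ.adj1 N + N = 0 := by
    rw [hN, Φ.adj1_add, Φ.adj1_single, Φ.adj1_single, map_one, mul_one, Fin.rev_rev, Fin.rev_rev, hc', map_neg, map_mul,
      Φ.map_sg, Φ.map_sg]
    have e1 : Matrix.single a.rev m.rev (Φ.sg a.rev * Φ.sg m.rev) = -Matrix.single a.rev m.rev (-(Φ.sg a.rev * Φ.sg m.rev)) := by
      rw [← Matrix.single_neg, neg_neg]
    have e2 : Φ.sg m * Φ.sg a * -(Φ.sg a.rev * Φ.sg m.rev) = -1 := by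
      rw [Φ.sg_rev a, Φ.sg_rev m]
      linear_combination (-(Φ.sg m * Φ.sg m * Φ.sg a * Φ.sg a)) * Φ.eps_sq - (Φ.sg a * Φ.sg a) * Φ.sg_sq m -
        Φ.sg_sq a
    rw [e1, e2, show Matrix.single m a (-1 : F) = -Matrix.single m a 1 from (Matrix.single_neg _ _ _).symm]
    abel
  have hprod : (1 + N : Mm) = (1 + Matrix.single m a 1) * (1 + Matrix.single a.rev m.rev c') := by
    rw [hN, add_mul, one_mul, mul_add, mul_one, Matrix.single_mul_single_of_ne _ _ _ _ hne1, add_zero]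
    abel
  have hdet : (1 + N).det = 1 := by
    rw [hprod, det_mul, ← Matrix.transvection, ← Matrix.transvection, Matrix.det_transvection_of_ne _ _ hm.1,
      Matrix.det_transvection_of_ne _ _ hm.rev.2.symm, mul_one]
  refine Or.inr ⟨m, 1, c', one_add N hN2, hm, hmm, one_ne_zero, ?_, Φ.si_one_add hN2 hNadj hdet, ?_⟩
  · exact neg_ne_zero.2 (mul_ne_zero (Φ.sg_ne _) (Φ.sg_ne _))
  · rw [one_add_val, hN, add_assoc]

theorem qv_mulVec (A : Mm) (w : Fin k → F) : Φ.qv (A *ᵥ w) = Φ.qv w ᵥ* Φ.adj1 A := by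
  funext y
  simp only [qv, Matrix.mulVec, Matrix.vecMul, dotProduct, map_sum, Finset.mul_sum]
  refine Fintype.sum_equiv (Function.Involutive.toPerm _ rev_inv) _ _ fun z => ?_
  simp only [Function.Involutive.coe_toPerm, adj1_apply, map_mul, Fin.rev_rev]
  linear_combination (-(Φ.sg y * Φ.σ (A y.rev z) * Φ.σ (w z))) * Φ.sg_sq z.rev

theorem SI.isotropic {s : GL (Fin k) F} (hs : Φ.SI s) {w : Fin k → F} (hw : Φ.qv w ⬝ᵥ w = 0) :
    Φ.qv ((s : Mm) *ᵥ w) ⬝ᵥ ((s : Mm) *ᵥ w) = 0 := by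
  rw [qv_mulVec, ← Matrix.dotProduct_mulVec, Matrix.mulVec_mulVec, hs.1, Matrix.one_mulVec, hw]

/-- An isotropic vector moves to the point. -/
theorem exists_move1 {γ : F} (hγ : γ ≠ 0) (hL : Φ.Lng γ) {a : Fin k} (hT : Φ.PointTools a) {v : Fin k → F}
    (hv : Φ.qv v ⬝ᵥ v = 0) (hva : v a.rev ≠ 0) :
    ∃ (s : GL (Fin k) F) (μ : F), μ ≠ 0 ∧ Φ.SI s ∧ (s : Mm) *ᵥ v = Pi.single a μ := by
  classical
  have ha := hT.ne
  obtain ⟨s, hs, hsr, -, hsc⟩ :=
    exists_short hT (fun z => Φ.σ (Φ.sg z.rev * Φ.sg a.rev * (v z.rev / v a.rev)))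
  set v1 := (s : Mm) *ᵥ v with hv1
  have e : ∀ p, v1 p = ∑ z, (s : Mm) p z * v z := fun _ => rfl
  have hb : v1 a.rev = v a.rev := by
    rw [e, Finset.sum_eq_single a.rev, hsr _ _ ⟨fun h => h, fun h => h⟩, Matrix.one_apply_eq, one_mul]
    · intro z _ hz
      rw [hsr _ _ ⟨fun h => absurd h ha.symm, fun h => absurd h hz⟩, Matrix.one_apply_ne (Ne.symm hz), zero_mul]
    · simp
  have hm : ∀ z, Mid a z → v1 z = 0 := by
    intro z hz
    rw [e, Finset.sum_eq_add z a.rev hz.2, hsr z z ⟨fun h => h, fun h => h⟩, Matrix.one_apply_eq, one_mul,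
      hsc z hz, Fin.rev_rev, Φ.invol]
    · have h1 : v z.rev.rev = v z := by rw [Fin.rev_rev]
      field_simp
      linear_combination (-(Φ.sg a.rev * Φ.sg a.rev * v z)) * Φ.sg_sq z - v z * Φ.sg_sq a.rev
    · intro u _ hu
      rw [hsr _ _ ⟨fun h => absurd h hz.1, fun h => absurd h hu.2⟩, Matrix.one_apply_ne (Ne.symm hu.1), zero_mul]
    · simp
    · simp
  have h0 := SI.isotropic Φ hs hv
  rw [← hv1, dotProduct, Finset.sum_eq_add a a.rev ha, qv, qv, Fin.rev_rev, hb] at h0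
  rotate_left
  · intro z _ hz; rw [hm z hz, mul_zero]
  · simp
  · simp
  set d : F := -(v1 a / v a.rev) with hd
  have hdL : Φ.Lng d := by
    show d + Φ.eps * Φ.σ d = 0
    have hσ : Φ.σ (v a.rev) ≠ 0 := by simpa using hva
    rw [Φ.sg_rev] at h0
    rw [hd, map_neg, map_div₀]
    field_simp
    linear_combination (-(Φ.sg a)) * h0 + (v1 a * Φ.σ (v a.rev) + v a.rev * Φ.eps * Φ.σ (v1 a)) * Φ.sg_sq a
  obtain ⟨l, hl, hlv⟩ := Φ.exists_long ha hdL
  obtain ⟨W, hW, h1, h2, h3, -, -, -⟩ := Φ.exists_weyl ha hγ hL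
  have hv2 : (l : Mm) *ᵥ v1 = Pi.single a.rev (v a.rev) := by
    rw [hlv, Matrix.add_mulVec, Matrix.one_mulVec, Matrix.single_mulVec]
    funext p
    rcases cases3 a p with rfl | rfl | hp
    · simp [hb, hd, ha, hva]
    · simp [hb, ha.symm]
    · simp [hm p hp, hp.1, hp.2]
  refine ⟨W * l * s, v a.rev * γ, mul_ne_zero hva hγ, SI.mul Φ (SI.mul Φ hW hl) hs, ?_⟩
  rw [Units.val_mul, Units.val_mul, ← Matrix.mulVec_mulVec, ← Matrix.mulVec_mulVec, ← hv1, hv2,
    show (Pi.single a.rev (v a.rev) : Fin k → F) = v a.rev • Pi.single a.rev 1 by simp [← Pi.single_smul],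
    Matrix.mulVec_smul, h2, ← Pi.single_smul, smul_eq_mul]

/-- The factor group is transitive on isotropic points. -/
theorem transitive_of {γ : F} (hγ : γ ≠ 0) (hL : Φ.Lng γ) {a : Fin k}
    (hT : Φ.PointTools a) : Φ.Transitive a := by
  classical
  intro v hv0 hv
  have ha := hT.ne
  have back : ∀ (s : GL (Fin k) F) (μ : F) (w : Fin k → F), μ ≠ 0 → Φ.SI s → (s : Mm) *ᵥ w = Pi.single a μ →
      ∃ (s : GL (Fin k) F) (μ : F), μ ≠ 0 ∧ Φ.SI s ∧ (s : Mm) *ᵥ Pi.single a 1 = μ • w := by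
    intro s μ w hμ hs h
    refine ⟨s⁻¹, μ⁻¹, inv_ne_zero hμ, SI.inv Φ hs, ?_⟩
    rw [show (Pi.single a (1 : F) : Fin k → F) = μ⁻¹ • Pi.single a μ by simp [← Pi.single_smul, hμ], ← h,
      Matrix.mulVec_smul, Matrix.mulVec_mulVec, Units.inv_mul, Matrix.one_mulVec]
  by_cases h0 : v a.rev = 0
  swap
  · obtain ⟨s, μ, hμ, hs, h⟩ := exists_move1 Φ hγ hL hT hv h0
    exact back s μ v hμ hs h
  by_cases hmid : ∀ z, Mid a z → v z = 0
  · have e : v = Pi.single a (v a) := by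
      funext p
      rcases cases3 a p with rfl | rfl | hp
      · simp
      · simp [h0, ha.symm]
      · simp [hmid p hp, hp.1]
    have hva : v a ≠ 0 := fun h => hv0 (by rw [e, h, Pi.single_zero])
    exact back 1 (v a) v hva Φ.si_one (by rw [Units.val_one, Matrix.one_mulVec]; exact e)
  push Not at hmid
  obtain ⟨z, hz, hzv⟩ := hmid
  obtain ⟨s, hs, hsa⟩ : ∃ s : GL (Fin k) F, Φ.SI s ∧ ((s : Mm) *ᵥ v) a ≠ 0 := by
    by_cases hva : v a = 0
    swap
    · exact ⟨1, Φ.si_one, by rwa [Units.val_one, Matrix.one_mulVec]⟩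
    obtain ⟨s, hs, hsr, hsv, -⟩ := exists_short hT (Pi.single z 1)
    refine ⟨s, hs, ?_⟩
    show (∑ u, (s : Mm) a u * v u) ≠ 0
    rw [Finset.sum_eq_single z, hsv z hz, Pi.single_eq_same, one_mul]
    · exact hzv
    · intro u _ hu
      rcases cases3 a u with rfl | rfl | hu'
      · rw [hva, mul_zero]
      · rw [h0, mul_zero]
      · rw [hsv u hu', Pi.single_eq_of_ne hu, zero_mul]
    · simp
  obtain ⟨W, hW, h1, h2, h3, -, -, -⟩ := Φ.exists_weyl ha hγ hL
  have hWs : Φ.SI (W * s) := SI.mul Φ hW hs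
  have hne : (((W * s : GL (Fin k) F) : Mm) *ᵥ v) a.rev ≠ 0 := by
    rw [Units.val_mul, ← Matrix.mulVec_mulVec]
    generalize (s : Mm) *ᵥ v = w at hsa
    show (∑ u, (W : Mm) a.rev u * w u) ≠ 0
    have e : ∀ u, (W : Mm) a.rev u = ((W : Mm) *ᵥ Pi.single u 1) a.rev := fun u => by
      rw [Matrix.mulVec_single_one]; rfl
    rw [Finset.sum_eq_single a, e, h1, Pi.single_eq_same]
    · exact mul_ne_zero (neg_ne_zero.2 (inv_ne_zero hγ)) hsa
    · intro u _ hu
      rcases cases3 a u with rfl | rfl | hu'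
      · exact absurd rfl hu
      · rw [e, h2, Pi.single_eq_of_ne ha.symm, zero_mul]
      · rw [e, h3 u hu', Pi.single_eq_of_ne hu'.2.symm, zero_mul]
    · simp
  obtain ⟨r, μ, hμ, hr, h⟩ := exists_move1 Φ hγ hL hT (SI.isotropic Φ hWs hv) hne
  rw [Matrix.mulVec_mulVec, ← Units.val_mul] at h
  exact back (r * (W * s)) μ v hμ (SI.mul Φ hr hWs) h

end Frame

end CfsgLib.MaxSub.TensorForm
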