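import Cfsg.Agent.Lib.MaxSub.TensorForm.Setup

/-!
Isotropic points fixed by a similitude commuting with root matrices of one centre, and the symmetric square of
the long root elements of a three-dimensional factor.
-/

set_option autoImplicit false
set_option maxHeartbeats 400000
set_option linter.unusedSectionVars false
set_option linter.unusedSimpArgs false

namespace CfsgLib.MaxSub.TensorForm

open Matrix
open CfsgLib.Aschbacher CfsgLib.MaxSub.TensorPow

variable {F : Type*} [Field F] {k t : ℕ}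

local notation "Mm" => Matrix (Fin k) (Fin k) F
local notation "MT" => Matrix (Fin t → Fin k) (Fin t → Fin k) F

namespace Frame

variable (Φ : Frame F k)

theorem qv_qv (v : Fin k → F) : Φ.qv (Φ.qv v) = Φ.eps • v := by
  funext y
  simp only [qv, Pi.smul_apply, smul_eq_mul, map_mul, Φ.map_sg, Φ.map_eps, Φ.invol, Fin.rev_rev, Φ.sg_rev]
  linear_combination (Φ.eps * v y) * Φ.sg_sq y

theorem qv_dot (p e : Fin k → F) : Φ.qv p ⬝ᵥ e = Φ.eps * Φ.σ (Φ.qv e ⬝ᵥ p) := by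
  simp only [dotProduct, qv, map_sum, Finset.mul_sum, map_mul, Φ.map_sg, Φ.invol]
  refine Fintype.sum_equiv (Function.Involutive.toPerm Fin.rev rev_inv) _ _ fun y => ?_
  simp only [Function.Involutive.coe_toPerm, Fin.rev_rev, Φ.sg_rev]
  linear_combination -(Φ.sg y * Φ.σ (p y.rev) * e y) * Φ.eps_sq

theorem qv_single {a : Fin k} (ha : a ≠ a.rev) : Φ.qv (Pi.single a 1) ⬝ᵥ Pi.single a (1 : F) = 0 := by
  simp [qv, Ne.symm ha]

end Frame

/-- A matrix commuting with a matrix of rank one fixes its lines. -/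
theorem eigen_of_commute {A : Mm} {v φ : Fin k → F} (hv : v ≠ 0) (hφ : φ ≠ 0)
    (h : Commute A (vecMulVec v φ)) : ∃ μ : F, A *ᵥ v = μ • v ∧ φ ᵥ* A = μ • φ := by
  have e := h.eq
  rw [mul_vecMulVec, vecMulVec_mul] at e
  obtain ⟨y, hy⟩ := Function.ne_iff.1 hφ
  obtain ⟨x, hx⟩ := Function.ne_iff.1 hv
  refine ⟨(φ ᵥ* A) y / φ y, funext fun r => ?_, funext fun r => ?_⟩
  · have := congrFun (congrFun e r) y
    simp only [vecMulVec_apply] at this
    rw [Pi.smul_apply, smul_eq_mul, eq_comm, div_mul_eq_mul_div, div_eq_iff hy, this, mul_comm]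
  · have h1 := congrFun (congrFun e x) r
    have h2 := congrFun (congrFun e x) y
    simp only [vecMulVec_apply] at h1 h2
    rw [Pi.smul_apply, smul_eq_mul, div_mul_eq_mul_div, eq_div_iff hy]
    refine mul_left_cancel₀ hx ?_
    linear_combination φ r * h2 - φ y * h1

variable {Φ : Frame F k}

/-- A similitude commuting with all root matrices of one anisotropic centre is a scalar. -/
theorem scalar_of_anisotropic (hk : 2 ≤ k) {A : Mm} {e : Fin k → F} (hee : Φ.qv e ⬝ᵥ e ≠ 0)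
    (h1 : ∀ φ, φ ⬝ᵥ e = 0 → Commute A (vecMulVec e φ))
    (h2 : ∀ φ, φ ⬝ᵥ e = 0 → Commute A (Φ.adj1 (vecMulVec e φ))) : ∃ μ : F, A = μ • 1 := by
  classical
  have he : e ≠ 0 := fun h => hee (by simp [h])
  obtain ⟨x, hx⟩ := Function.ne_iff.1 he
  haveI : Nontrivial (Fin k) := Fin.nontrivial_iff_two_le.2 hk
  obtain ⟨y, hyx⟩ := exists_ne x
  -- a non-zero functional killing the centre
  set φ0 : Fin k → F := e y • Pi.single x 1 - e x • Pi.single y 1 with hφ0
  have d0 : φ0 ⬝ᵥ e = 0 := by simp [hφ0, sub_dotProduct, smul_dotProduct, mul_comm]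
  have n0 : φ0 ≠ 0 := fun h0 => hx (by simpa [hφ0, hyx] using congrFun h0 y)
  obtain ⟨μ, hμe, -⟩ := eigen_of_commute he n0 (h1 φ0 d0)
  have hμ : ∀ φ, φ ⬝ᵥ e = 0 → φ ᵥ* A = μ • φ := fun φ hφ => by
    by_cases h0 : φ = 0
    · simp [h0]
    obtain ⟨ν, hνe, hνφ⟩ := eigen_of_commute he h0 (h1 φ hφ)
    rw [smul_left_injective F he (hμe.symm.trans hνe)]
    exact hνφ
  have h2' : ∀ φ, φ ⬝ᵥ e = 0 → φ ≠ 0 → ∃ ν, A *ᵥ Φ.qv φ = ν • Φ.qv φ ∧ Φ.qv e ᵥ* A = ν • Φ.qv e := fun φ hφ h0 =>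
    eigen_of_commute (Φ.qv_ne h0) (Φ.qv_ne he) (Φ.adj1_vecMulVec e φ ▸ h2 φ hφ)
  obtain ⟨ν, hνp, hνe⟩ := h2' φ0 d0 n0
  have hν : ∀ p, Φ.qv e ⬝ᵥ p = 0 → A *ᵥ p = ν • p := fun p hp => by
    by_cases h0 : p = 0
    · simp [h0]
    have d : (Φ.eps • Φ.qv p) ⬝ᵥ e = 0 := by rw [smul_dotProduct, Φ.qv_dot, hp, map_zero, mul_zero, smul_zero]
    have n : Φ.eps • Φ.qv p ≠ 0 := smul_ne_zero (left_ne_zero_of_mul_eq_one Φ.eps_sq) (Φ.qv_ne h0)
    obtain ⟨ν', h', he'⟩ := h2' _ d n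
    rw [Φ.qv_smul, Φ.qv_qv, Φ.map_eps, smul_smul, Φ.eps_sq, one_smul] at h'
    rw [smul_left_injective F (Φ.qv_ne he) (hνe.symm.trans he')]
    exact h'
  -- the two scalars agree
  set p : Fin k → F := Φ.qv φ0 with hp
  have hpd : Φ.qv e ⬝ᵥ p = 0 := by
    rw [Φ.qv_dot, hp, Φ.qv_qv, smul_dotProduct, d0, smul_zero, map_zero, mul_zero]
  obtain ⟨u, w, huw⟩ : ∃ u w, p u * e w - p w * e u ≠ 0 := by
    by_contra hc
    push Not at hc
    have hl : e x • p = p x • e := funext fun r => by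
      have := hc r x
      simp only [Pi.smul_apply, smul_eq_mul]
      linear_combination this
    have h3 := congrArg (Φ.qv e ⬝ᵥ ·) hl
    simp only [dotProduct_smul, hpd, smul_eq_mul, mul_zero] at h3
    rcases mul_eq_zero.1 h3.symm with h4 | h4
    · rw [h4, zero_smul] at hl
      exact Φ.qv_ne n0 ((smul_eq_zero.1 hl).resolve_left hx)
    · exact hee h4
  have hμν : μ = ν := by
    set φ : Fin k → F := e w • Pi.single u 1 - e u • Pi.single w 1 with hφdef
    have d : φ ⬝ᵥ e = 0 := by simp [hφdef, sub_dotProduct, smul_dotProduct, mul_comm]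
    have n : φ ⬝ᵥ p ≠ 0 := by
      simp only [hφdef, sub_dotProduct, smul_dotProduct, single_one_dotProduct, smul_eq_mul]
      intro h; exact huw (by linear_combination h)
    have h3 : φ ᵥ* A ⬝ᵥ p = φ ⬝ᵥ A *ᵥ p := (Matrix.dotProduct_mulVec φ A p).symm
    rw [hμ φ d, hν p hpd, smul_dotProduct, dotProduct_smul] at h3
    exact mul_right_cancel₀ n h3
  refine ⟨μ, Matrix.ext_of_mulVec_single fun r => ?_⟩
  set c := (Φ.qv e ⬝ᵥ e)⁻¹ * (Φ.qv e ⬝ᵥ Pi.single r 1) with hc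
  have hq : Φ.qv e ⬝ᵥ (Pi.single r 1 - c • e) = 0 := by
    rw [dotProduct_sub, dotProduct_smul, smul_eq_mul, hc, mul_comm ((Φ.qv e ⬝ᵥ e)⁻¹), inv_mul_cancel_right₀ hee,
      sub_self]
  have h5 := hν _ hq
  rw [Matrix.mulVec_sub, Matrix.mulVec_smul, hμe, ← hμν, smul_sub, smul_comm c μ, sub_left_inj] at h5
  rw [h5, Matrix.smul_mulVec, Matrix.one_mulVec]

end CfsgLib.MaxSub.TensorForm
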