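import Cfsg.Agent.Lib.MaxSub.TensorForm.Endgame

/-!
A group of isometries containing the factor groups, without non-scalar radical blocks, lies in the wreath product.
-/

set_option autoImplicit false
set_option maxHeartbeats 400000
set_option linter.unusedSectionVars false

namespace CfsgLib.MaxSub.TensorForm

open Matrix
open CfsgLib.Aschbacher CfsgLib.MaxSub.TensorPow

variable {F : Type*} [Field F] {k t : ℕ}

local notation "Mm" => Matrix (Fin k) (Fin k) F
local notation "MT" => Matrix (Fin t → Fin k) (Fin t → Fin k) F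

/-- The form and field tools for factors of dimension at least three. -/
structure Tools (Φ : Frame F k) (a : Fin k) : Prop where
  ne : a ≠ a.rev
  point : ∀ x : Fin k, x ≠ x.rev → Φ.PointTools x
  trans : Φ.Transitive a
  swap : SwapTools Φ a
  ending : EndTools Φ

variable {Φ : Frame F k} [NeZero k] [Fintype F] {G : Subgroup (GL (Fin t → Fin k) F)} {a : Fin k}

/-- The induction over the sets of factors. -/
theorem core (hk : 3 ≤ k) (ht : 2 ≤ t) (hH : Φ.Hyp G) (hT : Tools Φ a) (hS : ∀ i, ScalAt G i a) :
    ∀ (J : Finset (Fin t)), ∀ g ∈ GJ G J, IsWr g := by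
  classical
  suffices h : ∀ n, ∀ (J : Finset (Fin t)), J.card = n → ∀ g ∈ GJ G J, IsWr g from
    fun J => h J.card J rfl
  intro n
  induction n using Nat.strong_induction_on with
  | _ n ih =>
    intro J hJn g hg
    subst hJn
    rcases J.eq_empty_or_nonempty with rfl | ⟨i, hi⟩
    · exact isWr_of_maps (by omega) (by omega) fun x => ⟨x, hg.2 x (Finset.notMem_empty x)⟩
    have hrec : ∀ J' : Finset (Fin t), J'.card < J.card → ∀ g ∈ GJ G J', IsWr g :=
      fun J' h => ih _ h J' rfl
    have hall : ∀ X : MT, dev G J X = 0 := fun X => by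
      conv_lhs => rw [bl_expand i X]
      simp only [map_sum]
      refine Finset.sum_eq_zero fun x _ => Finset.sum_eq_zero fun y _ => ?_
      exact dev_block hk ht hH hT.point hT.ne hT.trans hT.swap hS hrec hT.ending hi (bl_commute i X x y) x y
    refine wr_of_preserves hk (by omega) (LinearMap.range (lieOp k t F))
      (fun x Z hZ => lieOp_fa x Z hZ) (by rintro _ ⟨X, rfl⟩; exact lieOp_mem X) ?_
    rintro _ ⟨X, rfl⟩
    refine ⟨Ad g X, ?_⟩
    have h1 := avg_equivariant (ρ := AdRep) (σ := AdRep) (H := Cfsg.Geo.tensorWreathStandard k t F)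
      (commH_lieOp (G := G) (J := J)) hg X
    rw [AdRep_apply, AdRep_apply] at h1
    have e : ∀ Y : MT, avg AdRep AdRep (GJ G J) (Cfsg.Geo.tensorWreathStandard k t F) (lieOp k t F) Y =
        lieOp k t F Y := fun Y => sub_eq_zero.1 (hall Y)
    rwa [e, e] at h1

/-- Without non-scalar radical blocks the group lies in the wreath product. -/
theorem le_wreath (hk : 3 ≤ k) (ht : 2 ≤ t) (hH : Φ.Hyp G) (hT : Tools Φ a) (hS : ∀ i, ScalAt G i a) :
    G ≤ Cfsg.Geo.tensorWreathStandard k t F := fun g hg =>
  mem_std_iff.2 (core hk ht hH hT hS Finset.univ g ⟨hg, fun x hx => absurd (Finset.mem_univ x) hx⟩)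

end CfsgLib.MaxSub.TensorForm
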