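import Cfsg.Agent.Lib.MaxSub.TensorForm.Pattern

/-!
An invariant additive group with a non-scalar element contains a multiple of a pure tensor of pieces.
-/

set_option autoImplicit false
set_option maxHeartbeats 1000000
set_option linter.unusedSectionVars false
set_option linter.unusedSimpArgs false

namespace CfsgLib.MaxSub.TensorForm

open Matrix
open CfsgLib.Aschbacher CfsgLib.MaxSub.TensorPow

variable {F : Type*} [Field F] {k t : ℕ}

local notation "Mm" => Matrix (Fin k) (Fin k) F
local notation "MT" => Matrix (Fin t → Fin k) (Fin t → Fin k) F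
local notation "E[" i "](" a "," b ")" => fa i (Matrix.single a b (1 : F))

/-- A pure tensor trivial at a factor commutes with it. -/
theorem commute_pureMat_fa (X : Fin t → Mm) {j : Fin t} (h : X j = 1) (M : Mm) :
    Commute (pureMat X) (fa j M) := by
  rw [fa_eq]
  show pureMat _ * pureMat _ = pureMat _ * pureMat _
  rw [pureMat_mul, pureMat_mul]
  congr 1
  funext l
  by_cases hl : l = j
  · subst hl; simp [h]
  · simp [hl]

/-- A pure tensor trivial at a factor times an element of that factor. -/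
theorem pureMat_mul_fa (X : Fin t → Mm) {j : Fin t} (h : X j = 1) (M : Mm) :
    pureMat X * fa j M = pureMat (Function.update X j M) := by
  rw [fa_eq, pureMat_mul]
  congr 1
  funext l
  by_cases hl : l = j
  · subst hl; simp [h]
  · simp [hl]

variable {Φ : Frame F k} {a : Fin k} [NeZero k] [Fintype F]

theorem Ad_fa_mul {j : Fin t} (s : GL (Fin k) F) (M : Mm) {C : MT} (hC : ∀ X, Commute C (fa j X)) :
    Ad (fu j s) (fa j M * C) = fa j ((s : Mm) * M * ((s⁻¹ : GL (Fin k) F) : Mm)) * C := by
  rw [Ad_mul_apply, Ad_fu_fa]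
  congr 1
  rw [Ad_apply, fu_val, ← (hC _).eq, mul_assoc, ← map_inv, fu_val, ← map_mul, Units.mul_inv, map_one, mul_one]

/-- An invariant group with a non-scalar element contains a pure tensor of pieces. -/
theorem exists_pattern (hk : 3 ≤ k) (hT : Tools Φ a) (hP : PatTools Φ) (ha0 : (a : ℕ) = 0) {i : Fin t}
    {Z : AddSubgroup (Matrix (Fin t → Fin k) (Fin t → Fin k) F)} (hZ : Invariant Φ i Z)
    {Y₀ : MT} (hY₀ : Y₀ ∈ Z) (hns : ∀ c : F, Y₀ ≠ c • 1) :
    ∃ (X : Fin t → Mm) (c : F), c ≠ 0 ∧ X i = 1 ∧ (∀ j, X j = 1 ∨ Piece Φ a (X j)) ∧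
      (∃ j, Piece Φ a (X j)) ∧ c • pureMat X ∈ Z := by
  classical
  obtain ⟨Y, hY, hYns, hYfix⟩ := exists_fixed hZ hY₀ hns
  have h : ∀ S : Finset (Fin t), i ∉ S → ∃ (X : Fin t → Mm) (Y' : MT), pureMat X * Y' ∈ Z ∧
      (∀ j, j ∉ S → X j = 1) ∧ (∀ j, X j = 1 ∨ Piece Φ a (X j)) ∧
      (∀ l, (l = i ∨ l ∈ S) → ∀ M, Commute Y' (fa l M)) ∧
      (∀ l, l ≠ i → l ∉ S → ∀ u : GL (Fin k) F, Φ.SI u → Uni (u : Mm) → Commute Y' (fa l (u : Mm))) ∧
      (((∃ j, Piece Φ a (X j)) ∧ Y' ≠ 0) ∨ ∀ c : F, Y' ≠ c • 1) := by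
    intro S
    induction S using Finset.induction_on with
    | empty =>
      intro _
      refine ⟨1, Y, ?_, fun j _ => rfl, fun j => Or.inl rfl, ?_, ?_, Or.inr hYns⟩
      · rw [show pureMat (1 : Fin t → Mm) = (1 : MT) from pureMat_one, one_mul]; exact hY
      · rintro l (rfl | hl) M
        · exact hZ.cent Y hY M
        · simp at hl
      · intro l hl _
        exact (fixed_form hk hT hP ha0 (hYfix l hl)).1
    | insert j S hj ih =>
      intro hi
      simp only [Finset.mem_insert, not_or] at hi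
      obtain ⟨X, Y', hmem, hX1, hXp, hcom, hfix, hnd⟩ := ih hi.2
      have hji : j ≠ i := Ne.symm hi.1
      have hXj : X j = 1 := hX1 j hj
      obtain ⟨o, ho⟩ : ∃ o : Fin k, (o : ℕ) = 1 := ⟨⟨1, by omega⟩, rfl⟩
      obtain ⟨hform, hY2⟩ := (fixed_form hk hT hP ha0 (j := j) (Y := Y') fun u hu huu => ⟨0, by
        rw [zero_smul, sub_eq_zero, Ad_apply, fu_val, ← (hfix j hji hj u hu huu).eq, mul_assoc, ← map_inv, fu_val,
          ← map_mul, Units.mul_inv, map_one, mul_one]⟩).2 o ho
      set Y0 := bl j Y' a a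
      set Y1 := bl j Y' a a.rev
      set Y2 := bl j Y' a o.rev
      set H : Mm := Matrix.single a o.rev 1 + (-(Φ.sg o.rev * Φ.sg a.rev)) • Matrix.single o a.rev 1 with hH
      -- the blocks inherit everything
      have hcomB : ∀ x y, ∀ l, (l = i ∨ l ∈ insert j S) → ∀ M, Commute (bl j Y' x y) (fa l M) := by
        intro x y l hl M
        by_cases hlj : l = j
        · subst hlj; exact bl_commute _ _ _ _ _
        · refine bl_commute_other hlj (hcom l ?_ M) x y
          rcases hl with h | h
          · exact Or.inl h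
          · exact Or.inr ((Finset.mem_insert.1 h).resolve_left hlj)
      have hfixB : ∀ x y, ∀ l, l ≠ i → l ∉ insert j S → ∀ u : GL (Fin k) F, Φ.SI u → Uni (u : Mm) →
          Commute (bl j Y' x y) (fa l (u : Mm)) := by
        intro x y l hli hl u hu huu
        simp only [Finset.mem_insert, not_or] at hl
        exact bl_commute_other hl.1 (hfix l hli hl.2 u hu huu) x y
      -- applying a difference of conjugations
      have hdiff : ∀ s : GL (Fin k) F, Φ.SI s →
          pureMat X * (fa j ((s : Mm) * Matrix.single a a.rev 1 * ((s⁻¹ : GL (Fin k) F) : Mm) -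
              Matrix.single a a.rev 1) * Y1 +
            fa j ((s : Mm) * H * ((s⁻¹ : GL (Fin k) F) : Mm) - H) * Y2) ∈ Z := by
        intro s hs
        have h1 := Z.sub_mem (hZ.conj j hji s hs _ hmem) hmem
        have hcX : Ad (fu j s) (pureMat X) = pureMat X := by
          rw [Ad_apply, fu_val, ← (commute_pureMat_fa X hXj _).eq, mul_assoc, ← map_inv, fu_val, ← map_mul,
            Units.mul_inv, map_one, mul_one]
        have hc0 : Ad (fu j s) Y0 = Y0 := by
          have := Ad_fa_mul (j := j) s (1 : Mm) (C := Y0) (bl_commute j Y' a a)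
          rwa [map_one, one_mul, mul_one, Units.mul_inv, map_one, one_mul] at this
        rw [Ad_mul_apply, hcX, ← mul_sub] at h1
        suffices e : Ad (fu j s) Y' - Y' = fa j ((s : Mm) * Matrix.single a a.rev 1 * ((s⁻¹ : GL (Fin k) F) : Mm) -
              Matrix.single a a.rev 1) * Y1 +
            fa j ((s : Mm) * H * ((s⁻¹ : GL (Fin k) F) : Mm) - H) * Y2 by rwa [e] at h1
        conv_lhs => rw [hform]
        rw [map_add, map_add, hc0, Ad_fa_mul s _ (bl_commute j Y' a a.rev), Ad_fa_mul s _ (bl_commute j Y' a o.rev),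
          map_sub, map_sub, sub_mul, sub_mul]
        abel
      have finish : ∀ (P : Mm) (C : MT), Piece Φ a P → C ≠ 0 → (∃ x y, C = bl j Y' x y) →
          pureMat X * (fa j P * C) ∈ Z → ∃ (X : Fin t → Mm) (Y' : MT), pureMat X * Y' ∈ Z ∧
            (∀ l, l ∉ insert j S → X l = 1) ∧ (∀ l, X l = 1 ∨ Piece Φ a (X l)) ∧
            (∀ l, (l = i ∨ l ∈ insert j S) → ∀ M, Commute Y' (fa l M)) ∧
            (∀ l, l ≠ i → l ∉ insert j S → ∀ u : GL (Fin k) F, Φ.SI u → Uni (u : Mm) →
              Commute Y' (fa l (u : Mm))) ∧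
            (((∃ l, Piece Φ a (X l)) ∧ Y' ≠ 0) ∨ ∀ c : F, Y' ≠ c • 1) := by
        rintro P _ hPc hC0 ⟨x, y, rfl⟩ hm
        rw [← mul_assoc, pureMat_mul_fa X hXj] at hm
        refine ⟨Function.update X j P, _, hm, fun l hl => ?_, fun l => ?_, hcomB x y, hfixB x y,
          Or.inl ⟨⟨j, by rwa [Function.update_self]⟩, hC0⟩⟩
        · simp only [Finset.mem_insert, not_or] at hl
          rw [Function.update_of_ne hl.1]; exact hX1 l hl.2
        · by_cases hl : l = j
          · subst hl; rw [Function.update_self]; exact Or.inr hPc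
          · rw [Function.update_of_ne hl]; exact hXp l
      by_cases h2 : Y2 = 0
      · by_cases h1 : Y1 = 0
        · have hY0 : Y' = Y0 := by rw [hform, h1, h2, mul_zero, mul_zero, add_zero, add_zero]
          refine ⟨X, Y', hmem, fun l hl => hX1 l fun h => hl (Finset.mem_insert_of_mem h), hXp,
            fun l hl => ?_, fun l hli hl => hfix l hli fun h => hl (Finset.mem_insert_of_mem h), hnd⟩
          rw [hY0]; exact hcomB a a l hl
        · obtain ⟨s, hs, hp⟩ := exists_flip hk hT
          refine finish _ Y1 hp h1 ⟨_, _, rfl⟩ ?_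
          have h := hdiff s hs
          rwa [h2, mul_zero, add_zero] at h
      · obtain ⟨hk4, hσ⟩ := hY2 h2
        obtain ⟨γ, hγ, hL⟩ := hT.ending.line
        have hoo : o ≠ o.rev := fun e => by have := congrArg Fin.val e; rw [Fin.val_rev] at this; omega
        have hom : Mid a o := ⟨fun e => by have := congrArg Fin.val e; omega,
          fun e => by have := congrArg Fin.val e; rw [Fin.val_rev] at this; omega⟩
        obtain ⟨s, hs, hsv⟩ := Φ.exists_long (a := o.rev) (by rw [Fin.rev_rev]; exact hoo.symm) hL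
        rw [Fin.rev_rev] at hsv
        have hsi : ((s⁻¹ : GL (Fin k) F) : Mm) = 1 - Matrix.single o.rev o γ := by
          have e : s = one_add _ (single_sq hoo.symm γ) := Units.ext hsv
          rw [e]; rfl
        have eT : (s : Mm) * Matrix.single a a.rev 1 * ((s⁻¹ : GL (Fin k) F) : Mm) - Matrix.single a a.rev 1 = 0 := by
          rw [hsv, hsi]
          simp [add_mul, mul_sub, Matrix.single_mul_single_of_ne _ _ _ _ hom.1,
            Matrix.single_mul_single_of_ne _ _ _ _ (Fin.rev_injective.ne (Ne.symm hom.1))]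
        have eH : (s : Mm) * H * ((s⁻¹ : GL (Fin k) F) : Mm) - H =
            γ • ((-(Φ.sg o.rev * Φ.sg a.rev)) • Matrix.single o.rev a.rev 1 - Matrix.single a o 1) := by
          have e : ∀ (p q : Fin k) (d : F), Matrix.single p q d = d • Matrix.single p q (1 : F) := fun p q d => by simp
          rw [hsv, hsi, hH, e o.rev o γ]
          simp only [add_mul, mul_add, mul_sub, one_mul, mul_one, Matrix.smul_mul, Matrix.mul_smul, smul_smul,
            Matrix.single_mul_single_same, Matrix.single_mul_single_of_ne _ _ _ _ hom.1,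
            Matrix.single_mul_single_of_ne _ _ _ _ (Fin.rev_injective.ne (Ne.symm hom.1)),
            Matrix.single_mul_single_of_ne _ _ _ _ hom.rev.1.symm,
            Matrix.single_mul_single_of_ne _ _ _ _ hom.2, mul_one, smul_zero, add_zero, zero_add]
          module
        refine finish _ Y2 (piece_short hk4 ha0 hγ hL hσ ho hγ) h2 ⟨_, _, rfl⟩ ?_
        have h := hdiff s hs
        rwa [eT, map_zero, zero_mul, zero_add, eH] at h
  obtain ⟨X, Y', hmem, hX1, hXp, hcom, -, hnd⟩ := h (Finset.univ.erase i) (Finset.notMem_erase i _)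
  obtain ⟨c, hc⟩ := scalar_of_commute (M := Y') fun l M => hcom l (by
    by_cases hl : l = i
    · exact Or.inl hl
    · exact Or.inr (Finset.mem_erase.2 ⟨hl, Finset.mem_univ l⟩)) M
  subst hc
  rcases hnd with ⟨hp, hne⟩ | hns'
  · refine ⟨X, c, fun h0 => hne (by rw [h0, zero_smul]), hX1 i (Finset.notMem_erase i _), hXp, hp, ?_⟩
    rwa [Matrix.mul_smul, mul_one] at hmem
  · exact absurd rfl (hns' c)

end CfsgLib.MaxSub.TensorForm
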