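import Cfsg.Agent.Lib.MaxSub.TensorForm.Entries
import Cfsg.Agent.Lib.MaxSub.TensorPow.Lie

/-!
A group of isometries without non-scalar radical blocks lies in the wreath product.
-/

set_option autoImplicit false
set_option maxHeartbeats 1000000
set_option linter.unusedSectionVars false
set_option linter.unusedSimpArgs false

namespace CfsgLib.MaxSub.TensorForm

open Matrix
open CfsgLib.Aschbacher CfsgLib.MaxSub.TensorPow

variable {F : Type*} [Field F] {k t : ℕ}

local notation "Mm" => Matrix (Fin k) (Fin k) F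
local notation "MT" => Matrix (Fin t → Fin k) (Fin t → Fin k) F
local notation "E[" i "](" a "," b ")" => fa i (Matrix.single a b (1 : F))

/-- An isotropic index avoiding a set. -/
theorem exists_iso_notMem {s : Finset (Fin k)} (h : s.card + 1 < k) :
    ∃ x, x ∉ s ∧ x ≠ x.rev := by
  obtain ⟨x, hx⟩ : ∃ x, x ∈ (Finset.univ : Finset (Fin k)) \ s := Finset.card_pos.1 (by
    rw [Finset.card_sdiff, Finset.inter_univ, Finset.card_univ, Fintype.card_fin]; omega)
  simp only [Finset.mem_sdiff, Finset.mem_univ, true_and] at hx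
  by_cases hxr : x ≠ x.rev
  · exact ⟨x, hx, hxr⟩
  push Not at hxr
  obtain ⟨y, hy⟩ : ∃ y, y ∈ ((Finset.univ : Finset (Fin k)) \ s).erase x := Finset.card_pos.1 (by
    rw [Finset.card_erase_of_mem (by simp [hx]), Finset.card_sdiff, Finset.inter_univ, Finset.card_univ,
      Fintype.card_fin]
    omega)
  simp only [Finset.mem_erase, Finset.mem_sdiff, Finset.mem_univ, true_and] at hy
  refine ⟨y, hy.2, fun hyr => hy.1 ?_⟩
  have h1 := congrArg Fin.val hxr
  have h2 := congrArg Fin.val hyr
  rw [Fin.val_rev] at h1 h2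
  exact Fin.ext (by omega)

/-- With an even number of indices all are isotropic. -/
theorem ne_rev_of_even (h : Even k) (x : Fin k) : x ≠ x.rev := fun e => by
  have h1 := congrArg Fin.val e
  rw [Fin.val_rev] at h1
  obtain ⟨c, hc⟩ := h
  omega

/-- What the last step needs from the form and the field. -/
structure EndTools (Φ : Frame F k) : Prop where
  line : ∃ γ : F, γ ≠ 0 ∧ Φ.Lng γ
  mode : ((∃ r : F, Φ.σ r = r ∧ r ≠ 0 ∧ r ≠ 1) ∧ (4 ≤ k ∨
      ∃ d : GL (Fin k) F, Φ.SI d ∧ (∀ x y, x ≠ y → (d : Mm) x y = 0) ∧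
        ∀ x y, x.rev ≠ y → x ≠ y → (d : Mm) x x ≠ (d : Mm) y y)) ∨
    6 ≤ k ∨ (4 ≤ k ∧ ∃ ω : F, Φ.σ ω ≠ ω)

namespace Frame

variable {Φ : Frame F k}

theorem qv_single_apply (s x : Fin k) : Φ.qv (Pi.single s 1) x = if x.rev = s then Φ.sg x else 0 := by
  rw [qv, Pi.single_apply]
  split <;> simp

theorem qv_single_dot (s : Fin k) (η : Fin k → F) : Φ.qv (Pi.single s 1) ⬝ᵥ η = Φ.sg s.rev * η s.rev := by
  rw [dotProduct, Finset.sum_eq_single s.rev]
  · rw [qv_single_apply, Fin.rev_rev, if_pos rfl]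
  · intro x _ hx
    rw [qv_single_apply, if_neg (fun h => hx (by rw [← h, Fin.rev_rev])), zero_mul]
  · simp

end Frame

variable {Φ : Frame F k} [NeZero k] [Fintype F] {G : Subgroup (GL (Fin t → Fin k) F)} {J : Finset (Fin t)}
  {a : Fin k}

section

variable (hk : 3 ≤ k) (ht : 2 ≤ t) (hH : Φ.Hyp G) (hT : ∀ x : Fin k, x ≠ x.rev → Φ.PointTools x)
  (ha : a ≠ a.rev) (hV : Φ.Transitive a) (hW : SwapTools Φ a) (hS : ∀ i, ScalAt G i a)
  (hrec : ∀ J' : Finset (Fin t), J'.card < J.card → ∀ g ∈ GJ G J', IsWr g) (hE : EndTools Φ)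
  {i : Fin t} (hi : i ∈ J)
include hk ht hH hT ha hV hW hS hrec hE hi

/-- The deviation vanishes off the diagonal of a factor and has equal values on it. -/
theorem dev_block {P : MT} (hP : ∀ X, Commute P (fa i X)) (x y : Fin k) :
    dev G J (E[i](x, y) * P) = 0 := by
  classical
  haveI : Fintype Φ.lngGroup := Fintype.ofFinite _
  obtain ⟨γ, hγ0, hγ⟩ := hE.line
  -- the basic test
  have single0 : ∀ x y z w s : Fin k, s ≠ s.rev → x.rev ≠ s → y ≠ s →
      ((z ≠ s ∧ w.rev ≠ s) ∨ ((∑ c : Φ.lngGroup, (c : F)) = 0 ∧ (z ≠ s ∨ w.rev ≠ s))) →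
      bl i (dev G J (E[i](x, y) * P)) z w = 0 := by
    intro x y z w s hs hxs hys h
    have hzero : (Pi.single z (1 : F) : Fin k → F) ⬝ᵥ Pi.single s 1 = 0 ↔ z ≠ s := by
      simp [Pi.single_apply, eq_comm]
    have hw0 : Φ.qv (Pi.single s 1) ⬝ᵥ Pi.single w (1 : F) = 0 ↔ w.rev ≠ s := by
      rw [dotProduct_single_one, Frame.qv_single_apply]
      by_cases h : w.rev = s <;> simp [h, Φ.sg_ne]
    have := dev_test hk ht hH (hT a ha) hV hW hS hrec hγ hγ0 hi hP (x := x) (y := y)
      (v := Pi.single s (1 : F)) (by simp) (Φ.qv_single hs)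
      (by rw [Frame.qv_single_apply, if_neg hxs]) (Pi.single_eq_of_ne hys _)
      (φ := Pi.single z 1) (η := Pi.single w 1)
      (h.imp (fun h => ⟨hzero.2 h.1, hw0.2 h.2⟩) (fun h => ⟨h.1, h.2.imp hzero.2 hw0.2⟩))
    rw [Finset.sum_eq_single z, Finset.sum_eq_single w] at this
    · simpa using this
    · intro w' _ hw'; simp [hw']
    · simp
    · intro z' _ hz'; simp [hz']
    · simp
  have bl0 : ∀ M : MT, (∀ z w, bl i M z w = 0) → M = 0 := fun M h =>
    bl_ext i fun z w => by rw [h, bl_zero]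
  have hlin : ∀ X : Mm, dev G J (fa i X * P) = ∑ x, ∑ y, X x y • dev G J (E[i](x, y) * P) := by
    intro X
    conv_lhs => rw [Matrix.matrix_eq_sum_single X]
    simp only [map_sum, Finset.sum_mul]
    refine Finset.sum_congr rfl fun x _ => Finset.sum_congr rfl fun y _ => ?_
    rw [← map_smul, ← Matrix.smul_mul, ← map_smul, Matrix.smul_single, smul_eq_mul, mul_one]
  have hconj : ∀ (s : GL (Fin k) F), Φ.SI s → ∀ X : Mm,
      dev G J (fa i ((s : Mm) * X * ((s⁻¹ : GL (Fin k) F) : Mm)) * P) = Ad (fu i s) (dev G J (fa i X * P)) := by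
    intro s hs X
    rw [← dev_equivariant hH i hs, Ad_mul_apply, Ad_fu_fa]
    congr 2
    rw [Ad_apply, fu_val, ← (hP _).eq, mul_assoc, ← map_inv, fu_val, ← map_mul, Units.mul_inv, map_one, mul_one]
  have hsum : ∀ r : F, Φ.σ r = r → r ≠ 0 → r ≠ 1 → (∑ c : Φ.lngGroup, (c : F)) = 0 := by
    intro r hr hr0 hr1
    have e : r * ∑ c : Φ.lngGroup, (c : F) = ∑ c : Φ.lngGroup, (c : F) := by
      rw [Finset.mul_sum]
      refine Fintype.sum_equiv (Equiv.ofBijective (fun c : Φ.lngGroup => (⟨r * c, (c.2 : Φ.Lng _).smul hr⟩ :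
        Φ.lngGroup)) ⟨fun c d h => Subtype.ext (mul_left_cancel₀ hr0 (congrArg Subtype.val h)), fun c =>
        ⟨⟨r⁻¹ * c, (c.2 : Φ.Lng _).smul (by rw [map_inv₀, hr])⟩, Subtype.ext (by simp [hr0])⟩⟩) _ _
        fun c => rfl
    by_contra hne
    exact hr1 (mul_right_cancel₀ hne (e.trans (one_mul _).symm))
  have four : 4 ≤ k → ∀ p q r' : Fin k, ∃ s, s ≠ s.rev ∧ s ≠ p ∧ s ≠ q ∧ s ≠ r' := by
    intro hk4 p q r'
    rcases Nat.lt_or_ge 4 k with h5 | h4
    · obtain ⟨s, hs, hsr⟩ := exists_iso_notMem (s := ({p, q, r'} : Finset (Fin k)))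
        (by have := Finset.card_le_three (a := p) (b := q) (c := r'); omega)
      simp only [Finset.mem_insert, Finset.mem_singleton, not_or] at hs
      exact ⟨s, hsr, hs.1, hs.2.1, hs.2.2⟩
    · obtain ⟨s, -, hs⟩ := Finset.exists_mem_notMem_of_card_lt_card
        (s := ({p, q, r'} : Finset (Fin k))) (t := Finset.univ)
        (by have := Finset.card_le_three (a := p) (b := q) (c := r'); simp; omega)
      simp only [Finset.mem_insert, Finset.mem_singleton, not_or] at hs
      exact ⟨s, ne_rev_of_even ⟨2, by omega⟩ s, hs.1, hs.2.1, hs.2.2⟩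
  -- off-diagonal units with distinct choices
  have off_big : 4 ≤ k → ∀ x y, x ≠ y → dev G J (E[i](x, y) * P) = 0 := by
    intro hk4 x y hxy
    refine bl0 _ fun z w => ?_
    rcases hE.mode with ⟨⟨r, hr, hr0, hr1⟩, -⟩ | hk6 | ⟨-, ω, hω⟩
    · have h1 := hsum r hr hr0 hr1
      obtain ⟨s, hs, hsr⟩ := exists_iso_notMem (s := ({x.rev, y} : Finset (Fin k)))
        (by have := Finset.card_le_two (a := x.rev) (b := y); omega)
      simp only [Finset.mem_insert, Finset.mem_singleton, not_or] at hs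
      by_cases h : z = s ∧ w.rev = s
      · obtain ⟨s', hs', hs'r⟩ : ∃ s', s' ∉ ({x.rev, y, s} : Finset (Fin k)) ∧ s' ≠ s'.rev := by
          rcases Nat.lt_or_ge 4 k with h5 | h4
          · exact exists_iso_notMem (by have := Finset.card_le_three (a := x.rev) (b := y) (c := s); omega)
          · obtain ⟨s', -, hs'⟩ := Finset.exists_mem_notMem_of_card_lt_card
              (s := ({x.rev, y, s} : Finset (Fin k))) (t := Finset.univ)
              (by have := Finset.card_le_three (a := x.rev) (b := y) (c := s); simp; omega)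
            exact ⟨s', hs', ne_rev_of_even ⟨2, by omega⟩ s'⟩
        simp only [Finset.mem_insert, Finset.mem_singleton, not_or] at hs'
        exact single0 x y z w s' hs'r (Ne.symm hs'.1) (Ne.symm hs'.2.1)
          (Or.inr ⟨h1, Or.inl (fun e => hs'.2.2 (e.symm.trans h.1))⟩)
      · exact single0 x y z w s hsr (Ne.symm hs.1) (Ne.symm hs.2) (Or.inr ⟨h1, not_and_or.1 h⟩)
    · obtain ⟨s, hs, hsr⟩ := exists_iso_notMem (s := ({x.rev, y, z, w.rev} : Finset (Fin k)))
        (by have := Finset.card_le_four (a := x.rev) (b := y) (c := z) (d := w.rev); omega)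
      simp only [Finset.mem_insert, Finset.mem_singleton, not_or] at hs
      exact single0 x y z w s hsr (Ne.symm hs.1) (Ne.symm hs.2.1) (Or.inl ⟨Ne.symm hs.2.2.1, Ne.symm hs.2.2.2⟩)
    · by_cases hex : ∃ s, s ≠ s.rev ∧ s ≠ x.rev ∧ s ≠ y ∧ s ≠ z ∧ s ≠ w.rev
      · obtain ⟨s, hsr, h1, h2, h3, h4⟩ := hex
        exact single0 x y z w s hsr h1.symm h2.symm (Or.inl ⟨h3.symm, h4.symm⟩)
      push Not at hex
      have hcover : ∀ s, s ≠ s.rev → s = x.rev ∨ s = y ∨ s = z ∨ s = w.rev := by
        intro s hs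
        by_contra hc
        push Not at hc
        exact hc.2.2.2 (hex s hs hc.1 hc.2.1 hc.2.2.1)
      -- the four indices are distinct and isotropic
      have hz : z ≠ z.rev ∧ z ≠ x.rev ∧ z ≠ y ∧ z ≠ w.rev := by
        obtain ⟨s, hs, h1, h2, h3⟩ := four hk4 x.rev y w.rev
        rcases hcover s hs with h | h | h | h
        · exact absurd h h1
        · exact absurd h h2
        · exact ⟨h ▸ hs, h ▸ h1, h ▸ h2, h ▸ h3⟩
        · exact absurd h h3
      have hw : w.rev ≠ w ∧ w.rev ≠ x.rev ∧ w.rev ≠ y ∧ w.rev ≠ z := by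
        obtain ⟨s, hs, h1, h2, h3⟩ := four hk4 x.rev y z
        rcases hcover s hs with h | h | h | h
        · exact absurd h h1
        · exact absurd h h2
        · exact absurd h h3
        · refine ⟨fun e => hs ?_, h ▸ h1, h ▸ h2, h ▸ h3⟩
          rw [h, Fin.rev_rev, e]
      by_cases hzw : z = w
      · -- then the first two form a pair
        subst hzw
        have hxr : x.rev ≠ x ∧ x.rev ≠ z ∧ x.rev ≠ z.rev := by
          obtain ⟨s, hs, h1, h2, h3⟩ := four hk4 y z z.rev
          rcases hcover s hs with h | h | h | h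
          · refine ⟨fun e => hs ?_, h ▸ h2, h ▸ h3⟩
            rw [h, Fin.rev_rev, e]
          · exact absurd h h1
          · exact absurd h h2
          · exact absurd h h3
        rcases hcover x (Ne.symm hxr.1) with h | h | h | h
        · exact absurd h.symm hxr.1
        · exact absurd h hxy
        · exact absurd (congrArg Fin.rev h) hxr.2.2
        · exact absurd (by rw [h, Fin.rev_rev]) hxr.2.1
      -- three tests
      set M := dev G J (E[i](x, y) * P) with hM
      have hzz : bl i M z z.rev = 0 :=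
        single0 x y z z.rev w.rev (by rw [Fin.rev_rev]; exact hw.1) (Ne.symm hw.2.1) (Ne.symm hw.2.2.1)
          (Or.inl ⟨Ne.symm hw.2.2.2, by rw [Fin.rev_rev]; exact Ne.symm hw.2.2.2⟩)
      have hww : bl i M w.rev w = 0 :=
        single0 x y w.rev w z hz.1 (Ne.symm hz.2.1) (Ne.symm hz.2.2.1)
          (Or.inl ⟨Ne.symm hz.2.2.2, Ne.symm hz.2.2.2⟩)
      have test : ∀ α : F, α • (Φ.sg z.rev • bl i M z w) + Φ.σ α • (Φ.sg w • bl i M w.rev z.rev) = 0 := by
        intro α
        set v : Fin k → F := Pi.single z 1 + α • Pi.single w.rev 1 with hv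
        have hvr : v z = 1 ∧ v w.rev = α := by
          simp [hv, hz.2.2.2, Ne.symm hz.2.2.2]
        have hqv : ∀ u : Fin k → F, Φ.qv v ⬝ᵥ u = Φ.sg z.rev * u z.rev + Φ.σ α * (Φ.sg w * u w) := by
          intro u
          have e : Φ.qv v = Φ.qv (Pi.single z 1) + Φ.σ α • Φ.qv (Pi.single w.rev 1) := by
            funext r; simp only [hv, Frame.qv, Pi.add_apply, Pi.smul_apply, smul_eq_mul, map_add, map_mul]; ring
          rw [e, add_dotProduct, smul_dotProduct, Frame.qv_single_dot, Frame.qv_single_dot, Fin.rev_rev,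
            smul_eq_mul]
        have hiso : Φ.qv v ⬝ᵥ v = 0 := by
          rw [hqv]
          have e1 : v z.rev = 0 := by
            simp [hv, Ne.symm hz.1, show z.rev ≠ w.rev from fun e => hzw (Fin.rev_injective e)]
          have e2 : v w = 0 := by
            simp [hv, Ne.symm hzw, hw.1.symm]
          rw [e1, e2]; ring
        have hv0 : v ≠ 0 := fun h0 => by simpa [h0] using hvr.1
        have hxv : Φ.qv v x = 0 := by
          have e := hqv (Pi.single x 1)
          rw [dotProduct_single_one] at e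
          rw [e, Pi.single_eq_of_ne (fun h => hz.2.1 (by rw [← h, Fin.rev_rev])),
            Pi.single_eq_of_ne (fun h => hw.2.1 (by rw [h]))]
          ring
        have hvy : v y = 0 := by
          simp [hv, Ne.symm hz.2.2.1, Ne.symm hw.2.2.1]
        have hzr : z.rev ≠ w := fun e => hz.2.2.2 (by rw [← e, Fin.rev_rev])
        set φ : Fin k → F := α • Pi.single z 1 - Pi.single w.rev 1 with hφ
        set η : Fin k → F := (Φ.σ α * Φ.sg w) • Pi.single z.rev 1 - Φ.sg z.rev • Pi.single w 1 with hη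
        have := dev_test hk ht hH (hT a ha) hV hW hS hrec hγ hγ0 hi hP (x := x) (y := y) hv0 hiso hxv hvy
          (φ := φ) (η := η) (Or.inl ⟨by
            simp [hφ, sub_dotProduct, smul_dotProduct, hvr.1, hvr.2], by
            rw [hqv]
            simp [hη, hzr, hzr.symm]
            ring⟩)
        have hsumz : ∀ f : Fin k → MT, ∑ r, φ r • f r = α • f z - f w.rev := by
          intro f
          simp only [hφ, Pi.sub_apply, Pi.smul_apply, sub_smul, Finset.sum_sub_distrib, Pi.single_apply,
            smul_eq_mul, mul_ite, mul_one, mul_zero, ite_smul, zero_smul, one_smul, Finset.sum_ite_eq',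
            Finset.mem_univ, if_true]
        have hsumw : ∀ f : Fin k → MT, ∑ r, η r • f r = (Φ.σ α * Φ.sg w) • f z.rev - Φ.sg z.rev • f w := by
          intro f
          simp only [hη, Pi.sub_apply, Pi.smul_apply, sub_smul, Finset.sum_sub_distrib, Pi.single_apply,
            smul_eq_mul, mul_ite, mul_one, mul_zero, ite_smul, zero_smul, one_smul, Finset.sum_ite_eq',
            Finset.mem_univ, if_true]
        simp only [← hM, mul_smul, ← Finset.smul_sum, hsumw] at this
        rw [hsumz, hzz, hww] at this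
        linear_combination (norm := module) -this
      have h1 := test 1
      rw [map_one, one_smul, one_smul] at h1
      have h2 := test ω
      rw [eq_neg_of_add_eq_zero_right h1, smul_neg, ← sub_eq_add_neg, ← sub_smul] at h2
      have hne : ω - Φ.σ ω ≠ 0 := sub_ne_zero.2 (Ne.symm hω)
      exact (smul_eq_zero.1 ((smul_eq_zero.1 h2).resolve_left hne)).resolve_left (Φ.sg_ne _)
  -- short root elements at an isotropic index
  have short : ∀ e m : Fin k, e ≠ e.rev → Mid e m → ∃ s : GL (Fin k) F, Φ.SI s ∧ (s : Mm) e m = 1 ∧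
      (∀ p, p ≠ e → (s : Mm) p m = (1 : Mm) p m) ∧ (∀ p, (s : Mm) p e = (1 : Mm) p e) ∧
      (∀ q, q ≠ e.rev → ((s⁻¹ : GL (Fin k) F) : Mm) m q = (1 : Mm) m q) ∧
      ((s⁻¹ : GL (Fin k) F) : Mm) e e = 1 ∧ ((s⁻¹ : GL (Fin k) F) : Mm) e m = -1 ∧
      ((s⁻¹ : GL (Fin k) F) : Mm) m e.rev = Φ.sg m * Φ.sg e.rev * Φ.σ ((s : Mm) e m.rev) := by
    intro e m he hm
    obtain ⟨s, hs, hsr, hsv⟩ := (hT e he).short (Pi.single m 1)
    have hinv : ((s⁻¹ : GL (Fin k) F) : Mm) = Φ.adj1 (s : Mm) := Units.inv_eq_of_mul_eq_one_left hs.1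
    have hirad : ∀ p q, OffRad e p q → ((s⁻¹ : GL (Fin k) F) : Mm) p q = (1 : Mm) p q := fun p q hpq => by
      rw [hinv, Frame.adj1_apply, hsr _ _ hpq.swap]
      by_cases h : p = q
      · subst h; simp [Φ.sg_sq]
      · simp [h, Fin.rev_inj, Ne.symm h]
    have hem : (s : Mm) e m = 1 := by rw [hsv m hm, Pi.single_eq_same]
    have hpm : ∀ p, p ≠ e → (s : Mm) p m = (1 : Mm) p m := fun p hp =>
      hsr p m ⟨fun h => absurd h hp, fun h => absurd h hm.2⟩
    have hpe : ∀ p, (s : Mm) p e = (1 : Mm) p e := fun p => hsr p e ⟨fun _ => rfl, fun h => absurd h he⟩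
    have hee : ((s⁻¹ : GL (Fin k) F) : Mm) e e = 1 := by
      rw [hirad e e ⟨fun _ => rfl, fun h => absurd h he⟩, Matrix.one_apply_eq]
    refine ⟨s, hs, hem, hpm, hpe, fun q hq => hirad m q ⟨fun h => absurd h hm.1, fun h => absurd h hq⟩, hee,
      ?_, ?_⟩
    · have h1 := congrFun (congrFun (Units.inv_mul s) e) m
      rw [Matrix.mul_apply, Matrix.one_apply_ne hm.1.symm, Finset.sum_eq_add e m hm.1.symm, hee, hem,
        hpm m hm.1, Matrix.one_apply_eq, one_mul, mul_one] at h1
      · exact eq_neg_of_add_eq_zero_right h1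
      · intro p _ hp; rw [hpm p hp.1, Matrix.one_apply_ne hp.2, mul_zero]
      · simp
      · simp
    · rw [hinv, Frame.adj1_apply, Fin.rev_rev]
  have hsandwich : ∀ (s : GL (Fin k) F) (p q p' q' : Fin k),
      ((s : Mm) * Matrix.single p q (1 : F) * ((s⁻¹ : GL (Fin k) F) : Mm) : Mm) p' q' =
        (s : Mm) p' p * ((s⁻¹ : GL (Fin k) F) : Mm) q q' := by
    intro s p q p' q'
    rw [single_eq_single_vecMulVec_single, mul_vecMulVec, vecMulVec_mul, vecMulVec_apply,
      Matrix.mulVec_single_one, Matrix.single_one_vecMul]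
    rfl
  have three : k = 3 → ∀ p q : Fin k, p ≠ q → p.rev ≠ q → dev G J (E[i](p, q) * P) = 0 := by
    intro hk3 p q hpq hpq'
    rcases hE.mode with ⟨⟨r, hr, hr0, hr1⟩, h4 | ⟨d, hd, hdd, hdne⟩⟩ | h | ⟨h, -⟩
    · omega
    · -- one of the two isotropic indices is available
      obtain ⟨e, he, hep, heq, hcase⟩ : ∃ e : Fin k, e ≠ e.rev ∧ p.rev ≠ e ∧ q ≠ e ∧
          ((p = e ∧ q.rev = q) ∨ (p.rev = p ∧ q = e.rev)) := by
        subst hk3
        revert p q
        decide
      refine bl0 _ fun z w => ?_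
      by_cases h : z = e ∧ w.rev = e
      · obtain ⟨rfl, hwe⟩ := h
        obtain rfl : w = z.rev := by rw [← hwe, Fin.rev_rev]
        set R := bl i (dev G J (E[i](p, q) * P)) z z.rev with hR
        have hdi : ((d⁻¹ : GL (Fin k) F) : Mm) = Φ.adj1 (d : Mm) := Units.inv_eq_of_mul_eq_one_left hd.1
        have hdi0 : ∀ x y, x ≠ y → ((d⁻¹ : GL (Fin k) F) : Mm) x y = 0 := fun x y hxy => by
          rw [hdi, Frame.adj1_apply, hdd _ _ (fun h => hxy (Fin.rev_injective h).symm), map_zero, mul_zero]
        have hdix : ∀ x, (d : Mm) x x * ((d⁻¹ : GL (Fin k) F) : Mm) x x = 1 := fun x => by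
          have h1 := congrFun (congrFun (Units.mul_inv d) x) x
          rwa [Matrix.mul_apply, Matrix.one_apply_eq, Finset.sum_eq_single x
            (fun y _ hy => by rw [hdd x y (Ne.symm hy), zero_mul]) (by simp)] at h1
        have e1 : (d : Mm) * Matrix.single p q 1 * ((d⁻¹ : GL (Fin k) F) : Mm) =
            ((d : Mm) p p * ((d⁻¹ : GL (Fin k) F) : Mm) q q) • Matrix.single p q 1 := by
          ext p' q'
          rw [hsandwich, Matrix.smul_apply, Matrix.single_apply]
          by_cases h1 : p = p'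
          · subst h1
            by_cases h2 : q = q'
            · subst h2; simp
            · simp [hdi0 q q' h2, h2]
          · simp [hdd p' p (Ne.symm h1), h1]
        have e2 := congrArg (fun M => bl i M z z.rev) (hconj d hd (Matrix.single p q 1))
        simp only [e1, map_smul, Matrix.smul_mul, bl_smul, Ad_apply, ← map_inv, fu_val, bl_fa_left,
          bl_fa_right] at e2
        rw [Finset.sum_eq_single z.rev, Finset.sum_eq_single z, ← hR, smul_smul] at e2
        · have hne : (d : Mm) p p * ((d⁻¹ : GL (Fin k) F) : Mm) q q ≠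
              ((d⁻¹ : GL (Fin k) F) : Mm) z.rev z.rev * (d : Mm) z z := by
            intro heq'
            have hz0 : (d : Mm) p p * (d : Mm) z.rev z.rev = (d : Mm) q q * (d : Mm) z z := by
              have h1 := hdix q
              have h2 := hdix z.rev
              linear_combination ((d : Mm) q q * (d : Mm) z.rev z.rev) * heq' -
                ((d : Mm) p p * (d : Mm) z.rev z.rev) * h1 + ((d : Mm) q q * (d : Mm) z z) * h2
            rcases hcase with ⟨rfl, hqq⟩ | ⟨hpp, rfl⟩
            · exact hdne p.rev q (by rw [Fin.rev_rev]; exact hpq) hpq'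
                (mul_left_cancel₀ (left_ne_zero_of_mul_eq_one (hdix p)) (hz0.trans (mul_comm _ _)))
            · exact hdne p z (by rw [hpp]; exact fun h => hep (by rw [hpp, h])) (fun h => hep (by rw [hpp, h]))
                (mul_right_cancel₀ (left_ne_zero_of_mul_eq_one (hdix z.rev)) (hz0.trans (mul_comm _ _)))
          exact (smul_eq_zero.1 (sub_eq_zero.2 e2 ▸ (by rw [sub_smul] :
            ((d : Mm) p p * ((d⁻¹ : GL (Fin k) F) : Mm) q q -
              ((d⁻¹ : GL (Fin k) F) : Mm) z.rev z.rev * (d : Mm) z z) • R = _))).resolve_left (sub_ne_zero.2 hne)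
        · intro v _ hv; simp [hdd z v (Ne.symm hv)]
        · simp
        · intro v _ hv; simp [hdi0 v z.rev hv]
        · simp
      · exact single0 p q z w e he hep heq (Or.inr ⟨hsum r hr hr0 hr1, not_and_or.1 h⟩)
    · omega
    · omega
  have off : ∀ p q : Fin k, p ≠ q → dev G J (E[i](p, q) * P) = 0 := by
    intro p q hpq
    rcases Nat.lt_or_ge k 4 with hk4 | hk4
    · have hk3 : k = 3 := by omega
      by_cases hpq' : p.rev = q
      · -- conjugate a neighbour
        have hp : p ≠ p.rev := fun e => hpq (e.trans hpq')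
        obtain ⟨m, hmp, hmq⟩ := third hk p p.rev
        have hm : Mid p m := ⟨hmp.symm, hmq.symm⟩
        obtain ⟨s, hs, hem, -, hpe, hmr, -, -, hmb⟩ := short p m hp hm
        have hmm : m.rev = m := by
          subst hk3
          exact (by decide : ∀ p m : Fin 3, p ≠ p.rev → m ≠ p → m ≠ p.rev → m.rev = m) p m hp hm.1 hm.2
        rw [hmm, hem, map_one, mul_one] at hmb
        have e1 : (s : Mm) * Matrix.single p m 1 * ((s⁻¹ : GL (Fin k) F) : Mm) =
            Matrix.single p m 1 + (Φ.sg m * Φ.sg p.rev) • Matrix.single p p.rev 1 := by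
          ext p' q'
          rw [hsandwich, hpe]
          by_cases h1 : p' = p
          · subst h1
            by_cases h2 : q' = p'.rev
            · subst h2; simp [hmb, hm.2]
            · simp [hmr q' h2, Matrix.one_apply, Matrix.single_apply, Ne.symm h2]
          · simp [h1, Ne.symm h1]
        have e2 := hconj s hs (Matrix.single p m 1)
        rw [e1, three hk3 p m hm.1.symm (fun e => hm.2 e.symm), map_zero, map_add, map_smul, add_mul, map_add,
          three hk3 p m hm.1.symm (fun e => hm.2 e.symm), zero_add, Matrix.smul_mul, map_smul, hpq'] at e2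
        exact (smul_eq_zero.1 e2).resolve_left (mul_ne_zero (Φ.sg_ne _) (Φ.sg_ne _))
      · exact three hk3 p q hpq hpq'
    · exact off_big hk4 p q hpq
  have hdiag : ∀ X : Mm, dev G J (fa i X * P) = ∑ p, X p p • dev G J (E[i](p, p) * P) := by
    intro X
    rw [hlin]
    refine Finset.sum_congr rfl fun p _ => ?_
    exact Finset.sum_eq_single p (fun q _ hq => by rw [off p q (Ne.symm hq), smul_zero]) (by simp)
  have link : ∀ e m : Fin k, e ≠ e.rev → Mid e m →
      dev G J (E[i](e, e) * P) = dev G J (E[i](m, m) * P) := by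
    intro e m he hm
    obtain ⟨s, hs, hem, hpm, -, -, hee, hiem, -⟩ := short e m he hm
    have e2 := hconj s hs (Matrix.single m e 1)
    rw [off m e hm.1, map_zero, hdiag] at e2
    simp only [hsandwich] at e2
    rw [Finset.sum_eq_add e m hm.1.symm, hem, hee, hpm m hm.1, hiem, Matrix.one_apply_eq, mul_one, one_mul,
      one_smul, neg_one_smul, ← sub_eq_add_neg, sub_eq_zero] at e2
    · exact e2
    · intro p _ hp
      rw [hpm p hp.1, Matrix.one_apply_ne hp.2, zero_mul, zero_smul]
    · simp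
    · simp
  have same : ∀ p : Fin k, dev G J (E[i](p, p) * P) = dev G J (E[i](a, a) * P) := by
    intro p
    obtain ⟨m, hma, hmb⟩ := third hk a a.rev
    have hm : Mid a m := ⟨hma.symm, hmb.symm⟩
    rcases cases3 a p with rfl | rfl | hp
    · rfl
    · rw [link a m ha hm, link a.rev m (by rw [Fin.rev_rev]; exact Ne.symm ha)
        ⟨hm.2, by rw [Fin.rev_rev]; exact hm.1⟩]
    · exact (link a p ha hp).symm
  have diag0 : dev G J (E[i](a, a) * P) = 0 := by
    refine bl0 _ fun z w => ?_
    rcases Nat.lt_or_ge k 4 with hk4 | hk4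
    · obtain ⟨m, hma, hmb⟩ := third hk a a.rev
      rw [← same m]
      have hmm : m.rev = m := by
        obtain rfl : k = 3 := by omega
        exact (by decide : ∀ p m : Fin 3, p ≠ p.rev → p ≠ m → p.rev ≠ m → m.rev = m) a m ha hma hmb
      rcases hE.mode with ⟨⟨r, hr, hr0, hr1⟩, -⟩ | h | ⟨h, -⟩
      · by_cases h : z = a ∧ w.rev = a
        · exact single0 m m z w a.rev (by rw [Fin.rev_rev]; exact Ne.symm ha)
            (by rw [hmm]; exact hmb.symm) hmb.symm
            (Or.inr ⟨hsum r hr hr0 hr1, Or.inl (by rw [h.1]; exact ha)⟩)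
        · exact single0 m m z w a ha (by rw [hmm]; exact hma.symm) hma.symm
            (Or.inr ⟨hsum r hr hr0 hr1, not_and_or.1 h⟩)
      · omega
      · omega
    · set p := if z ≠ z.rev then z else a with hp
      rw [← same p]
      obtain ⟨s, hsr, h1, h2, h3⟩ := four hk4 p.rev p w.rev
      refine single0 p p z w s hsr h1.symm h2.symm (Or.inl ⟨fun e => ?_, h3.symm⟩)
      subst e
      rw [hp, if_pos hsr] at h2
      exact h2 rfl
  by_cases hxy : x = y
  · rw [hxy, same, diag0]
  · exact off x y hxy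


end

end CfsgLib.MaxSub.TensorForm
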