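import Cfsg.Agent.Lib.MaxSub.TensorForm.Isolate
import Cfsg.Agent.Lib.MaxSub.TensorPow.Core

/-!
The relative trace of an operator differs from it only in positions met by the long root groups.
-/

set_option autoImplicit false
set_option maxHeartbeats 400000
set_option linter.unusedSectionVars false
set_option linter.unusedSimpArgs false

namespace CfsgLib.MaxSub.TensorForm

open Matrix
open CfsgLib.Aschbacher CfsgLib.MaxSub.TensorPow

variable {F : Type*} [Field F] {k t : ℕ}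

local notation "Mm" => Matrix (Fin k) (Fin k) F
local notation "MT" => Matrix (Fin t → Fin k) (Fin t → Fin k) F
local notation "E[" i "](" a "," b ")" => fa i (Matrix.single a b (1 : F))

namespace Frame

variable (Φ : Frame F k)

/-- The scalars on long root positions, as a group. -/
def lngGroup : AddSubgroup F where
  carrier := {c | Φ.Lng c}
  add_mem' := fun ha hb => ha.add hb
  zero_mem' := by simp [Lng]
  neg_mem' := fun {c} hc => by
    show Φ.Lng (-c)
    unfold Lng at *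
    rw [map_neg]
    have hc' : c + Φ.eps * Φ.σ c = 0 := hc
    linear_combination -hc' 

/-- The root matrix at an isotropic vector. -/
def vN (v : Fin k → F) : Mm := vecMulVec v (Φ.qv v)

variable {Φ}

theorem vN_sq {v : Fin k → F} (hv : Φ.qv v ⬝ᵥ v = 0) : Φ.vN v * Φ.vN v = 0 := vmv_sq hv

theorem smul_vN_sq {v : Fin k → F} (hv : Φ.qv v ⬝ᵥ v = 0) (c : F) : (c • Φ.vN v) * (c • Φ.vN v) = 0 := by
  rw [Matrix.smul_mul, Matrix.mul_smul, vN_sq hv, smul_zero, smul_zero]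

theorem si_vN {v : Fin k → F} (hv : Φ.qv v ⬝ᵥ v = 0) {c : F} (hc : Φ.Lng c) :
    Φ.SI (one_add (c • Φ.vN v) (smul_vN_sq hv c)) := by
  refine Φ.si_one_add _ ?_ ?_
  · rw [Φ.adj1_smul, vN, Φ.adj1_vecMulVec, Φ.qv_qv, smul_vecMulVec, smul_smul, ← add_smul]
    have h : Φ.σ c * Φ.eps + c = 0 := by
      unfold Lng at hc
      linear_combination hc
    rw [h, zero_smul]
  · rw [vN, ← smul_vecMulVec, vecMulVec_eq Unit, Matrix.det_one_add_replicateCol_mul_replicateRow,
      dotProduct_smul, hv, smul_zero, add_zero]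

/-- The root element at an isotropic vector. -/
noncomputable def vU (i : Fin t) {v : Fin k → F} (hv : Φ.qv v ⬝ᵥ v = 0) (c : Φ.lngGroup) :
    GL (Fin t → Fin k) F := fu i (one_add ((c : F) • Φ.vN v) (smul_vN_sq hv c))

theorem vU_val (i : Fin t) {v : Fin k → F} (hv : Φ.qv v ⬝ᵥ v = 0) (c : Φ.lngGroup) :
    (vU i hv c : MT) = 1 + (c : F) • fa i (Φ.vN v) := by
  rw [vU, fu_val, one_add_val, map_add, map_one, map_smul]

theorem vU_zero (i : Fin t) {v : Fin k → F} (hv : Φ.qv v ⬝ᵥ v = 0) : vU (Φ := Φ) i hv 0 = 1 :=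
  Units.ext (by rw [vU_val]; simp)

theorem vU_add (i : Fin t) {v : Fin k → F} (hv : Φ.qv v ⬝ᵥ v = 0) (c d : Φ.lngGroup) :
    vU i hv (c + d) = vU i hv c * vU i hv d := by
  refine Units.ext ?_
  rw [Units.val_mul, vU_val, vU_val, vU_val, AddSubgroup.coe_add, add_smul]
  simp only [add_mul, mul_add, one_mul, mul_one, Matrix.smul_mul, Matrix.mul_smul, ← map_mul, vN_sq hv, map_zero,
    smul_zero]
  abel

end Frame

/-- The number of elements of a non-trivial additive subgroup of a finite field vanishes in the field. -/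
theorem card_subgroup_cast [Finite F] (L : AddSubgroup F) [Fintype L] {γ : F} (hγ : γ ∈ L) (hγ0 : γ ≠ 0) :
    (Fintype.card L : F) = 0 := by
  have h : Fintype.card L • (⟨γ, hγ⟩ : L) = 0 := card_nsmul_eq_zero
  have h2 : Fintype.card L • γ = 0 := by
    have := congrArg Subtype.val h
    rwa [AddSubgroup.coe_nsmul, AddSubgroup.coe_zero] at this
  rw [nsmul_eq_mul] at h2
  exact (mul_eq_zero.1 h2).resolve_right hγ0

variable {Φ : Frame F k} [NeZero k] [Fintype F] {G : Subgroup (GL (Fin t → Fin k) F)} {J : Finset (Fin t)}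
  {a : Fin k}

/-- The operator to be killed. -/
noncomputable def dev (G : Subgroup (GL (Fin t → Fin k) F)) (J : Finset (Fin t)) :
    Matrix (Fin t → Fin k) (Fin t → Fin k) F →ₗ[F] Matrix (Fin t → Fin k) (Fin t → Fin k) F :=
  avg AdRep AdRep (GJ G J) (Cfsg.Geo.tensorWreathStandard k t F) (lieOp k t F) - lieOp k t F

theorem commH_lieOp : CommH AdRep AdRep (GJ G J) (Cfsg.Geo.tensorWreathStandard k t F) (lieOp k t F) := by
  intro h _ hh X
  rw [AdRep_apply, AdRep_apply, equivariant_lieOp h (isWr_of_mem_std hh)]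

/-- The deviation commutes with the factor groups. -/
theorem dev_equivariant (hH : Φ.Hyp G) (i : Fin t) {s : GL (Fin k) F} (hs : Φ.SI s) (X : MT) :
    dev G J (Ad (fu i s) X) = Ad (fu i s) (dev G J X) := by
  have h1 := avg_equivariant (ρ := AdRep) (σ := AdRep) (H := Cfsg.Geo.tensorWreathStandard k t F)
    (commH_lieOp (G := G) (J := J)) (fu_mem_GJ hH (J := J) i hs) X
  rw [AdRep_apply, AdRep_apply] at h1
  simp only [dev, LinearMap.sub_apply, map_sub, h1, equivariant_lieOp _ (isWr_fu i s)]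

section

variable (hk : 3 ≤ k) (ht : 2 ≤ t) (hH : Φ.Hyp G) (hT : Φ.PointTools a) (hV : Φ.Transitive a)
  (hW : SwapTools Φ a) (hS : ∀ i, ScalAt G i a)
  (hrec : ∀ J' : Finset (Fin t), J'.card < J.card → ∀ g ∈ GJ G J', IsWr g)
include hk ht hH hT hV hW hS hrec

/-- Root elements at isotropic vectors are isolated. -/
theorem vU_isolated {i : Fin t} (hi : i ∈ J) {v : Fin k → F} (hv0 : v ≠ 0) (hv : Φ.qv v ⬝ᵥ v = 0)
    {c : Φ.lngGroup} (hc : c ≠ 0) {g : GL (Fin t → Fin k) F} (hg : g ∈ GJ G J)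
    (hw : IsWr (g⁻¹ * Frame.vU i hv c * g)) : IsWr g := by
  obtain ⟨s, μ, hμ, hs, hsv⟩ := hV v hv0 hv
  have hsG := fu_mem_GJ hH (J := J) i hs
  set ρ := Φ.sg a.rev * μ * Φ.σ μ with hρ
  have hρ0 : ρ ≠ 0 := mul_ne_zero (mul_ne_zero (Φ.sg_ne _) hμ) (by simpa using hμ)
  have hρσ : Φ.σ ρ⁻¹ = ρ⁻¹ := by
    rw [map_inv₀, hρ, map_mul, map_mul, Φ.map_sg, Φ.invol]; ring
  have hc0 : (c : F) ≠ 0 := fun h => hc (Subtype.ext h)
  have hL : Φ.Lng (ρ⁻¹ * (c : F)) := (c.2 : Φ.Lng (c : F)).smul hρσ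
  obtain ⟨r, hr, hrv⟩ := Φ.exists_long hT.ne hL
  have e : Frame.vU i hv c = fu i s * fu i r * (fu i s)⁻¹ := by
    refine Units.ext ?_
    rw [Frame.vU_val, Units.val_mul, Units.val_mul, fu_val i r, hrv, map_add, map_one, mul_add, add_mul, mul_one,
      Units.mul_inv, ← Ad_apply, Ad_fu_fa,
      show Matrix.single a a.rev (ρ⁻¹ * (c : F)) = (ρ⁻¹ * (c : F)) • Matrix.single a a.rev (1 : F) by simp,
      Matrix.mul_smul, Matrix.smul_mul, Φ.conj_long hs.1, hsv, Φ.qv_smul, smul_vecMulVec, vecMulVec_smul,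
      smul_smul, smul_smul, smul_smul, ← map_smul, Frame.vN]
    congr 3
    rw [hρ]
    field_simp [Φ.sg_ne, hμ]
  have hw' : IsWr (((fu i s)⁻¹ * g)⁻¹ * fu i r * ((fu i s)⁻¹ * g)) := by
    rw [e] at hw
    convert hw using 1
    group
  have := isWr_of_conj hk ht hH hT hV hW hS hrec (mul_mem (inv_mem hsG) hg) hi
    (mul_ne_zero (inv_ne_zero hρ0) hc0) hL (u := fu i r) (by rw [fu_val, hrv, map_add, map_one]) hw'
  have h2 := isWr_mul (isWr_fu i s) this
  rwa [mul_inv_cancel_left] at h2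

/-- The deviation on a matrix fixed by the root group at an isotropic vector. -/
theorem dev_fixed [Fintype Φ.lngGroup] {γ : F} (hγ : Φ.Lng γ) (hγ0 : γ ≠ 0) {i : Fin t} (hi : i ∈ J)
    {v : Fin k → F} (hv0 : v ≠ 0) (hv : Φ.qv v ⬝ᵥ v = 0) {X : MT}
    (hl : fa i (Φ.vN v) * X = 0) (hr : X * fa i (Φ.vN v) = 0) :
    ∃ Y : MT, dev G J X = (∑ c : Φ.lngGroup, (c : F)) • (fa i (Φ.vN v) * Y - Y * fa i (Φ.vN v)) -
      (∑ c : Φ.lngGroup, (c : F) * c) • (fa i (Φ.vN v) * Y * fa i (Φ.vN v)) := by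
  set N : MT := fa i (Φ.vN v) with hN
  have hNN : N * N = 0 := by rw [hN, ← map_mul, Frame.vN_sq hv, map_zero]
  have hcN : ∀ c : F, (c • N) * (c • N) = 0 := fun c => by
    rw [Matrix.smul_mul, Matrix.mul_smul, hNN, smul_zero, smul_zero]
  have hu : ∀ c, Frame.vU i hv c = one_add ((c : F) • N) (hcN c) := fun c => Units.ext (Frame.vU_val i hv c)
  obtain ⟨Y, hY⟩ := avg_sub_mem (ρ := AdRep) (σ := AdRep) (H := Cfsg.Geo.tensorWreathStandard k t F)
    (commH_lieOp (G := G) (J := J)) (Frame.vU i hv) (Frame.vU_zero i hv) (Frame.vU_add i hv)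
    (fun c => fu_mem_GJ hH i (Frame.si_vN hv c.2)) (fun c => mem_std_iff.2 (isWr_fu i _))
    (fun c hc g hg h => mem_std_iff.2 (vU_isolated hk ht hH hT hV hW hS hrec hi hv0 hv hc hg
      (isWr_of_mem_std h)))
    (X := X) (fun c => by
      rw [AdRep_apply, hu, Ad_one_add]
      simp [Matrix.smul_mul, Matrix.mul_smul, hl, hr, mul_assoc])
  refine ⟨Y, ?_⟩
  rw [dev, LinearMap.sub_apply, hY]
  simp only [AdRep_apply, hu, Ad_one_add, Finset.sum_add_distrib, Finset.sum_const, Finset.card_univ,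
    ← Nat.cast_smul_eq_nsmul F, card_subgroup_cast Φ.lngGroup (γ := γ) hγ hγ0, zero_smul, zero_add,
    Finset.sum_sub_distrib, Matrix.smul_mul, Matrix.mul_smul, smul_smul, ← Finset.sum_smul, smul_sub]

/-- A combination of blocks of the deviation vanishes. -/
theorem dev_test [Fintype Φ.lngGroup] {γ : F} (hγ : Φ.Lng γ) (hγ0 : γ ≠ 0) {i : Fin t} (hi : i ∈ J)
    {P : MT} (hP : ∀ X, Commute P (fa i X)) {x y : Fin k} {v : Fin k → F} (hv0 : v ≠ 0)
    (hv : Φ.qv v ⬝ᵥ v = 0) (hvx : Φ.qv v x = 0) (hvy : v y = 0) {φ η : Fin k → F}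
    (h : (φ ⬝ᵥ v = 0 ∧ Φ.qv v ⬝ᵥ η = 0) ∨
      ((∑ c : Φ.lngGroup, (c : F)) = 0 ∧ (φ ⬝ᵥ v = 0 ∨ Φ.qv v ⬝ᵥ η = 0))) :
    ∑ z, ∑ w, (φ z * η w) • bl i (dev G J (E[i](x, y) * P)) z w = 0 := by
  have hl : fa i (Φ.vN v) * (E[i](x, y) * P) = 0 := by
    rw [← mul_assoc, ← map_mul, Frame.vN, single_eq_single_vecMulVec_single, vecMulVec_mul_vecMulVec,
      dotProduct_single_one, hvx, zero_smul]
    simp
  have hr : E[i](x, y) * P * fa i (Φ.vN v) = 0 := by
    rw [mul_assoc, (hP _).eq, ← mul_assoc, ← map_mul, Frame.vN, single_eq_single_vecMulVec_single,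
      vecMulVec_mul_vecMulVec, single_one_dotProduct, hvy, zero_smul]
    simp
  obtain ⟨Y, hY⟩ := dev_fixed hk ht hH hT hV hW hS hrec hγ hγ0 hi hv0 hv hl hr
  let T : MT →ₗ[F] MT :=
    { toFun := fun M => ∑ z, ∑ w, (φ z * η w) • bl i M z w
      map_add' := fun M M' => by simp [bl_add, smul_add, Finset.sum_add_distrib]
      map_smul' := fun c M => by simp [bl_smul, Finset.smul_sum, smul_smul, mul_comm c] }
  have hTl : ∀ M, φ ⬝ᵥ v = 0 → T (fa i (Φ.vN v) * M) = 0 := fun M h0 => by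
    show ∑ z, ∑ w, (φ z * η w) • bl i (fa i (Φ.vN v) * M) z w = 0
    rw [Finset.sum_comm]
    refine Finset.sum_eq_zero fun w _ => ?_
    simp only [bl_fa_left, Finset.smul_sum, smul_smul]
    rw [Finset.sum_comm]
    refine Finset.sum_eq_zero fun u _ => ?_
    rw [← Finset.sum_smul]
    have e : ∑ z, φ z * η w * Φ.vN v z u = (φ ⬝ᵥ v) * (η w * Φ.qv v u) := by
      simp only [Frame.vN, vecMulVec_apply, dotProduct, Finset.sum_mul]
      exact Finset.sum_congr rfl fun z _ => by ring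
    rw [e, h0, zero_mul, zero_smul]
  have hTr : ∀ M, Φ.qv v ⬝ᵥ η = 0 → T (M * fa i (Φ.vN v)) = 0 := fun M h0 => by
    show ∑ z, ∑ w, (φ z * η w) • bl i (M * fa i (Φ.vN v)) z w = 0
    refine Finset.sum_eq_zero fun z _ => ?_
    simp only [bl_fa_right, Finset.smul_sum, smul_smul]
    rw [Finset.sum_comm]
    refine Finset.sum_eq_zero fun u _ => ?_
    rw [← Finset.sum_smul]
    have e : ∑ w, φ z * η w * Φ.vN v u w = (φ z * v u) * (Φ.qv v ⬝ᵥ η) := by
      simp only [Frame.vN, vecMulVec_apply, dotProduct, Finset.mul_sum]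
      exact Finset.sum_congr rfl fun w _ => by ring
    rw [e, h0, mul_zero, zero_smul]
  show T _ = 0
  rw [hY, map_sub, map_smul, map_smul, map_sub]
  rcases h with ⟨h1, h2⟩ | ⟨h0, h1 | h2⟩
  · rw [hTl _ h1, hTr _ h2, mul_assoc, hTl _ h1]; simp
  · rw [h0, mul_assoc, hTl _ h1]; simp [hTl _ h1]
  · rw [h0]; simp [hTr _ h2]

end

end CfsgLib.MaxSub.TensorForm
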