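import Cfsg.Agent.Lib.MaxSub.TensorForm.Core
import Mathlib.GroupTheory.PGroup

/-!
An invariant additive group with a non-scalar element has one fixed, modulo scalars, by the unipotent upper
triangular elements of the factors.
-/

set_option autoImplicit false
set_option maxHeartbeats 400000
set_option linter.unusedSectionVars false

namespace CfsgLib.MaxSub.TensorForm

open Matrix
open CfsgLib.Aschbacher CfsgLib.MaxSub.TensorPow

variable {F : Type*} [Field F] {k t : ℕ}

local notation "Mm" => Matrix (Fin k) (Fin k) F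
local notation "MT" => Matrix (Fin t → Fin k) (Fin t → Fin k) F

/-- Upper unitriangular. -/
def Uni (s : Matrix (Fin k) (Fin k) F) : Prop := ∀ x y, y ≤ x → s x y = (1 : Matrix (Fin k) (Fin k) F) x y

theorem Uni.one : Uni (1 : Mm) := fun _ _ _ => rfl

theorem Uni.mul {r s : Mm} (hr : Uni r) (hs : Uni s) : Uni (r * s) := fun x y hxy => by
  rw [Matrix.mul_apply]
  by_cases h : x = y
  · subst h
    rw [Finset.sum_eq_single x, hr x x le_rfl, hs x x le_rfl, Matrix.one_apply_eq, one_mul]
    · intro z _ hz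
      rcases lt_or_gt_of_ne hz with h | h
      · rw [hr x z h.le, Matrix.one_apply_ne h.ne', zero_mul]
      · rw [hs z x h.le, Matrix.one_apply_ne h.ne', mul_zero]
    · simp
  · rw [Matrix.one_apply_ne h]
    refine Finset.sum_eq_zero fun z _ => ?_
    have hlt := lt_of_le_of_ne hxy (Ne.symm h)
    by_cases hz : z < x
    · rw [hr x z hz.le, Matrix.one_apply_ne hz.ne', zero_mul]
    · rw [hs z y (le_trans hxy (not_lt.1 hz)), Matrix.one_apply_ne (ne_of_gt (lt_of_lt_of_le hlt (not_lt.1 hz))),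
        mul_zero]

/-- A unitriangular matrix has order a power of the characteristic. -/
theorem Uni.pow_eq_one (p : ℕ) [hp : Fact p.Prime] [CharP F p] {s : Mm} (hs : Uni s) : s ^ p ^ k = 1 := by
  rcases Nat.eq_zero_or_pos k with rfl | hk
  · exact Subsingleton.elim _ _
  haveI : NeZero k := ⟨hk.ne'⟩
  set N := s - 1 with hN
  have hN0 : ∀ x y : Fin k, y ≤ x → N x y = 0 := fun x y h => by rw [hN, Matrix.sub_apply, hs x y h, sub_self]
  have hpow : ∀ (e : ℕ) (x y : Fin k), (y : ℕ) < x + e → (N ^ e) x y = 0 := by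
    intro e
    induction e with
    | zero =>
      intro x y h
      rw [pow_zero, Matrix.one_apply_ne]
      intro h'
      subst h'
      omega
    | succ e ih =>
      intro x y h
      rw [pow_succ, Matrix.mul_apply]
      refine Finset.sum_eq_zero fun z _ => ?_
      by_cases hz : (z : ℕ) < x + e
      · rw [ih x z hz, zero_mul]
      · rw [hN0 z y (Fin.le_def.2 (by omega)), mul_zero]
  have hk' : N ^ (p ^ k) = 0 := by
    have h0 : N ^ k = 0 := Matrix.ext fun x y => hpow k x y (by omega)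
    rw [← Nat.add_sub_of_le (Nat.lt_pow_self hp.out.one_lt).le, pow_add, h0, zero_mul]
  have e : s = 1 + N := by rw [hN]; abel
  haveI : CharP Mm p := Matrix.charP p
  rw [e, add_pow_char_pow_of_commute p k (Commute.one_left N), one_pow, hk', add_zero]

variable (Φ : Frame F k) [Fintype F]

/-- The unipotent group of the factors other than one. -/
noncomputable def upperGroup (p : ℕ) [Fact p.Prime] [CharP F p] (i : Fin t) :
    Subgroup (GL (Fin t → Fin k) F) where
  carrier := {g | ∃ A : Fin t → GL (Fin k) F, (∀ j, Φ.SI (A j) ∧ Uni (A j : Matrix (Fin k) (Fin k) F)) ∧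
    A i = 1 ∧ g = pureGL A}
  mul_mem' := by
    rintro _ _ ⟨A, hA, hAi, rfl⟩ ⟨B, hB, hBi, rfl⟩
    exact ⟨A * B, fun j => ⟨Frame.SI.mul Φ (hA j).1 (hB j).1, (hA j).2.mul (hB j).2⟩, by simp [hAi, hBi],
      pureGL_mul A B⟩
  one_mem' := ⟨1, fun j => ⟨Φ.si_one, Uni.one⟩, rfl, pureGL_one.symm⟩
  inv_mem' := by
    rintro _ ⟨A, hA, hAi, rfl⟩
    refine ⟨A⁻¹, fun j => ⟨Frame.SI.inv Φ (hA j).1, ?_⟩, by simp [hAi], pureGL_inv A⟩
    have h := (hA j).2.pow_eq_one p
    have h1 : ((A j) ^ (p ^ k - 1) * A j : GL (Fin k) F) = 1 := Units.ext (by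
      rw [← pow_succ, Nat.sub_add_cancel (Nat.one_le_pow _ _ (Fact.out : p.Prime).pos), Units.val_pow_eq_pow_val, h,
        Units.val_one])
    show Uni (((A j)⁻¹ : GL (Fin k) F) : Mm)
    rw [← eq_inv_of_mul_eq_one_left h1, Units.val_pow_eq_pow_val]
    generalize p ^ k - 1 = e
    induction e with
    | zero => exact Uni.one
    | succ e ih => exact ih.mul (hA j).2

variable {Φ}

theorem isPGroup_upperGroup (p : ℕ) [Fact p.Prime] [CharP F p] (i : Fin t) :
    IsPGroup p (upperGroup Φ p i) := by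
  rintro ⟨_, A, hA, hAi, rfl⟩
  refine ⟨k, Subtype.ext ?_⟩
  show pureGL A ^ p ^ k = 1
  have hmul : ∀ e : ℕ, pureGL A ^ e = pureGL (A ^ e) := by
    intro e
    induction e with
    | zero => rw [pow_zero, pow_zero, pureGL_one]
    | succ e ih => rw [pow_succ, pow_succ, ih, pureGL_mul]
  rw [hmul, ← pureGL_one]
  congr 1
  funext j
  refine Units.ext ?_
  rw [Pi.pow_apply, Units.val_pow_eq_pow_val, (hA j).2.pow_eq_one p]
  rfl

/-- An additive group of matrices centralising a factor, invariant under the groups of the other factors. -/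
structure Invariant (Φ : Frame F k) (i : Fin t)
    (Z : AddSubgroup (Matrix (Fin t → Fin k) (Fin t → Fin k) F)) : Prop where
  cent : ∀ Y ∈ Z, ∀ X, Commute Y (fa i X)
  conj : ∀ j, j ≠ i → ∀ s, Φ.SI s → ∀ Y ∈ Z, Ad (fu j s) Y ∈ Z

theorem Invariant.upper_mem [NeZero k] {i : Fin t}
    {Z : AddSubgroup (Matrix (Fin t → Fin k) (Fin t → Fin k) F)} (hZ : Invariant Φ i Z)
    {A : Fin t → GL (Fin k) F} (hA : ∀ j, Φ.SI (A j)) (hAi : A i = 1) {Y : MT} (hY : Y ∈ Z) :
    Ad (pureGL A) Y ∈ Z := by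
  classical
  have h : ∀ S : Finset (Fin t), Ad (pureGL (fun j => if j ∈ S then A j else 1)) Y ∈ Z := by
    intro S
    induction S using Finset.induction_on with
    | empty =>
      have e : (fun j => if j ∈ (∅ : Finset (Fin t)) then A j else 1) = (1 : Fin t → GL (Fin k) F) := by
        funext j; simp
      rw [e, pureGL_one, Ad_one]; exact hY
    | insert j S hj ih =>
      have e : pureGL (fun l => if l ∈ insert j S then A l else 1) =
          fu j (A j) * pureGL (fun l => if l ∈ S then A l else 1) := by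
        rw [fu_eq, pureGL_mul]
        congr 1
        funext l
        by_cases hl : l = j
        · subst hl; simp [hj]
        · simp [hl]
      rw [e, Ad_mul]
      by_cases hji : j = i
      · rw [hji, hAi, map_one, Ad_one]; exact ih
      · exact hZ.conj j hji _ (hA j) _ ih
  simpa using h Finset.univ

/-- A non-scalar element fixed modulo the scalars. -/
theorem exists_fixed [NeZero k] {i : Fin t}
    {Z : AddSubgroup (Matrix (Fin t → Fin k) (Fin t → Fin k) F)} (hZ : Invariant Φ i Z)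
    {Y₀ : MT} (hY₀ : Y₀ ∈ Z) (hns : ∀ c : F, Y₀ ≠ c • 1) :
    ∃ Y ∈ Z, (∀ c : F, Y ≠ c • 1) ∧
      ∀ j, j ≠ i → ∀ u, Φ.SI u → Uni (u : Mm) → ∃ c : F, Ad (fu j u) Y - Y = c • 1 := by
  classical
  obtain ⟨p, hp⟩ := CharP.exists F
  haveI := hp
  haveI hpf : Fact p.Prime := ⟨CharP.char_is_prime F p⟩
  let S : AddSubgroup MT := Z ⊓ (Submodule.span F {(1 : MT)}).toAddSubgroup
  let S' : AddSubgroup Z := S.addSubgroupOf Z
  have hSmem : ∀ y : Z, y ∈ S' ↔ ∃ c : F, c • (1 : MT) = y := fun y => by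
    simp [S', S, AddSubgroup.mem_addSubgroupOf, Submodule.mem_span_singleton]
  let U := upperGroup Φ p i
  have hmem : ∀ g : U, ∀ y : Z, Ad (g : GL (Fin t → Fin k) F) (y : MT) ∈ Z := by
    rintro ⟨_, A, hA, hAi, rfl⟩ y
    exact hZ.upper_mem (fun j => (hA j).1) hAi y.2
  let act : U → Z →+ Z := fun g =>
    { toFun := fun y => ⟨Ad (g : GL (Fin t → Fin k) F) (y : MT), hmem g y⟩
      map_zero' := Subtype.ext (by simp)
      map_add' := fun y y' => Subtype.ext (by simp) }
  have hSact : ∀ g : U, ∀ y ∈ S', act g y ∈ S' := fun g y hy => by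
    obtain ⟨c, hc⟩ := (hSmem y).1 hy
    refine (hSmem _).2 ⟨c, ?_⟩
    show _ = Ad (g : GL (Fin t → Fin k) F) (y : MT)
    rw [← hc, map_smul, Ad_apply, mul_one, Units.mul_inv]
  letI : MulAction U (Z ⧸ S') :=
    { smul := fun g => QuotientAddGroup.map S' S' (act g) (fun y hy => hSact g y hy)
      one_smul := fun q => by
        induction q using QuotientAddGroup.induction_on with
        | _ y => exact congrArg _ (Subtype.ext (Ad_one (y : MT)))
      mul_smul := fun g h q => by
        induction q using QuotientAddGroup.induction_on with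
        | _ y => exact congrArg _ (Subtype.ext (Ad_mul _ _ (y : MT))) }
  haveI : Finite MT := by unfold Matrix; infer_instance
  have hne : ((⟨Y₀, hY₀⟩ : Z) : Z ⧸ S') ≠ 0 := by
    rw [Ne, QuotientAddGroup.eq_zero_iff, hSmem]
    rintro ⟨c, hc⟩
    exact hns c hc.symm
  have hpV : p ∣ Nat.card (Z ⧸ S') := by
    have h0 : p • ((⟨Y₀, hY₀⟩ : Z) : Z ⧸ S') = 0 := by
      rw [← QuotientAddGroup.mk_nsmul]
      refine (QuotientAddGroup.eq_zero_iff _).2 ((hSmem _).2 ⟨0, ?_⟩)
      show (0 : F) • (1 : MT) = p • Y₀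
      rw [← Nat.cast_smul_eq_nsmul F, CharP.cast_eq_zero, zero_smul, zero_smul]
    have := addOrderOf_eq_prime h0 hne
    exact this ▸ addOrderOf_dvd_natCard _
  have hfix0 : (0 : Z ⧸ S') ∈ MulAction.fixedPoints U (Z ⧸ S') := fun g => by
    show QuotientAddGroup.map S' S' (act g) _ 0 = 0
    exact map_zero _
  obtain ⟨q, hq, hq0⟩ := (isPGroup_upperGroup (Φ := Φ) p i).exists_fixed_point_of_prime_dvd_card_of_fixed_point
    (Z ⧸ S') hpV hfix0
  induction q using QuotientAddGroup.induction_on with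
  | _ y =>
    refine ⟨y, y.2, fun c hc => hq0 ?_, fun j hj u hu huu => ?_⟩
    · exact ((QuotientAddGroup.eq_zero_iff _).2 ((hSmem _).2 ⟨c, hc.symm⟩)).symm
    have hg : fu j u ∈ U := ⟨Function.update 1 j u, fun l => by
        by_cases hl : l = j
        · subst hl; simp only [Function.update_self]; exact ⟨hu, huu⟩
        · simp only [Function.update_of_ne hl]; exact ⟨Φ.si_one, Uni.one⟩,
      by simp [Ne.symm hj], fu_eq j u⟩
    have h1 : ((act ⟨fu j u, hg⟩ y : Z) : Z ⧸ S') = (y : Z ⧸ S') := hq ⟨fu j u, hg⟩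
    rw [QuotientAddGroup.eq, hSmem] at h1
    obtain ⟨c, hc⟩ := h1
    refine ⟨-c, ?_⟩
    rw [neg_smul, hc]
    show _ = -(-(Ad (fu j u) (y : MT)) + (y : MT))
    abel

end CfsgLib.MaxSub.TensorForm
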