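import Cfsg.Agent.Lib.MaxSub.TensorPow.Moving

/-!
Antidiagonal forms on a factor and their tensor powers: adjoints.
-/

set_option autoImplicit false
set_option maxHeartbeats 400000
set_option linter.unusedSectionVars false

namespace CfsgLib.MaxSub.TensorForm

open Matrix
open CfsgLib.Aschbacher CfsgLib.MaxSub.TensorPow

variable {F : Type*} [Field F] {k t : ℕ}

section adjOf

variable {ι : Type} (σ : F →+* F) (r : ι → ι) (s : ι → F)

/-- The adjoint for a monomial sesquilinear form. -/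
def adjOf (A : Matrix ι ι F) : Matrix ι ι F := Matrix.of fun x y => s x * s y * σ (A (r y) (r x))

theorem adjOf_apply (A : Matrix ι ι F) (x y : ι) : adjOf σ r s A x y = s x * s y * σ (A (r y) (r x)) := rfl

theorem adjOf_add (A B : Matrix ι ι F) : adjOf σ r s (A + B) = adjOf σ r s A + adjOf σ r s B := by
  ext x y; simp [adjOf_apply, mul_add]

theorem adjOf_smul (c : F) (A : Matrix ι ι F) : adjOf σ r s (c • A) = σ c • adjOf σ r s A := by
  ext x y; simp only [adjOf_apply, Matrix.smul_apply, smul_eq_mul, map_mul]; ring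

variable {σ r s} [Fintype ι] [DecidableEq ι] (hr : Function.Involutive r) (hs : ∀ x, s x * s x = 1)

include hs in
/-- The signs are fixed. -/
theorem map_sign (x : ι) : σ (s x) = s x := by
  rcases mul_self_eq_one_iff.1 (hs x) with h | h <;> simp [h]

include hr hs in
theorem adjOf_mul (A B : Matrix ι ι F) : adjOf σ r s (A * B) = adjOf σ r s B * adjOf σ r s A := by
  ext x y
  simp only [adjOf_apply, Matrix.mul_apply, map_sum, Finset.mul_sum, map_mul]
  refine Fintype.sum_equiv (Function.Involutive.toPerm r hr) _ _ fun z => ?_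
  simp only [Function.Involutive.coe_toPerm, hr z]
  linear_combination (-(s x * s y * σ (A (r y) z) * σ (B z (r x)))) * hs (r z)

include hr hs in
theorem adjOf_one : adjOf σ r s (1 : Matrix ι ι F) = 1 := by
  ext x y
  rw [adjOf_apply]
  by_cases h : x = y
  · subst h; simp [hs]
  · simp [h, hr.injective.ne (Ne.symm h)]

include hr hs in
theorem adjOf_single (a b : ι) (c : F) :
    adjOf σ r s (Matrix.single a b c) = Matrix.single (r b) (r a) (s (r b) * s (r a) * σ c) := by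
  ext x y
  rw [adjOf_apply]
  by_cases h : r b = x ∧ r a = y
  · obtain ⟨rfl, rfl⟩ := h
    simp [hr b, hr a]
  · rw [Matrix.single_apply, Matrix.single_apply, if_neg h, if_neg, map_zero, mul_zero]
    rintro ⟨h1, h2⟩
    exact h ⟨by rw [h2, hr], by rw [h1, hr]⟩

include hr hs in
theorem adjOf_adjOf (hσ : ∀ c, σ (σ c) = c) {e : F} (he : e * e = 1) (hrs : ∀ x, s (r x) = e * s x)
    (A : Matrix ι ι F) : adjOf σ r s (adjOf σ r s A) = A := by
  ext x y
  have he' : σ e = e := by rcases mul_self_eq_one_iff.1 he with h | h <;> simp [h]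
  simp only [adjOf_apply, map_mul, hσ, he', map_sign hs, hr x, hr y, hrs]
  linear_combination (A x y * e * e * s y * s y) * hs x + (A x y * e * e) * hs y + A x y * he

end adjOf

/-- An antidiagonal form on a factor. -/
structure Frame (F : Type*) [Field F] (k : ℕ) where
  /-- the automorphism -/
  σ : F →+* F
  invol : ∀ c, σ (σ c) = c
  /-- the entries -/
  sg : Fin k → F
  sg_sq : ∀ x, sg x * sg x = 1
  /-- the symmetry -/
  eps : F
  eps_sq : eps * eps = 1
  sg_rev : ∀ x, sg x.rev = eps * sg x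

namespace Frame

variable (Φ : Frame F k)

local notation "Mm" => Matrix (Fin k) (Fin k) F
local notation "MT" => Matrix (Fin t → Fin k) (Fin t → Fin k) F

theorem rev_inv : Function.Involutive (Fin.rev : Fin k → Fin k) := Fin.rev_rev

theorem revT_inv : Function.Involutive (fun x : Fin t → Fin k => Fin.rev ∘ x) := fun x => by
  funext i; simp

/-- The product of the signs. -/
def sgT (x : Fin t → Fin k) : F := ∏ i, Φ.sg (x i)

theorem sgT_sq (x : Fin t → Fin k) : Φ.sgT x * Φ.sgT x = 1 := by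
  rw [sgT, ← Finset.prod_mul_distrib]
  exact Finset.prod_eq_one fun i _ => Φ.sg_sq _

theorem sgT_rev (x : Fin t → Fin k) : Φ.sgT (Fin.rev ∘ x) = Φ.eps ^ t * Φ.sgT x := by
  simp [sgT, Φ.sg_rev, Finset.prod_mul_distrib]

theorem epsT_sq : Φ.eps ^ t * Φ.eps ^ t = 1 := by rw [← mul_pow, Φ.eps_sq, one_pow]

theorem map_sg (x : Fin k) : Φ.σ (Φ.sg x) = Φ.sg x := map_sign Φ.sg_sq x

theorem map_eps : Φ.σ Φ.eps = Φ.eps := by
  rcases mul_self_eq_one_iff.1 Φ.eps_sq with h | h <;> simp [h]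

theorem sg_ne (x : Fin k) : Φ.sg x ≠ 0 := left_ne_zero_of_mul_eq_one (Φ.sg_sq x)

/-- The adjoint in a factor. -/
def adj1 (A : Mm) : Mm := adjOf Φ.σ Fin.rev Φ.sg A

/-- The adjoint in the tensor power. -/
def adj (A : MT) : MT := adjOf Φ.σ (fun x => Fin.rev ∘ x) Φ.sgT A

theorem adj1_apply (A : Mm) (x y : Fin k) : Φ.adj1 A x y = Φ.sg x * Φ.sg y * Φ.σ (A y.rev x.rev) := rfl

theorem adj1_add (A B : Mm) : Φ.adj1 (A + B) = Φ.adj1 A + Φ.adj1 B := adjOf_add _ _ _ A B

theorem adj1_smul (c : F) (A : Mm) : Φ.adj1 (c • A) = Φ.σ c • Φ.adj1 A := adjOf_smul _ _ _ c A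

theorem adj1_mul (A B : Mm) : Φ.adj1 (A * B) = Φ.adj1 B * Φ.adj1 A := adjOf_mul rev_inv Φ.sg_sq A B

theorem adj1_one : Φ.adj1 1 = 1 := adjOf_one rev_inv Φ.sg_sq

theorem adj1_adj1 (A : Mm) : Φ.adj1 (Φ.adj1 A) = A := adjOf_adjOf rev_inv Φ.sg_sq Φ.invol Φ.eps_sq Φ.sg_rev A

theorem adj1_single (a b : Fin k) (c : F) :
    Φ.adj1 (Matrix.single a b c) = Matrix.single b.rev a.rev (Φ.sg b.rev * Φ.sg a.rev * Φ.σ c) :=
  adjOf_single rev_inv Φ.sg_sq a b c

theorem adj_add (A B : MT) : Φ.adj (A + B) = Φ.adj A + Φ.adj B := adjOf_add _ _ _ A B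

theorem adj_zero : Φ.adj (0 : MT) = 0 := by
  have := Φ.adj_add (0 : MT) 0
  simpa using this

theorem adj_neg (A : MT) : Φ.adj (-A) = -Φ.adj A :=
  eq_neg_of_add_eq_zero_left (by rw [← adj_add, neg_add_cancel, adj_zero])

theorem adj_sub (A B : MT) : Φ.adj (A - B) = Φ.adj A - Φ.adj B := by
  rw [sub_eq_add_neg, adj_add, adj_neg, sub_eq_add_neg]

theorem adj_sum {α : Type*} (s : Finset α) (A : α → MT) : Φ.adj (∑ a ∈ s, A a) = ∑ a ∈ s, Φ.adj (A a) := by
  classical
  induction s using Finset.induction_on with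
  | empty => simp [adj_zero]
  | insert a s ha ih => rw [Finset.sum_insert ha, Finset.sum_insert ha, adj_add, ih]

theorem adj_smul (c : F) (A : MT) : Φ.adj (c • A) = Φ.σ c • Φ.adj A := adjOf_smul _ _ _ c A

theorem adj_mul (A B : MT) : Φ.adj (A * B) = Φ.adj B * Φ.adj A := adjOf_mul revT_inv Φ.sgT_sq A B

theorem adj_one : Φ.adj (1 : MT) = 1 := adjOf_one revT_inv Φ.sgT_sq

theorem adj_adj (A : MT) : Φ.adj (Φ.adj A) = A :=
  adjOf_adjOf revT_inv Φ.sgT_sq Φ.invol Φ.epsT_sq Φ.sgT_rev A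

theorem adj_single (x y : Fin t → Fin k) (c : F) :
    Φ.adj (Matrix.single x y c) =
      Matrix.single (Fin.rev ∘ y) (Fin.rev ∘ x) (Φ.sgT (Fin.rev ∘ y) * Φ.sgT (Fin.rev ∘ x) * Φ.σ c) :=
  adjOf_single revT_inv Φ.sgT_sq x y c

theorem adj_pureMat (A : Fin t → Mm) : Φ.adj (pureMat A) = pureMat fun i => Φ.adj1 (A i) := by
  ext x y
  rw [adj, adjOf_apply, pureMat_apply, pureMat_apply, map_prod, sgT, sgT, ← Finset.prod_mul_distrib,
    ← Finset.prod_mul_distrib]
  rfl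

theorem adj_fa (i : Fin t) (X : Mm) : Φ.adj (fa i X) = fa i (Φ.adj1 X) := by
  rw [fa_eq, fa_eq, adj_pureMat]
  congr 1
  funext j
  by_cases hj : j = i
  · subst hj; simp
  · simp [hj, adj1_one]

theorem adj_permMat (π : Equiv.Perm (Fin t)) : Φ.adj (permMat k F π : MT) = permMat k F π⁻¹ := by
  ext x y
  rw [adj, adjOf_apply]
  show _ * Φ.σ (if Fin.rev ∘ x = (Fin.rev ∘ y) ∘ π then (1 : F) else 0) = if y = x ∘ ⇑(π⁻¹) then (1 : F) else 0
  by_cases h : y = x ∘ ⇑(π⁻¹)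
  · subst h
    have e : Φ.sgT (x ∘ ⇑(π⁻¹)) = Φ.sgT x := by
      rw [sgT, sgT]
      exact Equiv.prod_comp π⁻¹ (fun i => Φ.sg (x i))
    rw [if_pos rfl, if_pos (funext fun i => by simp), map_one, mul_one, e, sgT_sq]
  · rw [if_neg h, if_neg, map_zero, mul_zero]
    intro h'
    refine h (funext fun i => ?_)
    have := congrFun h' (π⁻¹ i)
    simpa [eq_comm] using this

/-- An isometry of the tensor power. -/
def Iso (g : GL (Fin t → Fin k) F) : Prop := Φ.adj (g : MT) * (g : MT) = 1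

/-- An isometry of a factor. -/
def Iso1 (s : GL (Fin k) F) : Prop := Φ.adj1 (s : Mm) * (s : Mm) = 1

theorem Iso.adj_eq {g : GL (Fin t → Fin k) F} (h : Φ.Iso g) :
    Φ.adj (g : MT) = ((g⁻¹ : GL (Fin t → Fin k) F) : MT) :=
  (Units.inv_eq_of_mul_eq_one_left h).symm

theorem Iso.mul {g h : GL (Fin t → Fin k) F} (hg : Φ.Iso g) (hh : Φ.Iso h) : Φ.Iso (g * h) := by
  unfold Iso
  rw [Units.val_mul, adj_mul, mul_assoc, ← mul_assoc (Φ.adj (g : MT)), hg, one_mul, hh]

theorem iso_one : Φ.Iso (1 : GL (Fin t → Fin k) F) := by simp [Iso, adj_one]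

theorem Iso.inv {g : GL (Fin t → Fin k) F} (hg : Φ.Iso g) : Φ.Iso g⁻¹ := by
  unfold Iso
  rw [← hg.adj_eq, adj_adj, hg.adj_eq, Units.mul_inv]

theorem iso_fu (i : Fin t) {s : GL (Fin k) F} (h : Φ.Iso1 s) : Φ.Iso (fu i s) := by
  unfold Iso
  rw [fu_val, adj_fa, ← map_mul, h, map_one]

theorem iso1_mul {g h : GL (Fin k) F} (hg : Φ.Iso1 g) (hh : Φ.Iso1 h) : Φ.Iso1 (g * h) := by
  unfold Iso1
  rw [Units.val_mul, adj1_mul, mul_assoc, ← mul_assoc (Φ.adj1 (g : Mm)), hg, one_mul, hh]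

theorem iso1_inv {g : GL (Fin k) F} (hg : Φ.Iso1 g) : Φ.Iso1 g⁻¹ := by
  have e : Φ.adj1 (g : Mm) = ((g⁻¹ : GL (Fin k) F) : Mm) := (Units.inv_eq_of_mul_eq_one_left hg).symm
  unfold Iso1
  rw [← e, adj1_adj1, e, Units.mul_inv]

theorem iso_perm (π : Equiv.Perm (Fin t)) : Φ.Iso (permGL k F π) := by
  show Φ.adj (permMat k F π : MT) * permMat k F π = 1
  rw [adj_permMat, permMat_mul, inv_mul_cancel, permMat_one]

end Frame

end CfsgLib.MaxSub.TensorForm
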