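import Cfsg.Agent.Lib.MaxSub.TensorForm.Wrap

/-!
Forms in a frame, and standard symplectic frames.
-/

set_option autoImplicit false
set_option maxHeartbeats 1000000
set_option linter.unusedSectionVars false
set_option linter.unusedSimpArgs false

namespace CfsgLib.MaxSub.TensorForm

open Matrix
open CfsgLib.Aschbacher CfsgLib.MaxSub.TensorPow

variable {F : Type*} [Field F] {k t : ℕ} {ι : Type} [Fintype ι] [DecidableEq ι]

local notation "Mm" => Matrix (Fin k) (Fin k) F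
local notation "MT" => Matrix (Fin t → Fin k) (Fin t → Fin k) F

namespace Frame

variable (Φ : Frame F k)

/-- The Gram matrix of a frame. -/
def gram : Matrix (Fin k) (Fin k) F := Matrix.of fun x y => if y = x.rev then Φ.sg x else 0

/-- A form given in the frame by the tensor power of its Gram matrix. -/
def FormIn (f : (ι → F) → (ι → F) → F) (e : ι ≃ (Fin t → Fin k)) (P : GL ι F) (c : F) : Prop :=
  ∀ x y : (Fin t → Fin k) → F,
    f ((P : Matrix ι ι F) *ᵥ (x ∘ e)) ((P : Matrix ι ι F) *ᵥ (y ∘ e)) = c * (Φ.qT y ⬝ᵥ x)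

theorem qT_single (x : Fin t → Fin k) :
    Φ.qT (Pi.single (Fin.rev ∘ x) 1) = Pi.single x (Φ.sgT x) := by
  funext w
  have hw : (Fin.rev ∘ w = Fin.rev ∘ x) ↔ w = x := ⟨fun h => revT_inv.injective h, fun h => by rw [h]⟩
  by_cases h : w = x
  · subst h; simp [qT]
  · simp [qT, hw, h]

/-- All vectors have coordinates. -/
theorem exists_coords (e : ι ≃ (Fin t → Fin k)) (P : GL ι F) (w : ι → F) :
    ∃ x : (Fin t → Fin k) → F, w = (P : Matrix ι ι F) *ᵥ (x ∘ e) := by
  refine ⟨(((P⁻¹ : GL ι F) : Matrix ι ι F) *ᵥ w) ∘ e.symm, ?_⟩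
  rw [Function.comp_assoc, Equiv.symm_comp_self, Function.comp_id, Matrix.mulVec_mulVec, Units.mul_inv,
    Matrix.one_mulVec]

variable {Φ} [NeZero k]

/-- The isometries in the frame. -/
theorem FormIn.iso_iff {f : (ι → F) → (ι → F) → F} {e : ι ≃ (Fin t → Fin k)} {P : GL ι F} {c : F} (hc : c ≠ 0)
    (h : Φ.FormIn f e P c) (g : GL (Fin t → Fin k) F) :
    (∀ u v, f (((frU e P g : GL ι F) : Matrix ι ι F) *ᵥ u) (((frU e P g : GL ι F) : Matrix ι ι F) *ᵥ v) = f u v) ↔
      Φ.Iso g := by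
  constructor
  · intro hg
    refine Matrix.ext_of_mulVec_single fun x => funext fun z => ?_
    have h1 := fun y => hg ((P : Matrix ι ι F) *ᵥ ((Pi.single x 1 : (Fin t → Fin k) → F) ∘ e))
      ((P : Matrix ι ι F) *ᵥ (y ∘ e))
    simp only [frU_mulVec, h _ _, mul_eq_mul_left_iff, hc, or_false] at h1
    simp only [Φ.qT_mulVec, ← Matrix.dotProduct_mulVec, Matrix.mulVec_mulVec] at h1
    have h2 := h1 (Pi.single (Fin.rev ∘ z) 1)
    rw [Φ.qT_single, single_dotProduct, single_dotProduct] at h2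
    rw [Matrix.one_mulVec]
    exact mul_left_cancel₀ (left_ne_zero_of_mul_eq_one (Φ.sgT_sq z)) h2
  · intro hg u v
    obtain ⟨x, rfl⟩ := exists_coords e P u
    obtain ⟨y, rfl⟩ := exists_coords e P v
    simp only [frU_mulVec, h _ _]
    simp only [Φ.qT_mulVec, ← Matrix.dotProduct_mulVec, Matrix.mulVec_mulVec]
    rw [show Φ.adj (g : MT) * (g : MT) = 1 from hg, Matrix.one_mulVec]

/-- A tensor power structure in a frame adapted to the factor form. -/
theorem formIn_newFrame {σ : F → F} {f : (ι → F) → (ι → F) → F} {f₁ : (Fin k → F) → (Fin k → F) → F}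
    {e : ι ≃ (Fin t → Fin k)} {P : GL ι F} (hσ : ∀ x, σ x = Φ.σ x)
    (hT : Cfsg.Geo.IsTensorPowerFormStructure σ f f₁ e P) (C : GL (Fin k) F) {r : F} (hr : r ≠ 0)
    (hC : (C : Mm)ᵀ * Cfsg.Geo.gramMatrix f₁ * (C : Mm).map Φ.σ = r • Φ.gram) :
    ∃ c : F, c ≠ 0 ∧ Φ.FormIn f e (newFrame e P C) c := by
  obtain ⟨c, hc, hform⟩ := hT
  refine ⟨c * r ^ t, mul_ne_zero hc (pow_ne_zero _ hr), fun x y => ?_⟩
  rw [newFrame_mulVec, newFrame_mulVec, hform, mul_assoc]
  congr 1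
  set U : MT := ((pureGL fun _ => C : GL (Fin t → Fin k) F) : MT) with hU
  have hUv : U = pureMat fun _ => (C : Mm) := rfl
  have h1 : ∑ a, ∑ b, (U *ᵥ x) a * (∏ i, Cfsg.Geo.gramMatrix f₁ (a i) (b i)) * σ ((U *ᵥ y) b) =
      (U *ᵥ x) ⬝ᵥ (pureMat (fun _ => Cfsg.Geo.gramMatrix f₁) *ᵥ (fun b => Φ.σ ((U *ᵥ y) b))) := by
    simp only [dotProduct, Matrix.mulVec, pureMat_apply, Finset.mul_sum, hσ, mul_assoc]
  have h2 : (fun b => Φ.σ ((U *ᵥ y) b)) = U.map Φ.σ *ᵥ (fun b => Φ.σ (y b)) := by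
    funext b; simp [Matrix.mulVec, dotProduct, map_sum]
  have h3 : Uᵀ * pureMat (fun _ => Cfsg.Geo.gramMatrix f₁) * U.map Φ.σ = r ^ t • pureMat fun _ => Φ.gram := by
    have eT : Uᵀ = pureMat fun _ => (C : Mm)ᵀ := by ext p r; simp [hUv, pureMat_apply]
    have eM : U.map Φ.σ = pureMat fun _ => (C : Mm).map Φ.σ := by
      ext p r; simp [hUv, pureMat_apply, map_prod]
    rw [eT, eM, pureMat_mul, pureMat_mul,
      show ((fun _ : Fin t => (C : Mm)ᵀ) * (fun _ => Cfsg.Geo.gramMatrix f₁) * fun _ => (C : Mm).map Φ.σ) =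
        fun _ => r • Φ.gram from funext fun _ => hC]
    ext p q
    simp [pureMat_apply, Finset.prod_mul_distrib]
  rw [h1, h2, Matrix.mulVec_mulVec, ← Matrix.vecMul_transpose, ← Matrix.dotProduct_mulVec, Matrix.mulVec_mulVec,
    ← mul_assoc, h3, Matrix.smul_mulVec, dotProduct_smul, smul_eq_mul, dotProduct_comm (Φ.qT y)]
  congr 2
  funext p
  rw [Matrix.mulVec, dotProduct, Finset.sum_eq_single (Fin.rev ∘ p)]
  · simp [pureMat_apply, gram, qT, sgT]
  · intro z _ hz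
    obtain ⟨i, hi⟩ : ∃ i, z i ≠ (p i).rev := by
      by_contra h
      push Not at h
      exact hz (funext h)
    rw [pureMat_apply, Finset.prod_eq_zero (Finset.mem_univ i) (by simp [gram, hi]), zero_mul]
  · simp

end Frame

end CfsgLib.MaxSub.TensorForm
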