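import Cfsg.Agent.Lib.MaxSub.TensorForm.Algebra

/-!
With a non-scalar radical block the whole unipotent radical of a point is in the group.
-/

set_option autoImplicit false
set_option maxHeartbeats 1000000
set_option linter.unusedSectionVars false
set_option linter.unusedSimpArgs false

namespace CfsgLib.MaxSub.TensorForm

open Matrix
open CfsgLib.Aschbacher CfsgLib.MaxSub.TensorPow

variable {F : Type*} [Field F] {k t : ℕ}

local notation "Mm" => Matrix (Fin k) (Fin k) F
local notation "MT" => Matrix (Fin t → Fin k) (Fin t → Fin k) F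
local notation "E[" i "](" a "," b ")" => fa i (Matrix.single a b (1 : F))

variable {Φ : Frame F k} {G : Subgroup (GL (Fin t → Fin k) F)} {i : Fin t} {a : Fin k} [NeZero k] [Fintype F]

/-- The pure tensor of a matrix on a set of factors. -/
noncomputable def onSet (S : Finset (Fin t)) (X : Matrix (Fin k) (Fin k) F) :
    Matrix (Fin t → Fin k) (Fin t → Fin k) F :=
  pureMat fun l => if l ∈ S then X else 1

theorem pureMat_idem {X : Fin t → Mm} (h : ∀ l, X l * X l = X l) : pureMat X * pureMat X = pureMat X := by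
  rw [pureMat_mul]; exact congrArg pureMat (funext h)

/-- A diagonal matrix unit on a set of factors leads to a whole factor. -/
theorem exists_factor (hH : Φ.Hyp G) (hT : Tools Φ a) {γ : F} (hγ : γ ≠ 0) (hL : Φ.Lng γ)
    (S : Finset (Fin t)) (hne : S.Nonempty) (hi : i ∉ S)
    (hP : onSet S (Matrix.single a a (1 : F)) ∈ rowAlg G i a) :
    ∃ j, j ≠ i ∧ ∀ Y, fa j Y ∈ rowAlg G i a := by
  classical
  induction S using Finset.strongInduction with
  | H S ih =>
    obtain ⟨j, hj⟩ := hne
    have hji : j ≠ i := fun e => hi (e ▸ hj)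
    have ha := hT.ne
    have hinv := rowAlg.invariant (i := i) (a := a) hH ha
    set Sj := S.erase j with hSj
    set C : MT := onSet Sj (Matrix.single a a (1 : F)) with hC
    have hjS : j ∉ Sj := Finset.notMem_erase j S
    have hCj : ∀ X, Commute C (fa j X) := fun X => commute_pureMat_fa _ (if_neg hjS) X
    have hCC : C * C = C := pureMat_idem fun l => by split <;> simp
    have hPC : C * fa j (Matrix.single a a (1 : F)) = onSet S (Matrix.single a a (1 : F)) := by
      rw [hC, onSet, pureMat_mul_fa _ (if_neg hjS)]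
      refine congrArg pureMat (funext fun l => ?_)
      by_cases hl : l = j
      · subst hl; rw [Function.update_self, if_pos hj]
      · rw [Function.update_of_ne hl]; simp [Sj, hl]
    -- the admissible matrices at `j`
    let T : Submodule F Mm :=
      { carrier := {Y | C * fa j Y ∈ rowAlg G i a}
        add_mem' := fun {Y Z} hY hZ => by
          show C * fa j (Y + Z) ∈ rowAlg G i a
          rw [map_add, mul_add]; exact add_mem hY hZ
        zero_mem' := by
          show C * fa j 0 ∈ rowAlg G i a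
          rw [map_zero, mul_zero]; exact zero_mem _
        smul_mem' := fun c Y hY => by
          show C * fa j (c • Y) ∈ rowAlg G i a
          rw [map_smul, Matrix.mul_smul]; exact Subalgebra.smul_mem _ hY c }
    have hTmul : ∀ Y Z, Y ∈ T → Z ∈ T → Y * Z ∈ T := fun Y Z hY hZ => by
      show C * fa j (Y * Z) ∈ rowAlg G i a
      have : C * fa j (Y * Z) = C * fa j Y * (C * fa j Z) := by
        rw [mul_assoc, ← mul_assoc (fa j Y), ← (hCj Y).eq, mul_assoc, ← map_mul, ← mul_assoc, hCC]
      rw [this]; exact mul_mem hY hZ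
    have hTconj : ∀ s, Φ.SI s → ∀ Y ∈ T, (s : Mm) * Y * ((s⁻¹ : GL (Fin k) F) : Mm) ∈ T := fun s hs Y hY => by
      show C * fa j _ ∈ rowAlg G i a
      have h := hinv.conj j hji s hs _ hY
      rwa [← (hCj Y).eq.symm, Ad_fa_mul s Y hCj, ← (hCj _).eq] at h
    have hEE : Matrix.single a a (1 : F) ∈ T := by show C * fa j _ ∈ rowAlg G i a; rw [hPC]; exact hP
    have hrow : ∀ s, Φ.SI s → Matrix.single a a (1 : F) *
        ((s : Mm) * Matrix.single a a 1 * ((s⁻¹ : GL (Fin k) F) : Mm)) ∈ T :=
      fun s hs => hTmul _ _ hEE (hTconj s hs _ hEE)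
    have hrow' : ∀ s : GL (Fin k) F, Matrix.single a a (1 : F) *
        ((s : Mm) * Matrix.single a a 1 * ((s⁻¹ : GL (Fin k) F) : Mm)) =
        (s : Mm) a a • ∑ x, ((s⁻¹ : GL (Fin k) F) : Mm) a x • Matrix.single a x (1 : F) := fun s => by
      ext p q
      rw [← mul_assoc, ← mul_assoc, Matrix.single_mul_mul_single, Matrix.mul_apply, Finset.sum_eq_single a,
        Matrix.smul_apply, Matrix.sum_apply, Finset.sum_eq_single q]
      · by_cases hp : p = a
        · subst hp; simp
        · simp [Matrix.single_apply, Ne.symm hp]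
      · intro x _ hx; simp [Matrix.single_apply, hx]
      · simp
      · intro x _ hx; simp [Matrix.single_apply, Ne.symm hx]
      · simp
    have hEar : Matrix.single a a.rev (1 : F) ∈ T := by
      obtain ⟨s, hs, hsv⟩ := Φ.exists_long ha hL
      have hsi : ((s⁻¹ : GL (Fin k) F) : Mm) = 1 - Matrix.single a a.rev γ := by
        have e : s = one_add _ (single_sq ha γ) := Units.ext hsv
        rw [e]; rfl
      have h := hrow s hs
      rw [hrow'] at h
      have e : (s : Mm) a a • ∑ x, ((s⁻¹ : GL (Fin k) F) : Mm) a x • Matrix.single a x (1 : F) =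
          Matrix.single a a 1 - γ • Matrix.single a a.rev (1 : F) := by
        rw [hsi, hsv, Matrix.add_apply, Matrix.one_apply_eq, Matrix.single_apply, if_neg (fun h => ha h.2.symm), add_zero,
          one_smul]
        simp only [Matrix.sub_apply, sub_smul, Finset.sum_sub_distrib]
        rw [Finset.sum_eq_single a, Finset.sum_eq_single a.rev, Matrix.one_apply_eq, one_smul, Matrix.single_apply_same]
        · intro x _ hx; rw [Matrix.single_apply, if_neg (fun h => hx h.2.symm), zero_smul]
        · simp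
        · intro x _ hx; rw [Matrix.one_apply_ne (Ne.symm hx), zero_smul]
        · simp
      rw [e] at h
      have h2 := T.smul_mem γ⁻¹ (T.sub_mem hEE h)
      rwa [sub_sub_cancel, inv_smul_smul₀ hγ] at h2
    have hEax : ∀ x, Matrix.single a x (1 : F) ∈ T := by
      intro x
      rcases cases3 a x with rfl | rfl | hx
      · exact hEE
      · exact hEar
      obtain ⟨s, hs, hsr, hsv, hsc⟩ := Frame.exists_short (hT.point a ha) (Pi.single x 1 : Fin k → F)
      have h := hrow s hs
      rw [hrow'] at h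
      have hsaa : (s : Mm) a a = 1 := by
        rw [hsr a a ⟨fun h => h, fun h => h⟩, Matrix.one_apply_eq]
      rw [hsaa, one_smul] at h
      have hi0 : ∀ z, ((s⁻¹ : GL (Fin k) F) : Mm) a z = Φ.sg a * Φ.sg z * Φ.σ ((s : Mm) z.rev a.rev) := fun z => by
        rw [Frame.SI.inv_eq hs, Φ.adj1_apply]
      have hval : ∀ z, z ≠ a.rev → ((s⁻¹ : GL (Fin k) F) : Mm) a z =
          (if z = a then 1 else 0) - (if z = x then 1 else 0) := by
        intro z hz
        rcases cases3 a z with rfl | rfl | hmz
        · rw [hi0, hsr _ _ (show OffRad z z.rev z.rev from ⟨fun h => h, fun h => h⟩), Matrix.one_apply_eq, map_one,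
            mul_one, Φ.sg_sq, if_pos rfl, if_neg (Ne.symm hx.1), sub_zero]
        · exact absurd rfl hz
        · rw [hi0, hsc _ hmz.rev, Fin.rev_rev, map_neg, map_mul, map_mul, Φ.invol, Φ.map_sg, Φ.map_sg, if_neg hmz.1,
            zero_sub, Φ.sg_rev, Φ.sg_rev]
          by_cases hzx : z = x
          · subst hzx
            rw [Pi.single_eq_same, if_pos rfl]
            linear_combination (-(Φ.sg z * Φ.sg z) * (Φ.sg a * Φ.sg a)) * Φ.eps_sq +
              (-(Φ.sg a * Φ.sg a)) * Φ.sg_sq z + (-1 : F) * Φ.sg_sq a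
          · rw [Pi.single_eq_of_ne hzx, if_neg hzx]; ring
      have e : Matrix.single a x (1 : F) = Matrix.single a a 1 +
          ((s⁻¹ : GL (Fin k) F) : Mm) a a.rev • Matrix.single a a.rev (1 : F) -
          ∑ z, ((s⁻¹ : GL (Fin k) F) : Mm) a z • Matrix.single a z (1 : F) := by
        rw [← Finset.sum_erase_add _ _ (Finset.mem_univ a.rev),
          ← Finset.sum_erase_add _ _ (Finset.mem_erase.2 ⟨ha, Finset.mem_univ a⟩)]
        rw [hval a ha, if_pos rfl, if_neg (Ne.symm hx.1), sub_zero, one_smul,
          Finset.sum_eq_single x, hval x hx.2, if_neg hx.1, if_pos rfl, zero_sub, neg_one_smul]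
        · abel
        · intro z hz hzx
          simp only [Finset.mem_erase] at hz
          rw [hval z hz.2.1, if_neg hz.1, if_neg hzx, sub_zero, zero_smul]
        · intro hn
          exact absurd (Finset.mem_erase.2 ⟨hx.1, Finset.mem_erase.2 ⟨hx.2, Finset.mem_univ x⟩⟩) hn
      rw [e]
      exact T.sub_mem (T.add_mem hEE (T.smul_mem _ hEar)) h
    obtain ⟨W, hW, h1, h2, h3, h4, h5, h6⟩ := Φ.exists_weyl ha hγ hL
    have hcol : ∀ x : Fin k, Matrix.vecMulVec ((W : Mm) *ᵥ Pi.single x.rev 1) (Pi.single a (1 : F)) ∈ T := by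
      intro x
      have hmem := rowAlg.adj hH ha (hEax x)
      let D : Fin t → GL (Fin k) F := fun l => if l ∈ S then W else 1
      have hD : ∀ l, Φ.SI (D l) := fun l => by
        by_cases hl : l ∈ S
        · simp only [D, if_pos hl]; exact hW
        · simp only [D, if_neg hl]; exact Φ.si_one
      have h := hinv.upper_mem hD (if_neg hi) hmem
      have e : Ad (pureGL D) (Φ.adj (C * fa j (Matrix.single a x (1 : F)))) =
          (Φ.sg x.rev * Φ.sg a.rev * γ⁻¹) •
            (C * fa j (Matrix.vecMulVec ((W : Mm) *ᵥ Pi.single x.rev 1) (Pi.single a (1 : F)))) := by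
        rw [← Matrix.mul_smul, ← map_smul, hC, onSet, pureMat_mul_fa _ (if_neg hjS),
          pureMat_mul_fa _ (if_neg hjS), Φ.adj_pureMat, Ad_pureGL]
        refine congrArg pureMat (funext fun l => ?_)
        have econj : ∀ p, (W : Mm) * Matrix.single p a.rev 1 * ((W⁻¹ : GL (Fin k) F) : Mm) =
            γ⁻¹ • Matrix.vecMulVec ((W : Mm) *ᵥ Pi.single p 1) (Pi.single a (1 : F)) := fun p => by
          rw [conj_single, h5, ← vecMulVec_smul, ← Pi.single_smul, smul_eq_mul, mul_one]
        by_cases hl : l = j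
        · subst hl
          rw [Function.update_self, Function.update_self, Φ.adj1_single, map_one, mul_one]
          simp only [D, if_pos hj]
          rw [show Matrix.single x.rev a.rev (Φ.sg x.rev * Φ.sg a.rev) =
            (Φ.sg x.rev * Φ.sg a.rev) • Matrix.single x.rev a.rev (1 : F) by simp, Matrix.mul_smul, Matrix.smul_mul,
            econj, smul_smul]
        · rw [Function.update_of_ne hl, Function.update_of_ne hl]
          by_cases hlS : l ∈ Sj
          · simp only [D, if_pos hlS, if_pos (Finset.mem_of_mem_erase hlS)]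
            rw [Φ.adj1_single, map_one, mul_one, Φ.sg_sq, econj, h2, vmv_single, smul_smul,
              show γ⁻¹ * (γ * 1) = 1 by field_simp, one_smul]
          · have : l ∉ S := fun h => hlS (Finset.mem_erase.2 ⟨hl, h⟩)
            simp only [D, if_neg hlS, if_neg this]
            simp [Φ.adj1_one]
      have h' : (Φ.sg x.rev * Φ.sg a.rev * γ⁻¹) •
          (C * fa j (Matrix.vecMulVec ((W : Mm) *ᵥ Pi.single x.rev 1) (Pi.single a (1 : F)))) ∈ rowAlg G i a := e ▸ h
      show C * fa j _ ∈ rowAlg G i a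
      have hne : Φ.sg x.rev * Φ.sg a.rev * γ⁻¹ ≠ 0 :=
        mul_ne_zero (mul_ne_zero (Φ.sg_ne _) (Φ.sg_ne _)) (inv_ne_zero hγ)
      have := Subalgebra.smul_mem _ h' (Φ.sg x.rev * Φ.sg a.rev * γ⁻¹)⁻¹
      rwa [inv_smul_smul₀ hne] at this
    have hEya : ∀ y, Matrix.single y a (1 : F) ∈ T := by
      intro y
      rcases cases3 a y with rfl | rfl | hy
      · exact hEE
      · have h := hcol a.rev
        rw [Fin.rev_rev, h1, vmv_single, mul_one] at h
        have h' := T.smul_mem (-γ) h
        rwa [smul_smul, show -γ * -γ⁻¹ = 1 by field_simp, one_smul] at h'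
      · have h := hcol y.rev
        rw [Fin.rev_rev, h3 y hy, vmv_single, mul_one, one_smul] at h
        exact h
    have hall : ∀ Y, Y ∈ T := by
      intro Y
      rw [Matrix.matrix_eq_sum_single Y]
      refine T.sum_mem fun x _ => T.sum_mem fun y _ => ?_
      rw [show Matrix.single x y (Y x y) = Y x y • (Matrix.single x a (1 : F) * Matrix.single a y 1) by simp]
      exact T.smul_mem _ (hTmul _ _ (hEya x) (hEax y))
    by_cases hemp : Sj.Nonempty
    · refine ih Sj (Finset.erase_ssubset hj) hemp (fun h => hi (Finset.mem_of_mem_erase h)) ?_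
      have := hall 1
      change C * fa j 1 ∈ rowAlg G i a at this
      rwa [map_one, mul_one] at this
    · refine ⟨j, hji, fun Y => ?_⟩
      have := hall Y
      change C * fa j Y ∈ rowAlg G i a at this
      rwa [hC, Finset.not_nonempty_iff_eq_empty.1 hemp, onSet,
        show (fun l : Fin t => if l ∈ (∅ : Finset (Fin t)) then Matrix.single a a (1 : F) else (1 : Mm)) = 1 from
          funext fun l => if_neg (Finset.notMem_empty l),
        show pureMat (1 : Fin t → Mm) = (1 : MT) from pureMat_one, one_mul] at this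


/-- The algebra consists of all matrices centralising the factor. -/
theorem rowAlg.eq_cent (hk : 3 ≤ k) (hH : Φ.Hyp G) (hT : Tools Φ a) (hP : PatTools Φ) (ha0 : (a : ℕ) = 0)
    {γ : F} (hγ : γ ≠ 0) (hL : Φ.Lng γ) (hS : ¬ ScalAt G i a) {M : MT} (hM : ∀ X, Commute M (fa i X)) :
    M ∈ rowAlg G i a := by
  classical
  have ha := hT.ne
  have hinv := rowAlg.invariant (i := i) (a := a) hH ha
  obtain ⟨Z, hZ, hns⟩ := long_nonscalar hk hH hT hP ha0 hS
  obtain ⟨X, c, hc, hXi, hXp, ⟨j₀, hj₀⟩, hN⟩ :=
    exists_pattern hk hT hP ha0 (long_invariant (i := i) ha hH) hZ hns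
  have hX2 : pureMat X * pureMat X = 0 := by
    rw [pureMat_mul]
    exact Matrix.ext fun x y => by
      rw [pureMat_apply, Matrix.zero_apply]
      exact Finset.prod_eq_zero (Finset.mem_univ j₀) (by rw [Pi.mul_apply, hj₀.sq, Matrix.zero_apply])
  have hX : pureMat X ∈ rowAlg G i a :=
    Algebra.subset_adjoin (show pureMat X ∈ sqLong G i a from ⟨hX2, c, hc, hN⟩)
  set S : Finset (Fin t) := Finset.univ.filter fun j => X j ≠ 1 with hSdef
  have hj₀S : j₀ ∈ S := Finset.mem_filter.2 ⟨Finset.mem_univ _, fun h => by simpa [h] using hj₀.sq⟩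
  have hiS : i ∉ S := fun h => (Finset.mem_filter.1 h).2 hXi
  have hdata : ∀ j, ∃ (s r : GL (Fin k) F) (κ : F), Φ.SI s ∧ Φ.SI r ∧ κ ≠ 0 ∧ (j = i → s = 1 ∧ r = 1) ∧
      (X j * ((s : Mm) * X j * ((s⁻¹ : GL (Fin k) F) : Mm))) *
        ((r : Mm) * (X j * ((s : Mm) * X j * ((s⁻¹ : GL (Fin k) F) : Mm))) * ((r⁻¹ : GL (Fin k) F) : Mm)) =
      κ • if j ∈ S then Matrix.single a a 1 else 1 := by
    intro j
    by_cases h : X j = 1
    · exact ⟨1, 1, 1, Φ.si_one, Φ.si_one, one_ne_zero, fun _ => ⟨rfl, rfl⟩, by simp [h, S]⟩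
    · obtain ⟨s, r, κ, hs, hr, hκ, hQ, -, -, -⟩ := ((hXp j).resolve_left h).opp
      exact ⟨s, r, κ, hs, hr, hκ, fun e => absurd (e ▸ hXi) h, by rw [hQ, if_pos (by simp [S, h])]⟩
  choose A R κ hA hR hκ hAi hQ using hdata
  have hPS : onSet S (Matrix.single a a (1 : F)) ∈ rowAlg G i a := by
    have h1 : pureMat X * Ad (pureGL A) (pureMat X) ∈ rowAlg G i a :=
      mul_mem hX (hinv.upper_mem hA (hAi i rfl).1 hX)
    have h2 : _ * Ad (pureGL R) (pureMat X * Ad (pureGL A) (pureMat X)) ∈ rowAlg G i a :=
      mul_mem h1 (hinv.upper_mem hR (hAi i rfl).2 h1)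
    rw [Ad_pureGL, pureMat_mul, Ad_pureGL, pureMat_mul] at h2
    have e : onSet S (Matrix.single a a (1 : F)) = (∏ j, κ j)⁻¹ • pureMat (fun j => κ j • if j ∈ S then
        Matrix.single a a (1 : F) else 1) := by
      rw [pureMat_smul, smul_smul, inv_mul_cancel₀ (Finset.prod_ne_zero_iff.2 fun j _ => hκ j), one_smul]
      rfl
    rw [e]
    refine Subalgebra.smul_mem _ ?_ _
    convert h2 using 2
    exact funext fun j => (hQ j).symm
  obtain ⟨j, hji, hfull⟩ := exists_factor hH hT hγ hL S ⟨j₀, hj₀S⟩ hiS hPS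
  have hfa : ∀ l, l ≠ i → ∀ Y, fa l Y ∈ rowAlg G i a := by
    intro l hl Y
    obtain ⟨h, B, hh, hB⟩ := rowAlg.move hH ha hT.trans hγ hL hji hl
    have := hh _ (hfull (((B⁻¹ : GL (Fin k) F) : Mm) * Y * (B : Mm)))
    rwa [hB, ← mul_assoc, ← mul_assoc, Units.mul_inv, one_mul, mul_assoc, Units.mul_inv, mul_one] at this
  have hpure : ∀ (Y : Fin t → Mm) (T : Finset (Fin t)), i ∉ T →
      pureMat (fun l => if l ∈ T then Y l else 1) ∈ rowAlg G i a := by
    intro Y T
    induction T using Finset.induction_on with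
    | empty =>
      intro _
      rw [show (fun l => if l ∈ (∅ : Finset (Fin t)) then Y l else 1) = (1 : Fin t → Mm) from
          funext fun l => if_neg (Finset.notMem_empty l),
        show pureMat (1 : Fin t → Mm) = (1 : MT) from pureMat_one]
      exact one_mem _
    | insert l T hl ih =>
      intro hiT
      simp only [Finset.mem_insert, not_or] at hiT
      have := mul_mem (ih hiT.2) (hfa l (Ne.symm hiT.1) (Y l))
      rw [pureMat_mul_fa _ (if_neg hl)] at this
      convert this using 2
      funext l'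
      by_cases h : l' = l
      · subst h; simp
      · simp [h]
  -- expand in matrix units
  let L : MT →ₗ[F] MT :=
    { toFun := fun M => bl i M a a
      map_add' := fun M N => bl_add i M N a a
      map_smul' := fun c M => bl_smul i c M a a }
  have hLM : L M = M := by
    show bl i M a a = M
    conv_lhs => rw [← one_mul M, ← map_one (fa (F := F) (m := k) i), bl_fa_mul i _ hM, Matrix.one_apply_eq, one_smul]
  rw [← hLM, Matrix.matrix_eq_sum_single M, map_sum]
  refine Subalgebra.sum_mem _ fun x _ => ?_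
  rw [map_sum]
  refine Subalgebra.sum_mem _ fun y _ => ?_
  rw [show Matrix.single x y (M x y) = M x y • Matrix.single x y (1 : F) by simp, map_smul]
  refine Subalgebra.smul_mem _ ?_ _
  set Y : Fin t → Mm := fun l => Matrix.single (x l) (y l) 1 with hY
  have e : Matrix.single x y (1 : F) = pureMat Y := by
    ext p q
    rw [pureMat_apply, Matrix.single_apply]
    by_cases h : x = p ∧ y = q
    · obtain ⟨rfl, rfl⟩ := h; simp [Y]
    · rw [if_neg h]
      obtain ⟨l, hl⟩ : ∃ l, ¬ (x l = p l ∧ y l = q l) := by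
        by_contra h'
        push Not at h'
        exact h ⟨funext fun l => (h' l).1, funext fun l => (h' l).2⟩
      exact (Finset.prod_eq_zero (Finset.mem_univ l) (by simp [Y, Matrix.single_apply, hl])).symm
  show bl i (Matrix.single x y (1 : F)) a a ∈ rowAlg G i a
  set Y' : Fin t → Mm := fun l => if l ∈ Finset.univ.erase i then Y l else 1 with hY'
  have e2 : pureMat Y = fa i (Y i) * pureMat Y' := by
    rw [← (commute_pureMat_fa Y' (by simp [Y']) (Y i)).eq, pureMat_mul_fa _ (by simp [Y'])]
    refine congrArg pureMat (funext fun l => ?_)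
    by_cases hl : l = i
    · subst hl; simp
    · simp [Y', hl]
  rw [e, e2, bl_fa_mul i _ fun X => commute_pureMat_fa Y' (by simp [Y']) X]
  exact Subalgebra.smul_mem _ (hpure Y _ (Finset.notMem_erase i _)) _

/-- All radical rows. -/
theorem all_rows (hk : 3 ≤ k) (hH : Φ.Hyp G) (hT : Tools Φ a) (hP : PatTools Φ) (ha0 : (a : ℕ) = 0)
    {γ : F} (hγ : γ ≠ 0) (hL : Φ.Lng γ) (hS : ¬ ScalAt G i a) {Y : Fin k → MT}
    (hY : ∀ v, Mid a v → ∀ X, Commute (Y v) (fa i X)) : IsRow G i a Y := by
  classical
  have ha := hT.ne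
  have h : ∀ T : Finset (Fin k), IsRow G i a (fun v => if v ∈ T then Y v else 0) := by
    intro T
    induction T using Finset.induction_on with
    | empty => exact (IsRow.zero G i a).congr fun v _ => by simp
    | insert w T hw ih =>
      by_cases hwm : Mid a w
      · have h1 := rowAlg.row hH (hT.point a ha) hγ hL (rowAlg.eq_cent hk hH hT hP ha0 hγ hL hS (hY w hwm))
          (Pi.single w 1)
        refine (IsRow.add ha ih h1).congr fun v _ => ?_
        by_cases h : v = w
        · subst h; simp [hw]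
        · simp [h]
      · refine ih.congr fun v hv => ?_
        have : v ≠ w := fun e => hwm (e ▸ hv)
        simp [this]
  exact (h Finset.univ).congr fun v _ => by simp

/-- All long root blocks. -/
theorem all_long (hk : 3 ≤ k) (hH : Φ.Hyp G) (hT : Tools Φ a) (hP : PatTools Φ) (ha0 : (a : ℕ) = 0)
    {γ : F} (hγ : γ ≠ 0) (hL : Φ.Lng γ) {c : F} (hc : c + Φ.σ c = 1) (hS : ¬ ScalAt G i a) {Z : MT}
    (hZc : ∀ X, Commute Z (fa i X)) (hZ : Φ.eps • Φ.adj Z + Z = 0) : IsLong G i a Z := by
  classical
  have ha := hT.ne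
  obtain ⟨v, hv⟩ : ∃ v, Mid a v := by
    refine ⟨⟨1, by omega⟩, fun e => ?_, fun e => ?_⟩
    · have := congrArg Fin.val e; simp only [] at this; omega
    · have := congrArg Fin.val e; simp only [Fin.val_rev] at this; omega
  have h := IsRow.comm_scalar hH (hT.point a ha)
    (all_rows hk hH hT hP ha0 hγ hL hS (Y := Pi.single v (Φ.adj (c • Z))) fun w hw X => by
      by_cases h : w = v
      · subst h; rw [Pi.single_eq_same]; exact Φ.adj_commute (fun X => (hZc X).smul_left c) X
      · rw [Pi.single_eq_of_ne h]; exact Commute.zero_left _) hv 1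
  rw [Pi.single_eq_same, one_smul, Φ.adj_adj, map_one, mul_one, Φ.adj_smul, smul_smul] at h
  have e : c • Z - (Φ.eps * Φ.σ c) • Φ.adj Z = Z := by
    have : Φ.eps • Φ.adj Z = -Z := eq_neg_of_add_eq_zero_left hZ
    rw [mul_comm, mul_smul, this, smul_neg, sub_neg_eq_add, ← add_smul, hc, one_smul]
  rwa [e] at h

end CfsgLib.MaxSub.TensorForm
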