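import Cfsg.Agent.Lib.MaxSub.TensorForm.Nonscalar

/-!
Elements on a hyperbolic pair of a factor: a long root block of square zero gives a Levi element, which acts on
the radical rows.
-/

set_option autoImplicit false
set_option maxHeartbeats 1000000
set_option linter.unusedSectionVars false
set_option linter.unusedSimpArgs false

namespace CfsgLib.MaxSub.TensorForm

open Matrix
open CfsgLib.Aschbacher CfsgLib.MaxSub.TensorPow

variable {F : Type*} [Field F] {k t : ℕ}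

local notation "Mm" => Matrix (Fin k) (Fin k) F
local notation "MT" => Matrix (Fin t → Fin k) (Fin t → Fin k) F
local notation "E[" i "](" a "," b ")" => fa i (Matrix.single a b (1 : F))

/-- An element on a hyperbolic pair. -/
noncomputable def hyp (i : Fin t) (a : Fin k) (p q r s : MT) : MT :=
  1 + E[i](a, a) * (p - 1) + E[i](a, a.rev) * q + E[i](a.rev, a) * r + E[i](a.rev, a.rev) * (s - 1)

variable {i : Fin t} {a : Fin k}

theorem hyp_mul (ha : a ≠ a.rev) {p q r s p' q' r' s' : MT} (hp : ∀ X, Commute p (fa i X))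
    (hq : ∀ X, Commute q (fa i X)) (hr : ∀ X, Commute r (fa i X)) (hs : ∀ X, Commute s (fa i X)) :
    hyp i a p q r s * hyp i a p' q' r' s' =
      hyp i a (p * p' + q * r') (p * q' + q * s') (r * p' + s * r') (r * q' + s * s') := by
  obtain ⟨p, rfl⟩ : ∃ p₀, p = p₀ + 1 := ⟨p - 1, (sub_add_cancel _ _).symm⟩
  obtain ⟨s, rfl⟩ : ∃ p₀, s = p₀ + 1 := ⟨s - 1, (sub_add_cancel _ _).symm⟩
  obtain ⟨p', rfl⟩ : ∃ p₀, p' = p₀ + 1 := ⟨p' - 1, (sub_add_cancel _ _).symm⟩
  obtain ⟨s', rfl⟩ : ∃ p₀, s' = p₀ + 1 := ⟨s' - 1, (sub_add_cancel _ _).symm⟩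
  have hp0 : ∀ X Z, p * (fa i X * Z) = fa i X * (p * Z) := fun X Z => by
    have h : Commute p (fa i X) := by simpa using (hp X).sub_left (Commute.one_left _)
    rw [← mul_assoc, h.eq, mul_assoc]
  have hs0 : ∀ X Z, s * (fa i X * Z) = fa i X * (s * Z) := fun X Z => by
    have h : Commute s (fa i X) := by simpa using (hs X).sub_left (Commute.one_left _)
    rw [← mul_assoc, h.eq, mul_assoc]
  have hq0 : ∀ X Z, q * (fa i X * Z) = fa i X * (q * Z) := fun X Z => by rw [← mul_assoc, (hq X).eq, mul_assoc]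
  have hr0 : ∀ X Z, r * (fa i X * Z) = fa i X * (r * Z) := fun X Z => by rw [← mul_assoc, (hr X).eq, mul_assoc]
  simp only [hyp, add_sub_cancel_right, mul_add, add_mul, one_mul, mul_one, mul_assoc, hp0, hq0, hr0, hs0, fs_mul',
    if_true, if_neg ha, if_neg ha.symm, zero_mul, mul_zero, add_zero, zero_add, mul_sub]
  abel

theorem hyp_upper (Z : MT) : hyp i a 1 Z 0 1 = 1 + E[i](a, a.rev) * Z := by simp [hyp]

theorem hyp_lower (Z : MT) : hyp i a 1 0 Z 1 = 1 + E[i](a.rev, a) * Z := by simp [hyp]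

theorem hyp_one : hyp i a (1 : MT) 0 0 1 = 1 := by simp [hyp]

theorem bl_hyp {p q r s : MT} (hp : ∀ X, Commute p (fa i X)) (hq : ∀ X, Commute q (fa i X))
    (hr : ∀ X, Commute r (fa i X)) (hs : ∀ X, Commute s (fa i X)) (x y : Fin k) :
    bl i (hyp i a p q r s) x y = (if x = y then 1 else 0) + (if a = x ∧ a = y then p - 1 else 0) +
      (if a = x ∧ a.rev = y then q else 0) + (if a.rev = x ∧ a = y then r else 0) +
      (if a.rev = x ∧ a.rev = y then s - 1 else 0) := by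
  have h : ∀ (u v : Fin k) (C : MT), (∀ X, Commute C (fa i X)) →
      bl i (E[i](u, v) * C) x y = if u = x ∧ v = y then C else 0 := fun u v C hC => by
    rw [bl_fa_mul i _ hC, Matrix.single_apply]
    split <;> simp
  rw [hyp, bl_add, bl_add, bl_add, bl_add, bl_one, h _ _ _ fun X => (hp X).sub_left (Commute.one_left _),
    h _ _ _ hq, h _ _ _ hr, h _ _ _ fun X => (hs X).sub_left (Commute.one_left _)]

/-- The matrices of a group. -/
def InG (G : Subgroup (GL (Fin t → Fin k) F)) (M : Matrix (Fin t → Fin k) (Fin t → Fin k) F) : Prop :=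
  ∃ g ∈ G, (g : Matrix (Fin t → Fin k) (Fin t → Fin k) F) = M

variable {Φ : Frame F k} {G : Subgroup (GL (Fin t → Fin k) F)} [NeZero k]

theorem InG.mul {M N : MT} (h : InG G M) (h' : InG G N) : InG G (M * N) := by
  obtain ⟨g, hg, rfl⟩ := h
  obtain ⟨g', hg', rfl⟩ := h'
  exact ⟨g * g', mul_mem hg hg', Units.val_mul _ _⟩

theorem IsLong.upper {Z : MT} (h : IsLong G i a Z) : InG G (hyp i a 1 Z 0 1) := by
  rw [hyp_upper]; exact h.2

theorem isLong_scalar (hH : Φ.Hyp G) (ha : a ≠ a.rev) {c : F} (hc : Φ.Lng c) :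
    IsLong G i a (c • (1 : MT)) := by
  obtain ⟨s, hs, hsv⟩ := Φ.exists_long ha hc
  refine ⟨fun X => (Commute.one_left _).smul_left c, fu i s, hH.roots i s hs, ?_⟩
  rw [fu_val, hsv, map_add, map_one, Matrix.mul_smul, mul_one, ← map_smul, Matrix.smul_single, smul_eq_mul, mul_one]

theorem IsLong.lower (hH : Φ.Hyp G) (ha : a ≠ a.rev) {γ : F} (hγ : γ ≠ 0) (hL : Φ.Lng γ) {Z : MT}
    (h : IsLong G i a Z) : InG G (hyp i a 1 0 ((-(γ⁻¹ * γ⁻¹)) • Z) 1) := by
  obtain ⟨W, hW, h1, h2, h3, h4, h5, h6⟩ := Φ.exists_weyl ha hγ hL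
  obtain ⟨hc, g, hg, hgv⟩ := h
  refine ⟨fu i W * g * (fu i W)⁻¹, mul_mem (mul_mem (hH.roots i W hW) hg) (inv_mem (hH.roots i W hW)), ?_⟩
  have e : (W : Mm) * Matrix.single a a.rev 1 * ((W⁻¹ : GL (Fin k) F) : Mm) =
      (-(γ⁻¹ * γ⁻¹)) • Matrix.single a.rev a (1 : F) := by
    rw [conj_single, h1, h5, vmv_single, neg_mul]
  rw [Units.val_mul, Units.val_mul, hgv, ← map_inv, fu_val, fu_val, mul_add, add_mul, mul_one, ← map_mul,
    Units.mul_inv, map_one, hyp_lower, mul_assoc (fa i (W : Mm)), mul_assoc (E[i](a, a.rev)), (hc _).eq,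
    ← mul_assoc (E[i](a, a.rev)), ← mul_assoc (fa i (W : Mm)), ← map_mul, ← map_mul, ← mul_assoc, e, map_smul,
    Matrix.smul_mul, Matrix.mul_smul]

/-- The Levi element of a long root block of square zero. -/
theorem levi_mem (hH : Φ.Hyp G) (ha : a ≠ a.rev) {γ : F} (hγ : γ ≠ 0) (hL : Φ.Lng γ) {N : MT}
    (h : IsLong G i a N) (h2 : N * N = 0) :
    InG G (hyp i a (1 + γ⁻¹ • N) 0 0 (1 - γ⁻¹ • N)) := by
  have hs : IsLong G i a (γ • (1 : MT)) := isLong_scalar hH ha hL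
  have hU : IsLong G i a (γ • (1 : MT) + N) := (longGroup G i ha).add_mem hs h
  have hV : IsLong G i a (γ • (1 : MT) - N) := (longGroup G i ha).sub_mem hs h
  have hn : IsLong G i a (-(γ • (1 : MT))) := (longGroup G i ha).neg_mem hs
  have hN := h.1
  have hγ1 : ∀ c : F, ∀ X, Commute (c • (1 : MT)) (fa i X) := fun c X => (Commute.one_left _).smul_left c
  have c0 : ∀ X, Commute (0 : MT) (fa i X) := fun X => Commute.zero_left _
  have c1 : ∀ X, Commute (1 : MT) (fa i X) := fun X => Commute.one_left _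
  have key := ((((hU.upper).mul (hV.lower hH ha hγ hL)).mul h.upper).mul (hn.lower hH ha hγ hL)).mul hn.upper
  set V : MT := (-(γ⁻¹ * γ⁻¹)) • (γ • 1 - N) with hVdef
  set U : MT := γ • 1 + N with hUdef
  have eV : V = γ⁻¹ • (γ⁻¹ • N - 1) := by
    rw [hVdef]; simp only [smul_sub, smul_smul, neg_smul]
    rw [show -(γ⁻¹ * γ⁻¹) * γ = -γ⁻¹ by field_simp, neg_smul]; abel
  have hg : (-(γ⁻¹ * γ⁻¹)) • (-(γ • (1 : MT))) = γ⁻¹ • 1 := by
    rw [smul_neg, neg_smul, neg_neg, smul_smul]; congr 1; field_simp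
  have eUV : U * V = -1 := by
    rw [hUdef, eV, add_mul, Matrix.mul_smul, Matrix.smul_mul, one_mul, smul_smul, inv_mul_cancel₀ hγ, one_smul,
      Matrix.mul_smul, mul_sub, Matrix.mul_smul, h2, smul_zero, mul_one]
    simp only [zero_sub, smul_neg]; abel
  have eVN : V * N = -(γ⁻¹ • N) := by
    rw [eV, Matrix.smul_mul, sub_mul, Matrix.smul_mul, h2, smul_zero, one_mul, zero_sub, smul_neg]
  have cU : ∀ X, Commute U (fa i X) := hU.1
  have cV : ∀ X, Commute V (fa i X) := fun X => (hV.1 X).smul_left _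
  rw [hg, hyp_mul ha c1 cU c0 c1] at key
  simp only [one_mul, zero_mul, mul_zero, add_zero, zero_add, mul_one, eUV, add_neg_cancel] at key
  rw [hyp_mul ha c0 cU cV c1] at key
  simp only [one_mul, zero_mul, mul_zero, add_zero, zero_add, mul_one, eVN] at key
  rw [hyp_mul ha c0 cU cV (fun X => ((hN X).smul_left _).neg_left.add_left (c1 X))] at key
  simp only [one_mul, zero_mul, mul_zero, add_zero, zero_add, mul_one, Matrix.mul_smul] at key
  have e1 : γ⁻¹ • U = 1 + γ⁻¹ • N := by rw [hUdef, smul_add, smul_smul, inv_mul_cancel₀ hγ, one_smul]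
  have e2 : V + γ⁻¹ • (-(γ⁻¹ • N) + 1) = 0 := by rw [eV]; module
  rw [e1, e2, hyp_mul ha (fun X => (c1 X).add_left ((hN X).smul_left _)) cU c0
    (fun X => ((hN X).smul_left _).neg_left.add_left (c1 X))] at key
  simp only [one_mul, zero_mul, mul_zero, add_zero, zero_add, mul_one, mul_neg, Matrix.mul_smul] at key
  have e3 : -(γ • (1 + γ⁻¹ • N)) + U = 0 := by
    rw [hUdef, smul_add, smul_smul, mul_inv_cancel₀ hγ, one_smul]; abel
  rwa [e3, show -(γ⁻¹ • N) + (1 : MT) = 1 - γ⁻¹ • N by abel, neg_zero, zero_add] at key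

/-- The Levi element acts on the rows. -/
theorem IsRow.mul_left (hH : Φ.Hyp G) (ha : a ≠ a.rev) {γ : F} (hγ : γ ≠ 0) (hL : Φ.Lng γ) {N : MT}
    (h : IsLong G i a N) (h2 : N * N = 0) {Y : Fin k → MT} (hY : IsRow G i a Y) :
    IsRow G i a (fun v => (γ⁻¹ • N) * Y v) := by
  obtain ⟨l, hl, hlv⟩ := levi_mem hH ha hγ hL h h2
  obtain ⟨g, hg, hr, hv⟩ := hY
  set M : MT := γ⁻¹ • N with hM
  have hMc : ∀ X, Commute M (fa i X) := fun X => (h.1 X).smul_left _
  have c0 : ∀ X, Commute (0 : MT) (fa i X) := fun X => Commute.zero_left _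
  have cp : ∀ X, Commute (1 + M) (fa i X) := fun X => (Commute.one_left _).add_left (hMc X)
  have cm : ∀ X, Commute (1 - M) (fa i X) := fun X => (Commute.one_left _).sub_left (hMc X)
  have hMM : M * M = 0 := by rw [hM, Matrix.smul_mul, Matrix.mul_smul, h2, smul_zero, smul_zero]
  have tri : ∀ p s : MT, (∀ X, Commute p (fa i X)) → (∀ X, Commute s (fa i X)) → TriB i a (hyp i a p 0 0 s) := by
    intro p s hp hs
    constructor
    · intro x hx
      rw [bl_hyp hp c0 c0 hs]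
      simp [hx, Ne.symm hx, ha.symm]
    · intro y hy
      rw [bl_hyp hp c0 c0 hs]
      simp [Ne.symm hy, ha]
  have hinv : hyp i a (1 + M) 0 0 (1 - M) * hyp i a (1 - M) 0 0 (1 + M) = 1 := by
    rw [hyp_mul ha cp c0 c0 cm]
    simp [add_mul, mul_sub, sub_mul, mul_add, hMM, hyp_one]
  have hlinv : ((l⁻¹ : GL (Fin t → Fin k) F) : MT) = hyp i a (1 - M) 0 0 (1 + M) := by
    rw [← hlv] at hinv
    exact Units.inv_eq_of_mul_eq_one_right hinv
  obtain ⟨hm, hrow⟩ := conj_rad ha (tri _ _ cp cm) (tri _ _ cm cp) hinv hr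
  have hnew : IsRow G i a (fun v => (1 + M) * Y v) := by
    refine ⟨l * g * l⁻¹, mul_mem (mul_mem hl hg) (inv_mem hl), ?_, fun y hy => ?_⟩
    · rw [Units.val_mul, Units.val_mul, hlv, hlinv]; exact hm
    rw [Units.val_mul, Units.val_mul, hlv, hlinv, hrow y hy, bl_hyp cp c0 c0 cm, Finset.sum_eq_single y]
    · rw [bl_sub, bl_one, if_neg hy.1.symm, sub_zero, hv y hy, bl_hyp cm c0 c0 cp]
      simp [hy.1, hy.2, Ne.symm hy.1, Ne.symm hy.2, ha, ha.symm]
    · intro z _ hz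
      rw [bl_hyp cm c0 c0 cp]
      simp [hz, hy.1, hy.2, Ne.symm hy.1, Ne.symm hy.2]
    · simp
  have hsum := IsRow.add ha hnew (IsRow.neg hH ha (⟨g, hg, hr, hv⟩ : IsRow G i a Y))
  refine hsum.congr fun v _ => ?_
  rw [Pi.add_apply, Pi.neg_apply, add_mul, one_mul]
  abel

end CfsgLib.MaxSub.TensorForm
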