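import Cfsg.Agent.Lib.MaxSub.TensorPow.Moving

/-!
Three-dimensional facts for the transposition case.
-/

set_option autoImplicit false
set_option maxHeartbeats 1000000
set_option linter.unusedSectionVars false
set_option linter.unusedSimpArgs false

namespace CfsgLib.MaxSub.TensorForm

open Matrix
open CfsgLib.Aschbacher CfsgLib.MaxSub.TensorPow

variable {F : Type*} [Field F]

local notation "M3" => Matrix (Fin 3) (Fin 3) F

/-- A map of the two long root groups into the centraliser of a transvection, multiplicative up to the relations of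
a torus, is scalar on them. -/
theorem long_scalar {S : Type*} [Mul S] (ρ : S → Matrix (Fin 3) (Fin 3) F) (P : Set S)
    (hmul : ∀ s ∈ P, ∀ r ∈ P, ρ (s * r) = ρ s * ρ r) (hP : ∀ s ∈ P, ∀ r ∈ P, s * r ∈ P)
    (htri : ∀ s ∈ P, ρ s 1 0 = 0 ∧ ρ s 2 0 = 0 ∧ ρ s 2 1 = 0 ∧ ρ s 0 0 = 1 ∧ ρ s 2 2 = 1 ∧ ρ s 1 1 ≠ 0)
    (L : Set S) (hL : L ⊆ P) {d : S} (hd : d ∈ P)
    (hdL : ∃ x₁ ∈ L, ∃ x₂ ∈ L, ∃ x₃ ∈ L, ∃ x₄ ∈ L, ∃ x₅ ∈ L, ∃ x₆ ∈ L, d = x₁ * x₂ * x₃ * (x₄ * x₅ * x₆))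
    (hcomm : ∀ x ∈ L, ∃ x' ∈ L, d * x' = x * x' * d) : ∀ x ∈ L, ρ x = 1 := by
  have prod : ∀ s ∈ P, ∀ r ∈ P,
      ρ (s * r) 0 1 = ρ r 0 1 + ρ s 0 1 * ρ r 1 1 ∧ ρ (s * r) 1 2 = ρ s 1 1 * ρ r 1 2 + ρ s 1 2 ∧
        ρ (s * r) 1 1 = ρ s 1 1 * ρ r 1 1 ∧ ρ (s * r) 0 2 = ρ r 0 2 + ρ s 0 1 * ρ r 1 2 + ρ s 0 2 := by
    intro s hs r hr
    obtain ⟨a1, a2, a3, a4, a5, -⟩ := htri s hs
    obtain ⟨b1, b2, b3, b4, b5, -⟩ := htri r hr
    rw [hmul s hs r hr]
    simp [Matrix.mul_apply, Fin.sum_univ_three, a1, a2, a3, a4, a5, b1, b2, b3, b4, b5]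
  have l1 : ∀ x ∈ L, ρ x 1 1 = 1 := fun x hx => by
    obtain ⟨x', hx', e⟩ := hcomm x hx
    have h1 := (prod d hd x' (hL hx')).2.2.1
    rw [e, (prod _ (hP x (hL hx) x' (hL hx')) d hd).2.2.1, (prod x (hL hx) x' (hL hx')).2.2.1] at h1
    refine mul_right_cancel₀ (mul_ne_zero (htri x' (hL hx')).2.2.2.2.2 (htri d hd).2.2.2.2.2) ?_
    linear_combination h1
  obtain ⟨x₁, m₁, x₂, m₂, x₃, m₃, x₄, m₄, x₅, m₅, x₆, m₆, de⟩ := hdL
  have p12 := hP _ (hL m₁) _ (hL m₂)
  have p45 := hP _ (hL m₄) _ (hL m₅)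
  have p123 := hP _ p12 _ (hL m₃)
  have p456 := hP _ p45 _ (hL m₆)
  have dstep : ∀ g : S → F, (∀ s ∈ P, ∀ r ∈ P, ρ s 1 1 = 1 → ρ r 1 1 = 1 →
      (∀ x ∈ L, g x = 0) → g s = 0 → g r = 0 → g (s * r) = 0) → (∀ x ∈ L, g x = 0) → g d = 0 := by
    intro g hg h0
    have q : ∀ s ∈ P, ∀ r ∈ P, ρ s 1 1 = 1 → ρ r 1 1 = 1 → ρ (s * r) 1 1 = 1 := fun s hs r hr h h' => by
      rw [(prod s hs r hr).2.2.1, h, h', one_mul]
    have e12 := q _ (hL m₁) _ (hL m₂) (l1 _ m₁) (l1 _ m₂)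
    have e45 := q _ (hL m₄) _ (hL m₅) (l1 _ m₄) (l1 _ m₅)
    rw [de]
    exact hg _ p123 _ p456 (q _ p12 _ (hL m₃) e12 (l1 _ m₃)) (q _ p45 _ (hL m₆) e45 (l1 _ m₆)) h0
      (hg _ p12 _ (hL m₃) e12 (l1 _ m₃) h0
        (hg _ (hL m₁) _ (hL m₂) (l1 _ m₁) (l1 _ m₂) h0 (h0 _ m₁) (h0 _ m₂)) (h0 _ m₃))
      (hg _ p45 _ (hL m₆) e45 (l1 _ m₆) h0
        (hg _ (hL m₄) _ (hL m₅) (l1 _ m₄) (l1 _ m₅) h0 (h0 _ m₄) (h0 _ m₅)) (h0 _ m₆))
  have hd1 : ρ d 1 1 = 1 := by
    have := dstep (fun s => ρ s 1 1 - 1) (fun s hs r hr h h' _ _ _ => by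
      rw [(prod s hs r hr).2.2.1, h, h', one_mul, sub_self]) fun x hx => by rw [l1 x hx, sub_self]
    exact sub_eq_zero.1 this
  have l2 : ∀ x ∈ L, ρ x 0 1 = 0 ∧ ρ x 1 2 = 0 := fun x hx => by
    obtain ⟨x', hx', e⟩ := hcomm x hx
    have hxx := hP x (hL hx) x' (hL hx')
    have h1 := (prod d hd x' (hL hx')).1
    have h2 := (prod d hd x' (hL hx')).2.1
    rw [e, (prod _ hxx d hd).1, (prod x (hL hx) x' (hL hx')).1, l1 x' hx', hd1] at h1
    rw [e, (prod _ hxx d hd).2.1, (prod x (hL hx) x' (hL hx')).2.1, (prod x (hL hx) x' (hL hx')).2.2.1,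
      l1 x hx, l1 x' hx', hd1] at h2
    exact ⟨by linear_combination h1, by linear_combination h2⟩
  have hd01 : ρ d 0 1 = 0 := dstep (fun s => ρ s 0 1) (fun s hs r hr _ h' _ e e' => by
    simp [(prod s hs r hr).1, h', e, e']) fun x hx => (l2 x hx).1
  have hd12 : ρ d 1 2 = 0 := dstep (fun s => ρ s 1 2) (fun s hs r hr h _ _ e e' => by
    simp [(prod s hs r hr).2.1, h, e, e']) fun x hx => (l2 x hx).2
  intro x hx
  obtain ⟨x', hx', e⟩ := hcomm x hx
  have hxx := hP x (hL hx) x' (hL hx')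
  have h3 := (prod d hd x' (hL hx')).2.2.2
  rw [e, (prod _ hxx d hd).2.2.2, (prod x (hL hx) x' (hL hx')).2.2.2, (l2 x' hx').2, hd12, hd01] at h3
  have h02 : ρ x 0 2 = 0 := by linear_combination h3
  obtain ⟨a1, a2, a3, a4, a5, -⟩ := htri x (hL hx)
  ext i j
  fin_cases i <;> fin_cases j <;> simp [a1, a2, a3, a4, a5, l1 x hx, (l2 x hx).1, (l2 x hx).2, h02]

variable {t : ℕ}

local notation "MT3" => Matrix (Fin t → Fin 3) (Fin t → Fin 3) F

/-- The symmetric sum over two factors. -/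
noncomputable def sym1 (i k : Fin t) (X : M3) : MT3 := fa i X + fa k X

/-- The symmetric product over two factors. -/
noncomputable def sym2 (i k : Fin t) (X : M3) : MT3 := fa i X * fa k X

/-- Ten independent elements of the algebra of the symmetric squares of the long root elements. -/
theorem long_indep {i k : Fin t} (hik : i ≠ k) :
    LinearIndependent F ![(1 : MT3), sym1 i k (Matrix.single 0 2 1), sym2 i k (Matrix.single 0 2 1),
      sym1 i k (Matrix.single 2 0 1), sym2 i k (Matrix.single 2 0 1),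
      sym2 i k (Matrix.single 0 2 1) * sym2 i k (Matrix.single 2 0 1),
      sym2 i k (Matrix.single 2 0 1) * sym2 i k (Matrix.single 0 2 1),
      sym2 i k (Matrix.single 0 2 1) * sym1 i k (Matrix.single 2 0 1),
      sym2 i k (Matrix.single 2 0 1) * sym1 i k (Matrix.single 0 2 1),
      sym1 i k (Matrix.single 0 2 1) * sym2 i k (Matrix.single 2 0 1)] := by
  let ev : MT3 → Fin 3 → Fin 3 → Fin 3 → Fin 3 → F := fun M u v w z =>
    M (Function.update (Function.update (fun _ => 0) i u) k v)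
      (Function.update (Function.update (fun _ => 0) i w) k z)
  have hf : ∀ (X Y : M3) (u v w z : Fin 3), ev (fa i X * fa k Y) u v w z = X u w * Y v z := by
    intro X Y u v w z
    show (fa i X * fa k Y : MT3) _ _ = _
    rw [fa_eq, fa_eq, pureMat_mul, pureMat_apply,
      ← Finset.mul_prod_erase _ _ (Finset.mem_univ i),
      ← Finset.mul_prod_erase _ _ (Finset.mem_erase.2 ⟨hik.symm, Finset.mem_univ k⟩),
      Finset.prod_eq_one fun x hx => ?_]
    · simp [hik, hik.symm]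
    · simp only [Finset.mem_erase, Finset.mem_univ, and_true] at hx
      simp [hx.1, hx.2]
  have hadd : ∀ (A B : MT3) u v w z, ev (A + B) u v w z = ev A u v w z + ev B u v w z :=
    fun A B u v w z => Matrix.add_apply A B _ _
  have e1 : ∀ u v w z, ev 1 u v w z = (1 : M3) u w * (1 : M3) v z := fun u v w z => by
    rw [← hf 1 1 u v w z, map_one, map_one, mul_one]
  have s1 : ∀ X u v w z, ev (sym1 i k X) u v w z = X u w * (1 : M3) v z + (1 : M3) u w * X v z := fun X u v w z => by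
    rw [← hf X 1, ← hf 1 X, map_one, map_one, mul_one, one_mul, sym1, hadd]
  have hc : ∀ X Y, fa k X * fa i Y = (fa i Y * fa k X : MT3) := fun X Y => (fa_commute hik.symm X Y).eq
  have hc' : ∀ X Y (M : MT3), fa k X * (fa i Y * M) = fa i Y * (fa k X * M) := fun X Y M => by
    rw [← mul_assoc, hc, mul_assoc]
  have s22 : ∀ X Y u v w z, ev (sym2 i k X * sym2 i k Y) u v w z = (X * Y) u w * (X * Y) v z :=
    fun X Y u v w z => by
      rw [← hf, map_mul, map_mul]; simp only [sym2, mul_assoc, hc']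
  have s21 : ∀ X Y u v w z, ev (sym2 i k X * sym1 i k Y) u v w z = (X * Y) u w * X v z + X u w * (X * Y) v z :=
    fun X Y u v w z => by
      rw [← hf, ← hf, ← hadd, map_mul, map_mul]
      simp only [sym2, sym1, mul_add, mul_assoc, hc, hc']
  have s12 : ∀ X Y u v w z, ev (sym1 i k X * sym2 i k Y) u v w z = (X * Y) u w * Y v z + Y u w * (X * Y) v z :=
    fun X Y u v w z => by
      rw [← hf, ← hf, ← hadd, map_mul, map_mul]
      simp only [sym2, sym1, add_mul, mul_assoc, hc, hc']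
  have s2 : ∀ X u v w z, ev (sym2 i k X) u v w z = X u w * X v z := fun X => hf X X
  rw [Fintype.linearIndependent_iff]
  intro c hc0
  have key : ∀ u v w z, ∑ n, c n * ev (![(1 : MT3), sym1 i k (Matrix.single 0 2 1), sym2 i k (Matrix.single 0 2 1),
      sym1 i k (Matrix.single 2 0 1), sym2 i k (Matrix.single 2 0 1),
      sym2 i k (Matrix.single 0 2 1) * sym2 i k (Matrix.single 2 0 1),
      sym2 i k (Matrix.single 2 0 1) * sym2 i k (Matrix.single 0 2 1),
      sym2 i k (Matrix.single 0 2 1) * sym1 i k (Matrix.single 2 0 1),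
      sym2 i k (Matrix.single 2 0 1) * sym1 i k (Matrix.single 0 2 1),
      sym1 i k (Matrix.single 0 2 1) * sym2 i k (Matrix.single 2 0 1)] n) u v w z = 0 := fun u v w z => by
    have := congrFun (congrFun hc0 (Function.update (Function.update (fun _ => 0) i u) k v))
      (Function.update (Function.update (fun _ => 0) i w) k z)
    simpa only [ev, Matrix.sum_apply, Matrix.smul_apply, smul_eq_mul, Matrix.zero_apply] using this
  have k0 := key 1 1 1 1
  have k1 := key 0 1 2 1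
  have k2 := key 0 0 2 2
  have k3 := key 2 1 0 1
  have k4 := key 2 2 0 0
  have k5 := key 0 0 0 0
  have k6 := key 2 2 2 2
  have k7 := key 0 0 0 2
  have k8 := key 2 2 2 0
  have k9 := key 0 2 0 0
  simp [Fin.sum_univ_succ, e1, s1, s2, s22, s21, s12, Matrix.single_apply, Matrix.one_apply, Matrix.mul_apply]
    at k0 k1 k2 k3 k4 k5 k6 k7 k8 k9
  rw [k0] at k5 k6
  rw [k1] at k7
  rw [k3] at k8 k9
  simp at k5 k6 k7 k8 k9
  intro n
  fin_cases n <;> assumption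

end CfsgLib.MaxSub.TensorForm
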