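import Cfsg.Agent.Lib.MaxSub.TensorForm.Commute
import Cfsg.Agent.Lib.MaxSub.TensorForm.Swap
import Cfsg.Agent.Lib.MaxSub.TensorPow.Shape

/-!
Long root elements of the factors are isolated.
-/

set_option autoImplicit false
set_option maxHeartbeats 1000000
set_option linter.unusedSectionVars false
set_option linter.unusedSimpArgs false

namespace CfsgLib.MaxSub.TensorForm

open Matrix
open CfsgLib.Aschbacher CfsgLib.MaxSub.TensorPow

variable {F : Type*} [Field F] {k t : ℕ}

local notation "Mm" => Matrix (Fin k) (Fin k) F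
local notation "MT" => Matrix (Fin t → Fin k) (Fin t → Fin k) F

variable {Φ : Frame F k}

theorem Frame.Iso.adj_Ad {g : GL (Fin t → Fin k) F} (hg : Φ.Iso g) (X : MT) :
    Φ.adj (Ad g X) = Ad g (Φ.adj X) := by
  rw [Ad_apply, Ad_apply, Φ.adj_mul, Φ.adj_mul, hg.adj_eq, hg.inv.adj_eq, inv_inv, mul_assoc]

/-- A transvection in the Lie algebra of the form has an isotropic centre. -/
theorem root_form {v φ : Fin k → F} (hv : v ≠ 0) (hφ : φ ≠ 0) (h : φ ⬝ᵥ v = 0)
    (hN : Φ.adj1 (vecMulVec v φ) = -vecMulVec v φ) :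
    ∃ μ : F, μ ≠ 0 ∧ φ = μ • Φ.qv v ∧ Φ.qv v ⬝ᵥ v = 0 := by
  obtain ⟨x, hx⟩ := Function.ne_iff.1 hv
  have e : φ = (-(Φ.qv φ x) / v x) • Φ.qv v := funext fun y => by
    have := congrFun (congrFun hN x) y
    rw [Φ.adj1_vecMulVec] at this
    simp only [vecMulVec_apply, Matrix.neg_apply] at this
    rw [Pi.smul_apply, smul_eq_mul, div_mul_eq_mul_div, eq_div_iff hx]
    linear_combination this
  have hμ : -(Φ.qv φ x) / v x ≠ 0 := fun h0 => hφ (by rw [e, h0, zero_smul])
  refine ⟨_, hμ, e, ?_⟩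
  rw [e, smul_dotProduct, smul_eq_mul] at h
  exact (mul_eq_zero.1 h).resolve_left hμ

/-- What is needed for a three-dimensional factor in characteristic two. -/
structure SwapTools (Φ : Frame F k) (a : Fin k) : Prop where
  point : k = 3 → (a : ℕ) = 0
  scalars : k = 3 → ringChar F = 2 → ∃ γ r : F, γ ≠ 0 ∧ Φ.Lng γ ∧ Φ.σ r = r ∧ r ≠ 0 ∧ r ≠ 1

theorem Frame.Lng.smul {γ r : F} (h : Φ.Lng γ) (hr : Φ.σ r = r) : Φ.Lng (r * γ) := by
  unfold Frame.Lng at h ⊢
  rw [map_mul, hr, show r * γ + Φ.eps * (r * Φ.σ γ) = r * (γ + Φ.eps * Φ.σ γ) by ring, h, mul_zero]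

theorem Frame.Lng.add {γ γ' : F} (h : Φ.Lng γ) (h' : Φ.Lng γ') : Φ.Lng (γ + γ') := by
  unfold Frame.Lng at h h' ⊢
  rw [map_add]
  linear_combination h + h'

variable [Finite F] [NeZero k] {G : Subgroup (GL (Fin t → Fin k) F)} {J : Finset (Fin t)} {a : Fin k}

/-- Long root elements are isolated. -/
theorem isWr_of_conj (hk : 3 ≤ k) (ht : 2 ≤ t) (hH : Φ.Hyp G) (hT : Φ.PointTools a) (hV : Φ.Transitive a)
    (hW : SwapTools Φ a) (hS : ∀ i, ScalAt G i a)
    (hrec : ∀ J' : Finset (Fin t), J'.card < J.card → ∀ g ∈ GJ G J', IsWr g)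
    {g : GL (Fin t → Fin k) F} (hg : g ∈ GJ G J) {i : Fin t} (hi : i ∈ J) {c : F} (hc : c ≠ 0) (hL : Φ.Lng c)
    {u : GL (Fin t → Fin k) F} (huv : (u : MT) = 1 + fa i (Matrix.single a a.rev c))
    (hw : IsWr (g⁻¹ * u * g)) : IsWr g := by
  classical
  have ha := hT.ne
  -- the long root elements
  choose! xs hxsS hxsV using fun c hc => Φ.exists_long ha (c := c) hc
  let U : Fin t → F → GL (Fin t → Fin k) F := fun i c => fu i (xs c)
  have hUv : ∀ i c, Φ.Lng c → (U i c : MT) = 1 + fa i (Matrix.single a a.rev c) := fun i c hc => by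
    rw [fu_val, hxsV c hc, map_add, map_one]
  have hUG : ∀ i c, Φ.Lng c → U i c ∈ GJ G J := fun i c hc => fu_mem_GJ hH i (hxsS c hc)
  have hUadd : ∀ i c c', Φ.Lng c → Φ.Lng c' → U i c * U i c' = U i (c + c') := fun i c c' hc hc' => Units.ext (by
    rw [Units.val_mul, hUv i c hc, hUv i c' hc', hUv i _ (hc.add hc'), Matrix.single_add, map_add]
    simp only [add_mul, mul_add, one_mul, mul_one]
    rw [← map_mul, Matrix.single_mul_single_of_ne _ _ _ _ (Ne.symm ha), map_zero]
    abel)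
  have hsmul : ∀ c : F, Matrix.single a a.rev c = c • Matrix.single a a.rev (1 : F) := fun c => by simp
  have huU : u = U i c := Units.ext (huv.trans (hUv i c hL).symm)
  have huG : u ∈ GJ G J := huU ▸ hUG i c hL
  have hwG : g⁻¹ * u * g ∈ GJ G J := mul_mem (mul_mem (inv_mem hg) huG) hg
  -- the alternative
  have key : ∀ (g : GL (Fin t → Fin k) F) (i : Fin t) (c : F), c ≠ 0 → Φ.Lng c → g ∈ GJ G J → i ∈ J →
      IsWr (g⁻¹ * U i c * g) →
      IsWr g ∨ (k = 3 ∧ ringChar F = 2 ∧ ∃ (A : Fin t → GL (Fin k) F) (p q : Fin t), p ≠ q ∧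
        g⁻¹ * U i c * g = pureGL A * permGL k F (Equiv.swap p q) ∧
        ∀ l : Fin t, l ≠ p → l ≠ q → ∃ e : Fin k → F, e ≠ 0 ∧
          ∀ φ : Fin k → F, φ ⬝ᵥ e = 0 →
            Commute ((g⁻¹ * U i c * g : GL (Fin t → Fin k) F) : MT) (fa l (vecMulVec e φ))) := by
    intro g i c hc hL hg hi hw
    set N : Mm := Matrix.single a a.rev c with hN
    have hNN : N * N = 0 := Matrix.single_mul_single_of_ne _ _ _ _ (Ne.symm ha) _
    have hNv : N = vecMulVec (c • Pi.single a (1 : F)) (Pi.single a.rev (1 : F)) := by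
      rw [smul_vecMulVec, ← single_eq_single_vecMulVec_single, hN, hsmul]
    have e1 : ((g⁻¹ * U i c * g : GL (Fin t → Fin k) F) : MT) = 1 + Ad g⁻¹ (fa i N) := by
      rw [Units.val_mul, Units.val_mul, hUv i c hL, mul_add, add_mul, mul_one, Units.inv_mul, Ad_apply, inv_inv]
    have h2 : (((g⁻¹ * U i c * g : GL (Fin t → Fin k) F) : MT) - 1) *
        (((g⁻¹ * U i c * g : GL (Fin t → Fin k) F) : MT) - 1) = 0 := by
      rw [e1, add_sub_cancel_left, ← Ad_mul_apply, ← map_mul, hNN, map_zero, map_zero]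
    have hr : (((g⁻¹ * U i c * g : GL (Fin t → Fin k) F) : MT) - 1).rank = k ^ (t - 1) := by
      have := rank_conj g⁻¹ (U i c)
      rw [inv_inv] at this
      rw [this, hUv i c hL, add_sub_cancel_left, ← hN, hNv,
        rank_fa_vecMulVec i (smul_ne_zero hc (by simp)) (by simp)]
    rcases shape hk ht hw h2 hr with ⟨j, v, φ, h', hv'⟩ | hsw
    · left
      rw [e1, add_right_inj] at hv'
      have hne : fa i N ≠ (0 : MT) := fun h0 => by
        have := fa_injective i (h0.trans (map_zero (fa (F := F) (m := k) (t := t) i)).symm)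
        exact hc (by simpa [hN] using congrFun (congrFun this a) a.rev)
      have hne' : fa j (vecMulVec v φ) ≠ (0 : MT) := fun h0 => hne (by
        have := congrArg (Ad g) (hv'.trans h0)
        rwa [← Ad_mul, mul_inv_cancel, Ad_one, map_zero] at this)
      have hv : v ≠ 0 := fun h0 => hne' (by simp [h0])
      have hφ : φ ≠ 0 := fun h0 => hne' (by simp [h0])
      have hgi : Φ.Iso g⁻¹ := (hH.iso g hg.1).inv
      have hadj : Φ.adj1 (vecMulVec v φ) = -vecMulVec v φ := by
        refine fa_injective (t := t) j ?_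
        have hE : Matrix.single a a.rev (Φ.eps * Φ.σ c) = -(Matrix.single a a.rev c) :=
          eq_neg_of_add_eq_zero_left (by rw [← Matrix.single_add, add_comm, hL, Matrix.single_zero])
        rw [← Φ.adj_fa, ← hv', hgi.adj_Ad, Φ.adj_fa, map_neg, ← hv', hN, Φ.adj1_long, hE, map_neg, map_neg]
      obtain ⟨μ, hμ, hφv, hvv⟩ := root_form hv hφ h' hadj
      have := isWr_of_root (g := g⁻¹) (i := i) (j := j) (c := c⁻¹ * μ) (v := v) (by omega) hH hT hV hS hrec
        (inv_mem hg) hi (mul_ne_zero (inv_ne_zero hc) hμ) hv hvv (by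
          rw [mul_smul, ← map_smul (fa j) μ, ← vecMulVec_smul, ← hφv, ← hv', hN, hsmul c, map_smul, map_smul,
            inv_smul_smul₀ hc])
      simpa using isWr_inv this
    · exact Or.inr hsw
  rcases key g i c hc hL hg hi (huU ▸ hw) with hdone | ⟨hk3, hp2, A, p, q, hpq, hA, hl⟩
  · exact hdone
  rw [← huU] at hA hl
  set w := g⁻¹ * u * g with hwdef
  obtain ⟨γ, r, hγ, hγL, hr, hr0, hr1⟩ := hW.scalars hk3 hp2
  haveI hch : CharP F 2 := hp2 ▸ ringChar.charP F
  have htwo : (2 : F) = 0 := by exact_mod_cast CharP.cast_eq_zero F 2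
  have hmaps : ∀ x ∉ J, Equiv.swap p q x = x := fun x hx =>
    maps_unique (by omega) (hA ▸ maps_wr A (Equiv.swap p q) x) (hwG.2 x hx)
  have hpJ : p ∈ J := by_contra fun h => hpq (by simpa using (hmaps p h).symm)
  have hqJ : q ∈ J := by_contra fun h => hpq (by simpa using hmaps q h)
  have hfix_root : ∀ x ∈ GJ G J, Ad x (fa i (Matrix.single a a.rev c)) = fa i (Matrix.single a a.rev c) →
      IsWr x := by
    intro x hx he
    refine isWr_of_root (by omega) hH hT hV hS hrec hx hi (i := i) (j := i) (v := Pi.single a 1)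
      (c := Φ.sg a.rev) (Φ.sg_ne _) (by simp) (Φ.qv_single ha) ?_
    have e2 : Matrix.single a a.rev (1 : F) = Φ.sg a.rev • vecMulVec (Pi.single a 1) (Φ.qv (Pi.single a 1)) := by
      have := Φ.conj_long (a := a) (s := 1) (by simp [Frame.Iso1, Φ.adj1_one])
      rwa [inv_one, Units.val_one, Matrix.one_mulVec, one_mul, mul_one] at this
    rw [hsmul, map_smul, map_smul] at he
    rw [smul_right_injective MT hc he]
    conv_lhs => rw [e2, map_smul]
  have hcomm : ∀ x : GL (Fin t → Fin k) F, x ∈ GJ G J → Commute x w → IsWr (g * x * g⁻¹) := by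
    intro x hx hxw
    refine hfix_root _ (mul_mem (mul_mem hg hx) (inv_mem hg)) (Ad_fix_of_commute huv ?_)
    calc g * x * g⁻¹ * u = g * (x * w) * g⁻¹ := by rw [hwdef]; group
      _ = g * (w * x) * g⁻¹ := by rw [hxw.eq]
      _ = u * (g * x * g⁻¹) := by rw [hwdef]; group
  by_cases hJ : 3 ≤ J.card
  · obtain ⟨l, hlJ, hl'⟩ : ∃ l ∈ J, l ∉ ({p, q} : Finset (Fin t)) :=
      Finset.exists_mem_notMem_of_card_lt_card (Finset.card_le_two.trans_lt hJ)
    simp only [Finset.mem_insert, Finset.mem_singleton, not_or] at hl'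
    obtain ⟨e, he, hec⟩ := hl l hl'.1 hl'.2
    have hσl : Equiv.swap p q l = l := Equiv.swap_apply_of_ne_of_ne hl'.1 hl'.2
    have hact : ∀ X : Mm, Commute (w : MT) (fa l X) ↔ Commute (A l : Mm) X := fun X => by
      have h3 := Ad_wr_fa A (Equiv.swap p q) l X
      rw [hσl, ← hA] at h3
      constructor
      · intro hX
        have h4 : Ad w (fa l X) = fa l X := by rw [Ad_apply, hX.eq, mul_assoc, Units.mul_inv, mul_one]
        have h5 := congrArg (fun Z => Z * (A l : Mm)) (fa_injective l (h3.symm.trans h4))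
        simp only [mul_assoc, Units.inv_mul, mul_one] at h5
        exact h5
      · intro hX
        rw [hX.eq, mul_assoc, Units.mul_inv, mul_one] at h3
        have h5 := congrArg (fun Z => Z * (w : MT)) h3
        simp only [Ad_apply, mul_assoc, Units.inv_mul, mul_one] at h5
        exact h5
    obtain ⟨e', he', hee', hecom⟩ : ∃ e' : Fin k → F, e' ≠ 0 ∧ Φ.qv e' ⬝ᵥ e' = 0 ∧
        Commute (w : MT) (fa l (vecMulVec e' (Φ.qv e'))) := by
      by_cases hee : Φ.qv e ⬝ᵥ e = 0
      · exact ⟨e, he, hee, hec _ hee⟩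
      have hadj : ∀ φ : Fin k → F, φ ⬝ᵥ e = 0 → Commute (w : MT) (fa l (Φ.adj1 (vecMulVec e φ))) := fun φ hφ => by
        have h3 := congrArg Φ.adj (hec φ hφ).eq
        rw [Φ.adj_mul, Φ.adj_mul, Φ.adj_fa, (hH.iso w hwG.1).adj_eq] at h3
        have h4 : Commute ((w⁻¹ : GL (Fin t → Fin k) F) : MT) (fa l (Φ.adj1 (vecMulVec e φ))) := h3.symm
        exact Commute.units_inv_left_iff.1 h4
      obtain ⟨μ, hμ⟩ := scalar_of_anisotropic (Φ := Φ) (A := (A l : Mm)) (by omega) hee
        (fun φ hφ => (hact _).1 (hec φ hφ)) (fun φ hφ => (hact _).1 (hadj φ hφ))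
      exact ⟨Pi.single a 1, by simp, Φ.qv_single ha, (hact _).2 (hμ ▸ (Commute.one_left _).smul_left μ)⟩
    obtain ⟨s, μ, hμ, hs, hse⟩ := hV e' he' hee'
    let R : F → GL (Fin t → Fin k) F := fun c => fu l s * U l c * (fu l s)⁻¹
    have hsG := fu_mem_GJ hH (J := J) l hs
    have hR : ∀ c, Φ.Lng c → R c ∈ GJ G J ∧ Commute (R c) w := fun c hc => by
      refine ⟨mul_mem (mul_mem hsG (hUG l c hc)) (inv_mem hsG), Units.ext ?_⟩
      have h3 : (R c : MT) = 1 + (c * (Φ.sg a.rev * μ * Φ.σ μ)) • fa l (vecMulVec e' (Φ.qv e')) := by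
        rw [Units.val_mul, Units.val_mul, hUv l c hc, mul_add, add_mul, mul_one, Units.mul_inv, ← Ad_apply,
          Ad_fu_fa, hsmul, Matrix.mul_smul, Matrix.smul_mul, Φ.conj_long hs.1, hse, Φ.qv_smul, smul_vecMulVec,
          vecMulVec_smul, smul_smul, smul_smul, smul_smul, map_smul]
        ring_nf
      show (R c : MT) * (w : MT) = (w : MT) * (R c : MT)
      rw [h3]
      exact ((Commute.one_left _).add_left (hecom.symm.smul_left _)).eq
    have hrun : ∀ c, c ≠ 0 → Φ.Lng c → IsWr g ∨ ∃ (B : Fin t → GL (Fin k) F) (x y : Fin t), x ≠ y ∧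
        g * R c * g⁻¹ = pureGL B * permGL k F (Equiv.swap x y) := fun c hc hcL => by
      have h1 := hcomm _ (hR c hcL).1 (hR c hcL).2
      have e3 : ((fu l s)⁻¹ * g⁻¹)⁻¹ * U l c * ((fu l s)⁻¹ * g⁻¹) = g * R c * g⁻¹ := by
        simp only [R]; group
      rcases key ((fu l s)⁻¹ * g⁻¹) l c hc hcL (mul_mem (inv_mem hsG) (inv_mem hg)) hlJ (e3 ▸ h1) with hd | hd
      · left
        simpa using isWr_inv (isWr_mul (isWr_fu l s) hd)
      · obtain ⟨-, -, B, x, y, hxy, hB, -⟩ := hd
        exact Or.inr ⟨B, x, y, hxy, e3 ▸ hB⟩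
    have hr1' : r + 1 ≠ 0 := fun h0 => hr1 (by linear_combination h0 - htwo)
    rcases hrun γ hγ hγL with hd | ⟨B1, c1, e1, hne1, hB1⟩
    · exact hd
    rcases hrun (r * γ) (mul_ne_zero hr0 hγ) (hγL.smul hr) with hd | ⟨B2, c2, e2, hne2, hB2⟩
    · exact hd
    rcases hrun (γ + r * γ) (by rw [← one_add_mul]; exact mul_ne_zero (by rwa [add_comm]) hγ)
      (hγL.add (hγL.smul hr)) with hd | ⟨B3, c3, e3, hne3, hB3⟩
    · exact hd
    have hB : g * R γ * g⁻¹ * (g * R (r * γ) * g⁻¹) = g * R (γ + r * γ) * g⁻¹ := by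
      simp only [R, ← hUadd l _ _ hγL (hγL.smul hr)]
      group
    rw [hB1, hB2, hB3, mul_assoc, ← mul_assoc (permGL k F _) (pureGL B2), perm_pure, mul_assoc,
      permGL_mul, ← mul_assoc, pureGL_mul] at hB
    have hs' := congrArg Equiv.Perm.sign (perm_unique (by omega) hB)
    rw [map_mul, Equiv.Perm.sign_swap hne1, Equiv.Perm.sign_swap hne2, Equiv.Perm.sign_swap hne3] at hs'
    exact absurd hs' (by decide)
  · push Not at hJ
    subst hk3
    obtain rfl : a = 0 := Fin.ext (hW.point rfl)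
    have hrev : (0 : Fin 3).rev = 2 := rfl
    obtain ⟨o, hoi, hoJ, hswap⟩ : ∃ o, o ≠ i ∧ o ∈ J ∧ Equiv.swap p q = Equiv.swap i o := by
      have hJ2 : J = {p, q} := (Finset.eq_of_subset_of_card_le (by simp [Finset.insert_subset_iff, hpJ, hqJ])
        (by rw [Finset.card_pair hpq]; omega)).symm
      rw [hJ2, Finset.mem_insert, Finset.mem_singleton] at hi
      rcases hi with rfl | rfl
      · exact ⟨q, hpq.symm, hqJ, rfl⟩
      · exact ⟨p, hpq, hpJ, Equiv.swap_comm p i⟩
    rw [hswap] at hA hmaps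
    have hcard : ∀ l ∈ J, l = i ∨ l = o := fun l hl0 => by
      by_contra hne
      push Not at hne
      have h3 : ({i, o, l} : Finset (Fin t)).card ≤ J.card :=
        Finset.card_le_card (by simp [Finset.insert_subset_iff, hi, hoJ, hl0])
      rw [Finset.card_insert_of_notMem (by simp [hoi.symm, hne.1.symm]),
        Finset.card_insert_of_notMem (by simp [hne.2.symm]), Finset.card_singleton] at h3
      omega
    have hww : w * w = 1 := by
      have hu2 : u * u = 1 := Units.ext (by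
        rw [Units.val_mul, huv, add_mul, mul_add, mul_add, one_mul, one_mul, mul_one, ← map_mul,
          Matrix.single_mul_single_of_ne _ _ _ _ (Ne.symm ha), map_zero, add_zero, Units.val_one]
        ext x y
        simp only [Matrix.add_apply]
        linear_combination (fa i (Matrix.single 0 (Fin.rev 0) c) x y) * htwo)
      rw [hwdef]
      calc g⁻¹ * u * g * (g⁻¹ * u * g) = g⁻¹ * (u * u) * g := by group
        _ = 1 := by rw [hu2]; group
    have hwinv : w⁻¹ = w := inv_eq_of_mul_eq_one_right hww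
    set yy : GL (Fin 3) F → GL (Fin t → Fin 3) F := fun s => fu o (A o * s * (A o)⁻¹) with hy
    have hwy : ∀ s, w * fu i s * w⁻¹ = yy s := fun s => Units.ext (by
      show Ad w _ = _
      rw [hy, fu_val, fu_val, hA, Ad_wr_fa, Equiv.swap_apply_left, Units.val_mul, Units.val_mul])
    let D : GL (Fin 3) F → GL (Fin t → Fin 3) F := fun s => fu i s * yy s
    have hxy : ∀ s s', Commute (yy s) (fu i s') := fun s s' => Units.ext (fa_commute hoi _ _).eq
    have hDmul : ∀ s s', D (s * s') = D s * D s' := fun s s' => by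
      show fu i (s * s') * yy (s * s') = fu i s * yy s * (fu i s' * yy s')
      rw [map_mul, ← hwy, map_mul, mul_assoc (fu i s) (yy s), ← mul_assoc (yy s), (hxy s s').eq, ← hwy s,
        ← hwy s']
      group
    have hDw : ∀ s, Commute (D s) w := fun s => by
      show fu i s * yy s * w = w * (fu i s * yy s)
      rw [← hwy]
      calc fu i s * (w * fu i s * w⁻¹) * w = fu i s * w * fu i s := by group
        _ = w * (w⁻¹ * fu i s * w) * fu i s := by group
        _ = w * (yy s * fu i s) := by rw [← hwy, hwinv]; group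
        _ = w * (fu i s * (w * fu i s * w⁻¹)) := by rw [(hxy s s).eq, ← hwy]
    have hDJ : ∀ s : GL (Fin 3) F, Φ.SI s → D s ∈ GJ G J := fun s hs =>
      mul_mem (fu_mem_GJ hH i hs) (hwy s ▸ mul_mem (mul_mem hwG (fu_mem_GJ hH i hs)) (inv_mem hwG))
    set N0 : Matrix (Fin 3) (Fin 3) F := Matrix.single 0 (Fin.rev 0) c with hN0
    have hpure : ∀ s : GL (Fin 3) F, Φ.SI s →
        ∃ B : Fin t → GL (Fin 3) F, g * D s * g⁻¹ = pureGL B ∧
          Commute (B i : Matrix (Fin 3) (Fin 3) F) N0 := by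
      intro s hs
      obtain ⟨B, σ, hB⟩ := hcomm _ (hDJ s hs) (hDw s)
      have hmem := mul_mem (mul_mem hg (hDJ s hs)) (inv_mem hg)
      have hfix : Ad (g * D s * g⁻¹) (fa i N0) = fa i N0 := by
        refine Ad_fix_of_commute huv ?_
        calc g * D s * g⁻¹ * u = g * (D s * w) * g⁻¹ := by rw [hwdef]; group
          _ = g * (w * D s) * g⁻¹ := by rw [(hDw s).eq]
          _ = u * (g * D s * g⁻¹) := by rw [hwdef]; group
      have hσi : σ i = i := by
        rw [hB, Ad_wr_fa, hN0, hsmul, single_eq_single_vecMulVec_single, ← smul_vecMulVec] at hfix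
        exact eq_of_fa_eq (smul_ne_zero hc (by simp)) (by simp)
          (by simp [Ne.symm ha]) hfix.symm
      have hσ : σ = 1 := Equiv.ext fun l => by
        by_cases hlJ : l ∈ J
        · rcases hcard l hlJ with rfl | rfl
          · exact hσi
          · by_contra hne
            by_cases hin : σ l ∈ J
            · rcases hcard _ hin with h' | h'
              · exact hoi (σ.injective (h'.trans hσi.symm))
              · exact hne h'
            · have := maps_unique (by norm_num) (hB ▸ maps_wr B σ (σ l)) (hmem.2 _ hin)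
              exact hne (σ.injective this)
        · exact maps_unique (by norm_num) (hB ▸ maps_wr B σ l) (hmem.2 l hlJ)
      subst hσ
      rw [permGL_one, mul_one] at hB
      refine ⟨B, hB, ?_⟩
      rw [hB, pureMat_update_fa] at hfix
      have := congrArg (fun X => X * (B i : Matrix (Fin 3) (Fin 3) F)) (fa_injective i hfix)
      show _ * _ = _ * _
      simpa [mul_assoc] using this
    choose! B hBeq hBc using hpure
    -- the normalised representation
    let ρ : GL (Fin 3) F → Matrix (Fin 3) (Fin 3) F := fun s =>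
      ((B s i : Matrix (Fin 3) (Fin 3) F) 0 0)⁻¹ • (B s i : Matrix (Fin 3) (Fin 3) F)
    let P : Set (GL (Fin 3) F) := {s | Φ.SI s}
    have hentries : ∀ s ∈ P, (B s i : Matrix (Fin 3) (Fin 3) F) 1 0 = 0 ∧ (B s i : Matrix (Fin 3) (Fin 3) F) 2 0 = 0 ∧
        (B s i : Matrix (Fin 3) (Fin 3) F) 2 1 = 0 ∧
        (B s i : Matrix (Fin 3) (Fin 3) F) 0 0 = (B s i : Matrix (Fin 3) (Fin 3) F) 2 2 ∧
        (B s i : Matrix (Fin 3) (Fin 3) F) 0 0 ≠ 0 ∧ (B s i : Matrix (Fin 3) (Fin 3) F) 1 1 ≠ 0 := by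
      intro s hs
      have hc' := (hBc s hs).eq
      rw [hN0, hrev] at hc'
      have e12 := congrFun (congrFun hc' 1) 2
      have e01 := congrFun (congrFun hc' 0) 1
      have e02 := congrFun (congrFun hc' 0) 2
      have e22 := congrFun (congrFun hc' 2) 2
      simp [Matrix.mul_apply, Fin.sum_univ_three, Matrix.single_apply, hc] at e12 e01 e02 e22
      rw [mul_comm] at e02
      have e02' := mul_left_cancel₀ hc e02
      have hu := (Matrix.isUnit_iff_isUnit_det _).1 (B s i).isUnit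
      rw [Matrix.det_fin_three] at hu
      simp [e12, e01, e22] at hu
      refine ⟨e12, e22, e01, e02', fun h => ?_, fun h => ?_⟩
      · simp [h] at hu
      · simp [h] at hu
    have hρmul : ∀ s ∈ P, ∀ s' ∈ P, ρ (s * s') = ρ s * ρ s' := by
      intro s hs s' hs'
      have e : pureGL (B s * B s') = pureGL (B (s * s')) := by
        rw [← pureGL_mul, ← hBeq s hs, ← hBeq s' hs', ← hBeq _ (Frame.SI.mul Φ hs hs'), hDmul]
        group
      obtain ⟨l, hl⟩ := pure_unique e i
      simp only [Pi.mul_apply, Units.val_mul] at hl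
      obtain ⟨a1, a2, a3, -, a5, -⟩ := hentries s hs
      obtain ⟨b1, b2, b3, -, b5, -⟩ := hentries s' hs'
      have h00 : (B s i : Matrix (Fin 3) (Fin 3) F) 0 0 * (B s' i : Matrix (Fin 3) (Fin 3) F) 0 0 =
          l * (B (s * s') i : Matrix (Fin 3) (Fin 3) F) 0 0 := by
        have := congrFun (congrFun hl 0) 0
        simpa [Matrix.mul_apply, Fin.sum_univ_three, b1, b2] using this
      have hl0 : l ≠ 0 := fun h0 => mul_ne_zero a5 b5 (by rw [h00, h0, zero_mul])
      simp only [ρ, Matrix.smul_mul, Matrix.mul_smul, smul_smul, hl]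
      congr 1
      have hC0 := (hentries _ (Frame.SI.mul Φ hs hs')).2.2.2.2.1
      field_simp
      linear_combination h00
    have htri : ∀ s ∈ P, ρ s 1 0 = 0 ∧ ρ s 2 0 = 0 ∧ ρ s 2 1 = 0 ∧ ρ s 0 0 = 1 ∧ ρ s 2 2 = 1 ∧ ρ s 1 1 ≠ 0 := by
      intro s hs
      obtain ⟨a1, a2, a3, a4, a5, a6⟩ := hentries s hs
      simp [ρ, a1, a2, a3, ← a4, a5, a6]
    -- two opposite root groups and a torus element
    choose! ys hysS hysV using fun c hc => Φ.exists_long (a := (0 : Fin 3).rev) (by rw [Fin.rev_rev]; exact Ne.symm ha) (c := c) hc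
    rw [hrev] at hxsV
    simp only [hrev, show Fin.rev (2 : Fin 3) = 0 from rfl] at hysV
    have hLinv : ∀ e, Φ.Lng e → Φ.Lng e⁻¹ := fun e he => by
      by_cases he0 : e = 0
      · rw [he0, _root_.inv_zero]; simp [Frame.Lng]
      unfold Frame.Lng at he ⊢
      have hσe : Φ.σ e ≠ 0 := by simpa using he0
      rw [map_inv₀]
      field_simp
      linear_combination Φ.eps * he - Φ.σ e * Φ.eps_sq
    let W : F → GL (Fin 3) F := fun e => xs e * ys e⁻¹ * xs e
    have hWv : ∀ e, e ≠ 0 → Φ.Lng e → (W e : Matrix (Fin 3) (Fin 3) F) =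
        Matrix.of ![![0, 0, e], ![0, 1, 0], ![e⁻¹, 0, 0]] := by
      intro e he heL
      rw [Units.val_mul, Units.val_mul, hxsV e heL, hysV _ (hLinv e heL)]
      ext x y
      fin_cases x <;> fin_cases y <;>
        simp [Matrix.mul_apply, Fin.sum_univ_three, Matrix.single_apply, Matrix.one_apply, mul_inv_cancel₀ he,
          inv_mul_cancel₀ he, CharTwo.add_self_eq_zero, add_mul, mul_assoc]
    let d : GL (Fin 3) F := W γ * W (r * γ)
    have hrg : Φ.Lng (r * γ) := hγL.smul hr
    have hrg0 : r * γ ≠ 0 := mul_ne_zero hr0 hγ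
    have hdv : (d : Matrix (Fin 3) (Fin 3) F) = Matrix.diagonal ![r⁻¹, 1, r] := by
      rw [Units.val_mul, hWv γ hγ hγL, hWv _ hrg0 hrg]
      ext x y
      fin_cases x <;> fin_cases y <;> simp [Matrix.mul_apply, Fin.sum_univ_three, Matrix.diagonal]
      all_goals field_simp
    let L : Set (GL (Fin 3) F) := {s | ∃ e, Φ.Lng e ∧ (s = xs e ∨ s = ys e)}
    have hLP : L ⊆ P := by
      rintro s ⟨e, he, rfl | rfl⟩
      · exact hxsS e he
      · exact hysS e he
    have hPmul : ∀ s ∈ P, ∀ s' ∈ P, s * s' ∈ P := fun s hs s' hs' => Frame.SI.mul Φ hs hs'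
    have hdP : d ∈ P := by
      have hWP : ∀ e, Φ.Lng e → W e ∈ P := fun e he =>
        hPmul _ (hPmul _ (hxsS e he) _ (hysS _ (hLinv e he))) _ (hxsS e he)
      exact hPmul _ (hWP γ hγL) _ (hWP _ hrg)
    have hscal : ∀ s ∈ L, ρ s = 1 := by
      refine long_scalar ρ P hρmul hPmul htri L hLP hdP
        ⟨xs γ, ⟨γ, hγL, Or.inl rfl⟩, ys γ⁻¹, ⟨_, hLinv γ hγL, Or.inr rfl⟩, xs γ, ⟨γ, hγL, Or.inl rfl⟩,
          xs (r * γ), ⟨_, hrg, Or.inl rfl⟩, ys (r * γ)⁻¹, ⟨_, hLinv _ hrg, Or.inr rfl⟩,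
          xs (r * γ), ⟨_, hrg, Or.inl rfl⟩, rfl⟩ ?_
      have hr2 : r⁻¹ * r⁻¹ + 1 ≠ 0 := fun h0 => hr1 (by
        field_simp at h0
        have h1 : (r + 1) * (r + 1) = 0 := by linear_combination h0 + r * htwo
        linear_combination (mul_self_eq_zero.1 h1) - htwo)
      have hr2' : r * r + 1 ≠ 0 := fun h0 => hr1 (by
        have h1 : (r + 1) * (r + 1) = 0 := by linear_combination h0 + r * htwo
        linear_combination (mul_self_eq_zero.1 h1) - htwo)
      rintro x ⟨e, he, rfl | rfl⟩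
      · set e' := (r⁻¹ * r⁻¹ + 1)⁻¹ * e with he'
        have heL' : Φ.Lng e' := he.smul (by simp [hr])
        refine ⟨xs e', ⟨e', heL', Or.inl rfl⟩, Units.ext ?_⟩
        show (d : Matrix (Fin 3) (Fin 3) F) * (xs e' : Matrix (Fin 3) (Fin 3) F) =
          (xs e : Matrix (Fin 3) (Fin 3) F) * (xs e' : Matrix (Fin 3) (Fin 3) F) * (d : Matrix (Fin 3) (Fin 3) F)
        rw [hdv, hxsV e he, hxsV e' heL']
        have he2 : e = (r⁻¹ * r⁻¹ + 1) * e' := by rw [he', mul_inv_cancel_left₀ hr2]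
        ext u v
        fin_cases u <;> fin_cases v <;>
          simp [Matrix.mul_apply, Fin.sum_univ_three, Matrix.diagonal, Matrix.single_apply, Matrix.one_apply]
        rw [he2]
        field_simp
        linear_combination -(e' * r ^ 2) * htwo
      · set e' := (r * r + 1)⁻¹ * e with he'
        have heL' : Φ.Lng e' := he.smul (by simp [hr])
        refine ⟨ys e', ⟨e', heL', Or.inr rfl⟩, Units.ext ?_⟩
        show (d : Matrix (Fin 3) (Fin 3) F) * (ys e' : Matrix (Fin 3) (Fin 3) F) =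
          (ys e : Matrix (Fin 3) (Fin 3) F) * (ys e' : Matrix (Fin 3) (Fin 3) F) * (d : Matrix (Fin 3) (Fin 3) F)
        rw [hdv, hysV e he, hysV e' heL']
        have he2 : e = (r * r + 1) * e' := by rw [he', mul_inv_cancel_left₀ hr2']
        ext u v
        fin_cases u <;> fin_cases v <;>
          simp [Matrix.mul_apply, Fin.sum_univ_three, Matrix.diagonal, Matrix.single_apply, Matrix.one_apply]
        rw [he2]
        field_simp
        linear_combination -e' * htwo
    -- too many elements commuting with the preimage of the factor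
    exfalso
    let T : Submodule F (Matrix (Fin t → Fin 3) (Fin t → Fin 3) F) :=
      LinearMap.range ((Ad g⁻¹).comp (fa o).toLinearMap)
    have hT1 : (1 : Matrix (Fin t → Fin 3) (Fin t → Fin 3) F) ∈ T :=
      ⟨1, by show Ad g⁻¹ (fa o 1) = 1; rw [map_one, Ad_apply, mul_one, inv_inv, Units.inv_mul]⟩
    have hTmul : ∀ X ∈ T, ∀ Y ∈ T, X * Y ∈ T := by
      rintro _ ⟨X, rfl⟩ _ ⟨Y, rfl⟩
      exact ⟨X * Y, by show Ad g⁻¹ (fa o (X * Y)) = Ad g⁻¹ (fa o X) * Ad g⁻¹ (fa o Y); rw [map_mul, Ad_mul_apply]⟩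
    have hDT : ∀ s ∈ L, ((D s : GL (Fin t → Fin 3) F) : Matrix (Fin t → Fin 3) (Fin t → Fin 3) F) ∈ T := by
      intro s hs
      have hsP := hLP hs
      obtain ⟨Y, hY⟩ : ∃ Y, Ad g (D s : Matrix (Fin t → Fin 3) (Fin t → Fin 3) F) = fa o Y := by
        refine cent_range o fun l hlo X => ?_
        by_cases hli : l = i
        · subst hli
          have h1 : Ad (g * D s * g⁻¹) (fa l X) = fa l X := by
            rw [hBeq s hsP, pureMat_update_fa]
            obtain ⟨-, -, -, -, a5, -⟩ := hentries s hsP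
            have h2 := hscal s hs
            simp only [ρ] at h2
            have h3 := congrArg (fun M => (B s l : Matrix (Fin 3) (Fin 3) F) 0 0 • M) h2
            simp only [smul_inv_smul₀ a5] at h3
            have hcm : Commute (B s l : Matrix (Fin 3) (Fin 3) F) X :=
              h3 ▸ (Commute.one_left X).smul_left _
            rw [hcm.eq, mul_assoc, Units.mul_inv, mul_one]
          rw [Ad_apply] at h1
          show Ad g _ * fa l X = fa l X * Ad g _
          conv_rhs => rw [← h1]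
          simp [Ad_apply, mul_assoc]
        · have hlJ : l ∉ J := fun hl0 => (hcard l hl0).elim hli hlo
          obtain ⟨W', hW'⟩ := (hg.2 l hlJ).inv X
          have hX : fa l X = Ad g (fa l W') := by rw [← hW', ← Ad_mul, mul_inv_cancel, Ad_one]
          have hcm : Commute ((D s : GL (Fin t → Fin 3) F) : Matrix (Fin t → Fin 3) (Fin t → Fin 3) F) (fa l W') := by
            rw [Units.val_mul]
            exact (fa_commute (Ne.symm hli) _ _).mul_left (fa_commute (Ne.symm hlo) _ _)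
          rw [hX, Commute, SemiconjBy, ← Ad_mul_apply, ← Ad_mul_apply, hcm.eq]
      exact ⟨Y, by show Ad g⁻¹ (fa o Y) = _; rw [← hY, Ad_inv_cancel]⟩
    let Q : GL (Fin t → Fin 3) F := pureGL (Function.update 1 o (A o)⁻¹)
    set T' := T.map (Ad Q) with hT'
    have hone : (1 : Matrix (Fin t → Fin 3) (Fin t → Fin 3) F) ∈ T' :=
      ⟨1, hT1, by rw [Ad_apply, mul_one, Units.mul_inv]⟩
    have hQ1 : ∀ s ∈ L, ∀ X : Matrix (Fin 3) (Fin 3) F, (s : Matrix (Fin 3) (Fin 3) F) = 1 + X →
        sym1 i o X + sym2 i o X ∈ T' := by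
      intro s hs X hsv
      refine ⟨_, T.sub_mem (hDT s hs) hT1, ?_⟩
      rw [map_sub, show Ad Q (1 : Matrix (Fin t → Fin 3) (Fin t → Fin 3) F) = 1 by
        rw [Ad_apply, mul_one, Units.mul_inv]]
      rw [Units.val_mul, hy, fu_val, fu_val, Ad_mul_apply, pureMat_update_fa, pureMat_update_fa]
      simp only [Function.update_self, Function.update_of_ne hoi.symm, Pi.one_apply, inv_one, Units.val_one,
        one_mul, mul_one, inv_inv, Units.val_mul, mul_assoc, Units.inv_mul, Units.inv_mul_cancel_left]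
      rw [hsv, map_add, map_one, map_add, map_one, sym1, sym2]
      simp only [add_mul, mul_add, one_mul, mul_one]
      abel
    have hsep : ∀ X : Matrix (Fin 3) (Fin 3) F, (∀ e, Φ.Lng e → ∃ s ∈ L, (s : Matrix (Fin 3) (Fin 3) F) = 1 + e • X) →
        sym1 i o X ∈ T' ∧ sym2 i o X ∈ T' := by
      intro X hX
      have hm : ∀ e, Φ.Lng e → e • sym1 i o X + (e * e) • sym2 i o X ∈ T' := fun e he => by
        obtain ⟨s, hs, hsv⟩ := hX e he
        have := hQ1 s hs _ hsv
        simpa [sym1, sym2, map_smul, smul_add, Matrix.smul_mul, Matrix.mul_smul, smul_smul] using this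
      have hm1 := hm γ hγL
      have hm2 := hm (r * γ) hrg
      have h2 : sym2 i o X ∈ T' := by
        have h3 := T'.sub_mem hm2 (T'.smul_mem r hm1)
        have e : (r * γ) • sym1 i o X + (r * γ * (r * γ)) • sym2 i o X - r • (γ • sym1 i o X + (γ * γ) • sym2 i o X) =
            (r * (r - 1) * (γ * γ)) • sym2 i o X := by module
        rw [e] at h3
        have hne : r * (r - 1) * (γ * γ) ≠ 0 :=
          mul_ne_zero (mul_ne_zero hr0 (sub_ne_zero.2 hr1)) (mul_ne_zero hγ hγ)
        have h4 := T'.smul_mem (r * (r - 1) * (γ * γ))⁻¹ h3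
        rwa [smul_smul, inv_mul_cancel₀ hne, one_smul] at h4
      refine ⟨?_, h2⟩
      have h3 := T'.sub_mem hm1 (T'.smul_mem (γ * γ) h2)
      rw [add_sub_cancel_right] at h3
      have h4 := T'.smul_mem γ⁻¹ h3
      rwa [smul_smul, inv_mul_cancel₀ hγ, one_smul] at h4
    have hX1 := hsep (Matrix.single 0 2 1) fun e he => ⟨xs e, ⟨e, he, Or.inl rfl⟩, by rw [hxsV e he]; simp⟩
    have hX2 := hsep (Matrix.single 2 0 1) fun e he => ⟨ys e, ⟨e, he, Or.inr rfl⟩, by rw [hysV e he]; simp⟩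
    have hQmul : ∀ X ∈ T', ∀ Y ∈ T', X * Y ∈ T' := by
      rintro _ ⟨X, hX, rfl⟩ _ ⟨Y, hY, rfl⟩
      exact ⟨X * Y, hTmul X hX Y hY, Ad_mul_apply _ _ _⟩
    refine no_ten ((Ad Q).comp ((Ad g⁻¹).comp (fa o).toLinearMap)) _ (long_indep hoi.symm) fun n => ?_
    rw [LinearMap.range_comp]
    fin_cases n
    · exact hone
    · exact hX1.1
    · exact hX1.2
    · exact hX2.1
    · exact hX2.2
    · exact hQmul _ hX1.2 _ hX2.2
    · exact hQmul _ hX2.2 _ hX1.2
    · exact hQmul _ hX1.2 _ hX2.1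
    · exact hQmul _ hX2.2 _ hX1.1
    · exact hQmul _ hX1.1 _ hX2.2

end CfsgLib.MaxSub.TensorForm
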