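import Cfsg.Agent.Lib.MaxSub.TensorForm.Blk

/-!
An isometry fixing a root line of a factor, conjugating the factor into a group without non-scalar radical
blocks, preserves that factor.
-/

set_option autoImplicit false
set_option maxHeartbeats 400000
set_option linter.unusedSectionVars false
set_option linter.unusedSimpArgs false

namespace CfsgLib.MaxSub.TensorForm

open Matrix
open CfsgLib.Aschbacher CfsgLib.MaxSub.TensorPow

variable {F : Type*} [Field F] {k t : ℕ}

local notation "Mm" => Matrix (Fin k) (Fin k) F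
local notation "MT" => Matrix (Fin t → Fin k) (Fin t → Fin k) F
local notation "E[" i "](" a "," b ")" => fa i (Matrix.single a b (1 : F))

/-- An index apart from a hyperbolic pair. -/
def Mid (a x : Fin k) : Prop := x ≠ a ∧ x ≠ a.rev

theorem cases3 (a x : Fin k) : x = a ∨ x = a.rev ∨ Mid a x := by
  by_cases h : x = a
  · exact Or.inl h
  by_cases h' : x = a.rev
  · exact Or.inr (Or.inl h')
  exact Or.inr (Or.inr ⟨h, h'⟩)

theorem Mid.rev {a x : Fin k} (h : Mid a x) : Mid a x.rev :=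
  ⟨fun e => h.2 (by rw [← e, Fin.rev_rev]), fun e => h.1 (Fin.rev_injective e)⟩

/-- Positions off the unipotent radical. -/
def OffRad (a x y : Fin k) : Prop := (x = a → y = a) ∧ (y = a.rev → x = a.rev)

/-- Positions of the Levi factor. -/
def OnLevi (a x y : Fin k) : Prop := (x = a ↔ y = a) ∧ (x = a.rev ↔ y = a.rev)

theorem OnLevi.swap {a x y : Fin k} (h : OnLevi a x y) : OnLevi a y.rev x.rev := by
  obtain ⟨h1, h2⟩ := h
  constructor
  · rw [Fin.rev_eq_iff, Fin.rev_eq_iff]; exact h2.symm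
  · rw [Fin.rev_inj, Fin.rev_inj]; exact h1.symm

theorem OffRad.swap {a x y : Fin k} (h : OffRad a x y) : OffRad a y.rev x.rev := by
  obtain ⟨h1, h2⟩ := h
  constructor
  · rw [Fin.rev_eq_iff, Fin.rev_eq_iff]; exact h2
  · rw [Fin.rev_inj, Fin.rev_inj]; exact h1

/-- In the Levi factor, for a matrix of the factor. -/
def IsLevi1 (a : Fin k) (s : Matrix (Fin k) (Fin k) F) : Prop := ∀ x y, ¬ OnLevi a x y → s x y = 0

/-- In the unipotent radical, for a matrix of the factor. -/
def InRad1 (a : Fin k) (s : Matrix (Fin k) (Fin k) F) : Prop :=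
  ∀ x y, OffRad a x y → s x y = (1 : Matrix (Fin k) (Fin k) F) x y

/-- Triangular with respect to a point and its polar. -/
def TriB (i : Fin t) (a : Fin k) (h : MT) : Prop :=
  (∀ x, x ≠ a → bl i h x a = 0) ∧ (∀ y, y ≠ a.rev → bl i h a.rev y = 0)

/-- In the unipotent radical. -/
def InRad (i : Fin t) (a : Fin k) (h : MT) : Prop :=
  ∀ x y, OffRad a x y → bl i h x y = bl i 1 x y

/-- All radical blocks are scalars. -/
def ScalAt (G : Subgroup (GL (Fin t → Fin k) F)) (i : Fin t) (a : Fin k) : Prop :=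
  ∀ g ∈ G, InRad i a (g : MT) → ∀ x y, ∃ c : F, bl i (g : MT) x y = c • (1 : MT)

namespace Frame

variable (Φ : Frame F k)

/-- The factor group. -/
def SI (s : GL (Fin k) F) : Prop := Φ.Iso1 s ∧ (s : Mm).det = 1

theorem SI.inv {s : GL (Fin k) F} (h : Φ.SI s) : Φ.SI s⁻¹ :=
  ⟨Φ.iso1_inv h.1, by
    rw [Matrix.coe_units_inv, Matrix.det_nonsing_inv, h.2, Ring.inverse_one]⟩

/-- Conjugation sends the `i`-th factor group into the group. -/
def NormRoots (G : Subgroup (GL (Fin t → Fin k) F)) (i : Fin t) (h : GL (Fin t → Fin k) F) : Prop :=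
  ∀ s, Φ.SI s → h * fu i s * h⁻¹ ∈ G

/-- The tools on a point of a factor. -/
structure PointTools (a : Fin k) : Prop where
  ne : a ≠ a.rev
  short : ∀ y : Fin k → F, ∃ s : GL (Fin k) F, Φ.SI s ∧ InRad1 a (s : Mm) ∧ ∀ v, Mid a v → (s : Mm) a v = y v
  mid : ∀ W : Submodule F (Fin k → F),
    (∀ s : GL (Fin k) F, Φ.SI s → IsLevi1 a (s : Mm) → ∀ y, Mid a y → ∀ w : Fin k → F,
      (∀ r, Mid a r → w r = (1 : Mm) r y - ((s : Mm) a a)⁻¹ * (s : Mm) r y) → (∀ r, ¬ Mid a r → w r = 0) →
      w ∈ W) →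
    ∀ y, Mid a y → Pi.single y 1 ∈ W
  top : (∃ s : GL (Fin k) F, Φ.SI s ∧ IsLevi1 a (s : Mm) ∧ (s : Mm) a a ≠ (s : Mm) a.rev a.rev) ∨
    ∃ (m : Fin k) (c c' : F) (s : GL (Fin k) F), Mid a m ∧ m ≠ m.rev ∧ c ≠ 0 ∧ c' ≠ 0 ∧ Φ.SI s ∧
      (s : Mm) = 1 + Matrix.single m a c + Matrix.single a.rev m.rev c'

end Frame

variable {Φ : Frame F k} {i : Fin t} {a : Fin k}

theorem InRad.tri (ha : a ≠ a.rev) {h : MT} (hh : InRad i a h) : TriB i a h := by
  constructor
  · intro x hx
    rw [hh x a ⟨fun e => rfl, fun e => absurd e ha⟩, bl_one, if_neg hx]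
  · intro y hy
    rw [hh a.rev y ⟨fun e => absurd e.symm ha, fun e => rfl⟩, bl_one, if_neg (Ne.symm hy)]

/-- The blocks of an element of the radical off its positions. -/
theorem InRad.sub_one {h : MT} (hh : InRad i a h) {x y : Fin k} (hxy : OffRad a x y) :
    bl i (h - 1) x y = 0 := by rw [bl_sub, hh x y hxy, sub_self]

/-- The conjugate of a radical element by a triangular one. -/
theorem conj_rad (ha : a ≠ a.rev) {h g r : MT} (hh : TriB i a h) (hg : TriB i a g) (hhg : h * g = 1)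
    (hr : InRad i a r) : InRad i a (h * r * g) ∧
      ∀ y, Mid a y → bl i (h * r * g) a y = bl i h a a * ∑ v, bl i (r - 1) a v * bl i g v y := by
  have e : h * r * g = 1 + h * (r - 1) * g := by rw [mul_sub, sub_mul, mul_one, hhg]; abel
  have z : ∀ x y u v, OffRad a x y → bl i h x u * bl i (r - 1) u v * bl i g v y = 0 := by
    intro x y u v hxy
    by_cases huv : OffRad a u v
    · rw [hr.sub_one huv, mul_zero, zero_mul]
    by_cases hu : u = a
    · subst hu
      by_cases hx : x = u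
      · rw [hxy.1 hx]
        by_cases hv : v = u
        · subst hv; rw [hr.sub_one ⟨fun _ => rfl, fun e => absurd e ha⟩, mul_zero, zero_mul]
        · rw [hg.1 v hv, mul_zero]
      · rw [hh.1 x hx, zero_mul, zero_mul]
    · have hv : v = a.rev ∧ u ≠ a.rev := by
        by_contra hc
        exact huv ⟨fun e => absurd e hu, fun e => by by_contra hc'; exact hc ⟨e, hc'⟩⟩
      obtain ⟨rfl, hu'⟩ := hv
      by_cases hy : y = a.rev
      · rw [hxy.2 hy, hh.2 u hu', zero_mul, zero_mul]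
      · rw [hg.2 y hy, mul_zero]
  refine ⟨fun x y hxy => ?_, fun y hy => ?_⟩
  · rw [e, bl_add, bl_mul, Finset.sum_eq_zero, add_zero]
    intro v _
    rw [bl_mul, Finset.sum_mul]
    exact Finset.sum_eq_zero fun u _ => z x y u v hxy
  · rw [e, bl_add, bl_one, if_neg hy.1.symm, zero_add, bl_mul, Finset.mul_sum]
    refine Finset.sum_congr rfl fun v _ => ?_
    rw [bl_mul, Finset.sum_mul, Finset.sum_eq_single a, mul_assoc]
    · intro u _ hu
      by_cases hv : v = a.rev
      · subst hv; rw [hg.2 y hy.2, mul_zero]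
      · rw [hr.sub_one ⟨fun e => absurd e hu, fun e => absurd e hv⟩, mul_zero, zero_mul]
    · simp

theorem OnLevi.trans {x y z : Fin k} (h : OnLevi a x y) (h' : OnLevi a y z) : OnLevi a x z :=
  ⟨h.1.trans h'.1, h.2.trans h'.2⟩

theorem OnLevi.symm' {x y : Fin k} (h : OnLevi a x y) : OnLevi a y x := ⟨h.1.symm, h.2.symm⟩

theorem OnLevi.offRad {x y : Fin k} (h : OnLevi a x y) : OffRad a x y := ⟨h.1.1, h.2.2⟩

/-- The terms of a product off the Levi factor vanish. -/
theorem term_zero {h g : MT} (hh : TriB i a h) (hg : TriB i a g) {x y z : Fin k} (hxy : OffRad a x y)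
    (hzy : ¬ OnLevi a z y) : bl i h x z * bl i g z y = 0 := by
  rcases cases3 a y with hy | hy | hy
  · subst hy
    by_cases hz : z = y
    · exact absurd (hz ▸ ⟨Iff.rfl, Iff.rfl⟩) hzy
    · rw [hg.1 z hz, mul_zero]
  · have hx := hxy.2 hy
    subst hx hy
    by_cases hz : z = a.rev
    · exact absurd (hz ▸ ⟨Iff.rfl, Iff.rfl⟩) hzy
    · rw [hh.2 z hz, zero_mul]
  · rcases cases3 a z with hz | hz | hz
    · subst hz
      rw [hh.1 x fun hx => hy.1 (hxy.1 hx), zero_mul]
    · subst hz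
      rw [hg.2 y hy.2, mul_zero]
    · exact absurd ⟨iff_of_false hz.1 hy.1, iff_of_false hz.2 hy.2⟩ hzy

/-- Products in the radical. -/
theorem mul_rad (ha : a ≠ a.rev) {r s : MT} (hr : InRad i a r) (hs : InRad i a s) : InRad i a (r * s) ∧
    (∀ y, Mid a y → bl i (r * s) a y = bl i r a y + bl i s a y) ∧
    bl i (r * s) a a.rev = bl i r a a.rev + bl i s a a.rev + ∑ z, bl i (r - 1) a z * bl i (s - 1) z a.rev := by
  have e : ∀ x y, bl i (r * s) x y =
      bl i r x y + bl i s x y - bl i 1 x y + ∑ z, bl i (r - 1) x z * bl i (s - 1) z y := fun x y => by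
    rw [← bl_mul, ← bl_add, ← bl_sub, ← bl_add]
    congr 1
    simp only [sub_mul, mul_sub, one_mul, mul_one]
    abel
  refine ⟨fun x y hxy => ?_, fun y hy => ?_, ?_⟩
  · rw [e, hr x y hxy, hs x y hxy, Finset.sum_eq_zero, add_zero, add_sub_cancel_right]
    intro z _
    by_cases hxz : OffRad a x z
    · rw [hr.sub_one hxz, zero_mul]
    rw [hs.sub_one, mul_zero]
    constructor
    · intro hz
      subst hz
      exact hxy.1 (by
        by_contra hx
        exact hxz ⟨fun e => absurd e hx, fun e => absurd e ha⟩)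
    · intro hy
      by_contra hz
      exact hxz ⟨fun hx => absurd ((hxy.1 hx).symm.trans hy) ha, fun e => absurd e hz⟩
  · rw [e, bl_one, if_neg hy.1.symm, sub_zero, Finset.sum_eq_zero, add_zero]
    intro z _
    by_cases hz : z = a
    · subst hz; rw [hr.sub_one ⟨fun _ => rfl, fun e => absurd e ha⟩, zero_mul]
    · rw [hs.sub_one ⟨fun e => absurd e hz, fun e => absurd e hy.2⟩, mul_zero]
  · rw [e, bl_one, if_neg ha, sub_zero]

theorem inRad_fa {s : Mm} (hs : InRad1 a s) : InRad i a (fa i s : MT) := fun x y h => by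
  rw [bl_fa, hs x y h, ← bl_fa, map_one]

theorem tri_fa (ha : a ≠ a.rev) {s : Mm} (hs : IsLevi1 a s) : TriB i a (fa i s : MT) := by
  constructor
  · intro x hx
    rw [bl_fa, hs x a fun h => hx (h.1.2 rfl), zero_smul]
  · intro y hy
    rw [bl_fa, hs a.rev y fun h => hy (h.2.1 rfl), zero_smul]

namespace Frame

theorem tri_adj (ha : a ≠ a.rev) {h : MT} (hh : TriB i a h) : TriB i a (Φ.adj h) := by
  constructor
  · intro x hx
    rw [Φ.bl_adj, hh.2 x.rev (fun e => hx (Fin.rev_injective e)), Φ.adj_zero, smul_zero]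
  · intro y hy
    rw [Φ.bl_adj, Fin.rev_rev, hh.1 y.rev (fun e => hy (by rw [← e, Fin.rev_rev])), Φ.adj_zero, smul_zero]

theorem inRad_adj {h : MT} (hh : InRad i a h) : InRad i a (Φ.adj h) := fun x y hxy => by
  rw [Φ.bl_adj, hh _ _ hxy.swap, ← Φ.bl_adj, Φ.adj_one]

theorem SI.levi_inv {s : GL (Fin k) F} (h : Φ.SI s) (hs : IsLevi1 a (s : Mm)) :
    IsLevi1 a ((s⁻¹ : GL (Fin k) F) : Mm) := fun x y hxy => by
  rw [← (Units.inv_eq_of_mul_eq_one_left h.1).symm, adj1_apply, hs _ _ fun h' => hxy (by simpa using h'.swap),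
    map_zero, mul_zero]

variable {G : Subgroup (GL (Fin t → Fin k) F)}

section maps

variable (hT : Φ.PointTools a) (hS : ScalAt G i a) {h : GL (Fin t → Fin k) F}
  (hi : Φ.Iso h) (hn : Φ.NormRoots G i h)
include hT hS hi hn

/-- The Levi blocks are proportional to the first one. -/
theorem levi_blocks (hh : TriB i a (h : MT)) {l : F} (hl : bl i (h : MT) a a = l • bl i (h : MT) a.rev a.rev)
    (hl0 : l ≠ 0) {x y : Fin k} (hxy : OnLevi a x y) :
    ∃ c : F, bl i (h : MT) x y = c • bl i (h : MT) a a := by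
  have ha := hT.ne
  set A := bl i (h : MT) a a with hA
  have hb : bl i (h : MT) a.rev a.rev = l⁻¹ • A := by rw [hl, inv_smul_smul₀ hl0]
  rcases cases3 a x with rfl | rfl | hx
  · rw [hxy.1.1 rfl]; exact ⟨1, (one_smul _ _).symm⟩
  · rw [hxy.2.1 rfl]; exact ⟨_, hb⟩
  have hy : Mid a y := ⟨fun e => hx.1 (hxy.1.2 e), fun e => hx.2 (hxy.2.2 e)⟩
  set g : MT := Φ.adj (h : MT) with hg
  have hgh : g * (h : MT) = 1 := hi
  have hhg : (h : MT) * g = 1 := by rw [hg, hi.adj_eq, Units.mul_inv]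
  have hgt : TriB i a g := tri_adj ha hh
  have hgA : bl i g a a * A = 1 := by
    have := congrArg (fun M => bl i M a a) hgh
    simp only [bl_mul, bl_one, if_true] at this
    rwa [Finset.sum_eq_single a (fun u _ hu => by rw [hh.1 u hu, mul_zero]) (by simp)] at this
  obtain ⟨s, hs, hsr, hsv⟩ := hT.short (Pi.single y.rev 1)
  obtain ⟨hrad, hrow⟩ := conj_rad ha hh hgt hhg (inRad_fa (i := i) hsr)
  have e : ((h * fu i s * h⁻¹ : GL (Fin t → Fin k) F) : MT) = (h : MT) * fa i (s : Mm) * g := by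
    rw [Units.val_mul, Units.val_mul, fu_val, hg, hi.adj_eq]
  obtain ⟨c, hc⟩ := hS _ (hn s hs) (e ▸ hrad) a x.rev
  rw [e, hrow _ hx.rev, Finset.sum_eq_single y.rev, bl_sub, bl_fa, bl_one, if_neg (Ne.symm hy.rev.1), sub_zero,
    hsv _ hy.rev, Pi.single_eq_same, one_smul, one_mul, ← hA] at hc
  · have h2 : bl i g y.rev x.rev = c • bl i g a a := by
      have := congrArg (fun M => bl i g a a * M) hc
      simpa only [← mul_assoc, hgA, one_mul, Matrix.mul_smul, mul_one] using this
    refine ⟨Φ.sg x * Φ.sg y * Φ.σ c * l⁻¹, ?_⟩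
    have h3 := Φ.bl_adj i g x y
    rw [hg, Φ.adj_adj, ← hg, h2, Φ.adj_smul] at h3
    rw [h3, hg, Φ.bl_adj i (h : MT) a a, Φ.sg_sq, one_smul, Φ.adj_adj, hb, smul_smul, smul_smul]
  · intro v _ hv
    rcases cases3 a v with rfl | rfl | hvm
    · rw [(inRad_fa hsr).sub_one ⟨fun _ => rfl, fun e => absurd e ha⟩, zero_mul]
    · rw [hgt.2 _ hx.rev.2, mul_zero]
    · rw [bl_sub, bl_fa, bl_one, if_neg (Ne.symm hvm.1), sub_zero, hsv v hvm, Pi.single_eq_of_ne hv, zero_smul,
        zero_mul]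
  · simp

variable (hR : ∀ s, Φ.SI s → fu i s ∈ G)
include hR

/-- A radical element has scalar blocks in the first row. -/
theorem rad_row (hr : InRad i a (h : MT)) {y : Fin k} (hy : Mid a y) :
    ∃ c : F, bl i (h : MT) a y = c • (1 : MT) := by
  classical
  have ha := hT.ne
  let L : (Fin k → F) →ₗ[F] MT := ∑ r, (LinearMap.proj r).smulRight (bl i (h : MT) a r)
  have hLv : ∀ w, L w = ∑ r, w r • bl i (h : MT) a r := fun w => by simp [L, LinearMap.sum_apply]
  let W := (Submodule.span F {(1 : MT)}).comap L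
  suffices Pi.single y 1 ∈ W by
    obtain ⟨c, hc⟩ := Submodule.mem_span_singleton.1 (Submodule.mem_comap.1 this)
    exact ⟨c, by rw [hc, hLv, Finset.sum_eq_single y] <;> simp +contextual⟩
  refine hT.mid W (fun u hu hul y hy w hw hw0 => ?_) y hy
  set u' : GL (Fin k) F := u⁻¹ with hu'
  have hu'S : Φ.SI u' := SI.inv Φ hu
  have hu'l : IsLevi1 a (u' : Mm) := SI.levi_inv hu hul
  have hmul : fa i (u' : Mm) * fa i (u : Mm) = (1 : MT) := by rw [← map_mul, hu', Units.inv_mul, map_one]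
  have haa : (u' : Mm) a a * (u : Mm) a a = 1 := by
    have := congrFun (congrFun (Units.inv_mul u) a) a
    rwa [Matrix.mul_apply, Matrix.one_apply_eq, Finset.sum_eq_single a
      (fun z _ hz => by rw [hul z a (fun h => hz (h.1.2 rfl)), mul_zero]) (by simp)] at this
  have hrad' : InRad i a ((h⁻¹ : GL (Fin t → Fin k) F) : MT) := hi.adj_eq ▸ inRad_adj hr
  obtain ⟨hV, hVrow⟩ := conj_rad ha (tri_fa ha hu'l) (tri_fa ha hul) hmul hrad'
  obtain ⟨hK, hKrow, -⟩ := mul_rad ha hr hV
  have hKG : h * fu i u' * h⁻¹ * fu i u ∈ G := mul_mem (hn u' hu'S) (hR u hu)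
  have e : ((h * fu i u' * h⁻¹ * fu i u : GL (Fin t → Fin k) F) : MT) =
      (h : MT) * (fa i (u' : Mm) * ((h⁻¹ : GL (Fin t → Fin k) F) : MT) * fa i (u : Mm)) := by
    simp [fu_val, mul_assoc]
  obtain ⟨c, hc⟩ := hS _ hKG (e ▸ hK) a y
  rw [e, hKrow y hy, hVrow y hy] at hc
  have hinvrow : ∀ v, Mid a v → bl i ((h⁻¹ : GL (Fin t → Fin k) F) : MT) a v = -bl i (h : MT) a v := fun v hv => by
    have h1 := (mul_rad ha hr hrad').2.1 v hv
    rw [← Units.val_mul, mul_inv_cancel, Units.val_one, bl_one, if_neg hv.1.symm] at h1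
    exact (neg_eq_of_add_eq_zero_right h1.symm).symm
  refine Submodule.mem_comap.2 (Submodule.mem_span_singleton.2 ⟨c, ?_⟩)
  rw [← hc, hLv, bl_fa, Finset.mul_sum]
  have hterm : ∀ v, (u' : Mm) a a • (1 : MT) *
      (bl i (((h⁻¹ : GL (Fin t → Fin k) F) : MT) - 1) a v * bl i (fa i (u : Mm)) v y) =
      w v • bl i (h : MT) a v - (1 : Mm) v y • bl i (h : MT) a v := by
    intro v
    rcases cases3 a v with hv | hv | hv
    · subst hv
      rw [hrad'.sub_one ⟨fun _ => rfl, fun e => absurd e ha⟩, zero_mul, mul_zero, hw0 v fun h => h.1 rfl,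
        Matrix.one_apply_ne hy.1.symm, zero_smul, sub_zero]
    · subst hv
      rw [bl_fa, hul _ y fun h => hy.2 (h.2.1 rfl), zero_smul, mul_zero, mul_zero,
        hw0 _ fun h => h.2 rfl, Matrix.one_apply_ne hy.2.symm, zero_smul, sub_zero]
    · rw [bl_sub, bl_fa, bl_one, if_neg hv.1.symm, sub_zero, hinvrow v hv, hw v hv, eq_inv_of_mul_eq_one_left haa]
      simp only [neg_mul, mul_neg, Matrix.smul_mul, Matrix.mul_smul, one_mul, mul_one, smul_smul, sub_smul,
        mul_comm ((u : Mm) v y)]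
      abel
  simp only [hterm, Finset.sum_sub_distrib]
  rw [Finset.sum_eq_single y (f := fun v => (1 : Mm) v y • bl i (h : MT) a v)
    (fun v _ hv => by rw [Matrix.one_apply_ne hv, zero_smul]) (by simp), Matrix.one_apply_eq, one_smul]
  abel

/-- A radical element has scalar blocks. -/
theorem rad_scalar (hr : InRad i a (h : MT)) (x y : Fin k) :
    ∃ c : F, bl i (h : MT) x y = c • (1 : MT) := by
  classical
  have ha := hT.ne
  choose! yv hyv using fun y hy => rad_row hT hS hi hn hR hr (y := y) hy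
  obtain ⟨s, hs, hsr, hsv⟩ := hT.short yv
  -- remove the first row
  set u : GL (Fin t → Fin k) F := h * (fu i s)⁻¹ with hu
  have hui : Φ.Iso u := hi.mul _ (Φ.iso_fu i hs.1).inv
  have hun : Φ.NormRoots G i u := fun r hr' => by
    have := hn _ ⟨Φ.iso1_mul (Φ.iso1_mul (Φ.iso1_inv hs.1) hr'.1) hs.1, by
      rw [Units.val_mul, Units.val_mul, det_mul, det_mul, hr'.2, hs.2, (SI.inv Φ hs).2, one_mul, one_mul]⟩
    simpa [hu, map_mul, map_inv, mul_assoc] using this
  have hs' : InRad i a (((fu i s)⁻¹ : GL (Fin t → Fin k) F) : MT) :=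
    (Φ.iso_fu i hs.1).adj_eq ▸ inRad_adj (inRad_fa hsr)
  obtain ⟨hur, hurow, -⟩ := mul_rad ha hr hs'
  rw [← Units.val_mul, ← hu] at hur hurow
  have hrow : ∀ v, Mid a v → bl i (u : MT) a v = 0 := fun v hv => by
    rw [hurow v hv, hyv v hv]
    have h1 := (mul_rad ha (inRad_fa (i := i) hsr) hs').2.1 v hv
    rw [← fu_val, ← Units.val_mul, mul_inv_cancel, Units.val_one, bl_one, if_neg hv.1.symm, fu_val, bl_fa,
      hsv v hv] at h1
    exact h1.symm
  have hu'r : InRad i a ((u⁻¹ : GL (Fin t → Fin k) F) : MT) := hui.adj_eq ▸ inRad_adj hur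
  have hrow' : ∀ v, Mid a v → bl i ((u⁻¹ : GL (Fin t → Fin k) F) : MT) a v = 0 := fun v hv => by
    have h1 := (mul_rad ha hur hu'r).2.1 v hv
    rw [← Units.val_mul, mul_inv_cancel, Units.val_one, bl_one, if_neg hv.1.symm, hrow v hv, zero_add] at h1
    exact h1.symm
  have hcol : ∀ v, Mid a v → bl i (u : MT) v a.rev = 0 := fun v hv => by
    have := Φ.bl_adj i (((u⁻¹ : GL (Fin t → Fin k) F)) : MT) v a.rev
    rwa [hui.inv.adj_eq, inv_inv, Fin.rev_rev, hrow' _ hv.rev, Φ.adj_zero, smul_zero] at this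
  set Z := bl i (u : MT) a a.rev with hZ
  have hblocks : ∀ x y, bl i (u : MT) x y = bl i 1 x y + if x = a ∧ y = a.rev then Z else 0 := by
    intro x y
    by_cases hxy : OffRad a x y
    · rw [hur x y hxy, if_neg, add_zero]
      rintro ⟨rfl, rfl⟩
      exact ha (hxy.1 rfl).symm
    by_cases hx : x = a
    · subst hx
      rcases cases3 x y with hy | hy | hy
      · exact absurd ⟨fun _ => hy, fun e => absurd (hy.symm.trans e) ha⟩ hxy
      · subst hy; rw [if_pos ⟨rfl, rfl⟩, bl_one, if_neg ha, zero_add]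
      · rw [hrow y hy, bl_one, if_neg hy.1.symm, if_neg (fun h => hy.2 h.2), zero_add]
    · have hy : y = a.rev := by
        by_contra hy; exact hxy ⟨fun e => absurd e hx, fun e => absurd e hy⟩
      subst hy
      rcases cases3 a x with h' | h' | h'
      · exact absurd h' hx
      · exact absurd ⟨fun e => absurd e hx, fun _ => h'⟩ hxy
      · rw [hcol x h', bl_one, if_neg h'.2, if_neg (fun h => hx h.1), zero_add]
  have hZc : ∀ X, Commute Z (fa i X) := bl_commute i _ _ _
  have huv : (u : MT) = 1 + E[i](a, a.rev) * Z := bl_ext i fun x y => by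
    rw [hblocks, bl_add, bl_fa_mul i _ hZc, Matrix.single_apply]
    simp only [eq_comm (a := a), eq_comm (a := a.rev), ite_smul, one_smul, zero_smul]
  have hPP : E[i](a, a.rev) * Z * (E[i](a, a.rev) * Z) = (0 : MT) := sq_zero_fs ha hZc
  have huu : ((u⁻¹ : GL (Fin t → Fin k) F) : MT) = 1 - E[i](a, a.rev) * Z := by
    rw [show u = one_add _ hPP from Units.ext huv]; rfl
  obtain ⟨z, hz⟩ : ∃ z : F, Z = z • (1 : MT) := by
    rcases hT.top with ⟨r, hr', hrl, hne⟩ | ⟨m, c, c', r, hm, hmm, hc, hc', hr', hrv⟩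
    · -- a torus separates the corner
      have hri : IsLevi1 a ((r⁻¹ : GL (Fin k) F) : Mm) := SI.levi_inv hr' hrl
      have hmul : fa i (r : Mm) * fa i ((r⁻¹ : GL (Fin k) F) : Mm) = (1 : MT) := by
        rw [← map_mul, Units.mul_inv, map_one]
      obtain ⟨hV, -⟩ := conj_rad ha (tri_fa ha hrl) (tri_fa ha hri) hmul hu'r
      have hKG : u * fu i r * u⁻¹ * fu i r⁻¹ ∈ G := mul_mem (hun r hr') (hR _ (SI.inv Φ hr'))
      have e : ((u * fu i r * u⁻¹ * fu i r⁻¹ : GL (Fin t → Fin k) F) : MT) =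
          (u : MT) * (fa i (r : Mm) * ((u⁻¹ : GL (Fin t → Fin k) F) : MT) * fa i ((r⁻¹ : GL (Fin k) F) : Mm)) := by
        simp only [Units.val_mul, fu_val, mul_assoc]
      obtain ⟨hK, -, hKc⟩ := mul_rad ha hur hV
      obtain ⟨d, hd⟩ := hS _ hKG (e ▸ hK) a a.rev
      have hrb : (r : Mm) a a * ((r⁻¹ : GL (Fin k) F) : Mm) a.rev a.rev ≠ 1 := by
        intro h1
        have := congrFun (congrFun (Units.mul_inv r) a.rev) a.rev
        rw [Matrix.mul_apply, Matrix.one_apply_eq, Finset.sum_eq_single a.rev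
          (fun z _ hz => by rw [hrl _ z (fun h => hz (h.2.1 rfl)), zero_mul]) (by simp)] at this
        exact hne (mul_right_cancel₀ (right_ne_zero_of_mul_eq_one h1) (h1.trans this.symm))
      have hV2 : bl i (fa i (r : Mm) * ((u⁻¹ : GL (Fin t → Fin k) F) : MT) * fa i ((r⁻¹ : GL (Fin k) F) : Mm))
          a a.rev = -(((r : Mm) a a * ((r⁻¹ : GL (Fin k) F) : Mm) a.rev a.rev) • Z) := by
        rw [bl_fa_right, Finset.sum_eq_single a.rev, bl_fa_left, Finset.sum_eq_single a, huu, bl_sub, bl_one,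
          if_neg ha, bl_fa_mul i _ hZc, Matrix.single_apply_same, one_smul, zero_sub, smul_neg, smul_neg,
          smul_smul, mul_comm]
        · intro v _ hv; rw [hrl a v fun h => hv (h.1.1 rfl), zero_smul]
        · simp
        · intro v _ hv; rw [hri v a.rev fun h => hv (h.2.2 rfl), zero_smul]
        · simp
      rw [e, hKc, hV2, ← hZ, Finset.sum_eq_zero, add_zero] at hd
      · refine ⟨(1 - (r : Mm) a a * ((r⁻¹ : GL (Fin k) F) : Mm) a.rev a.rev)⁻¹ * d, ?_⟩
        rw [mul_smul, ← hd, show Z + -(((r : Mm) a a * ((r⁻¹ : GL (Fin k) F) : Mm) a.rev a.rev) • Z) =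
          (1 - (r : Mm) a a * ((r⁻¹ : GL (Fin k) F) : Mm) a.rev a.rev) • Z by
            rw [sub_smul, one_smul, sub_eq_add_neg],
          inv_smul_smul₀ (sub_ne_zero.2 (Ne.symm hrb))]
      · intro v _
        rcases cases3 a v with hv | hv | hv
        · subst hv; rw [hur.sub_one ⟨fun _ => rfl, fun e => absurd e ha⟩, zero_mul]
        · subst hv; rw [hV.sub_one ⟨fun e => absurd e ha.symm, fun _ => rfl⟩, mul_zero]
        · rw [bl_sub, hrow v hv, bl_one, if_neg hv.1.symm, sub_zero, zero_mul]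
    · -- a lower root
      set P : MT := E[i](a, a.rev) * Z with hP
      set X : MT := c • E[i](m, a) + c' • E[i](a.rev, m.rev) with hX
      have hrX : fa i (r : Mm) = 1 + X := by
        rw [hrv, hX, add_assoc, map_add, map_one, map_add, ← map_smul, ← map_smul]
        simp [Matrix.smul_single]
      have hcom : ∀ p q, Z * E[i](p, q) = E[i](p, q) * Z := fun p q => (hZc _).eq
      have hcom' : ∀ p q (M : MT), Z * (E[i](p, q) * M) = E[i](p, q) * (Z * M) := fun p q M => by
        rw [← mul_assoc, hcom, mul_assoc]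
      have hXX : X * X = 0 := by
        simp [hX, add_mul, mul_add, fs_mul, fs_mul', hm.1, hm.1.symm, hm.2, hm.2.symm, ha, ha.symm, hm.rev.1,
          hm.rev.1.symm, hmm, hmm.symm]
      have hrX' : fa i ((r⁻¹ : GL (Fin k) F) : Mm) = 1 - X := by
        have : fu i r = one_add X hXX := Units.ext hrX
        have h2 : fu i r⁻¹ = (one_add X hXX)⁻¹ := by rw [map_inv, this]
        exact congrArg Units.val h2
      set w := u * fu i r * u⁻¹ * fu i r⁻¹ with hw
      have hwG : w ∈ G := mul_mem (hun r hr') (hR _ (SI.inv Φ hr'))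
      have hwv : (w : MT) = 1 + c' • (E[i](a, m.rev) * Z) - c • (E[i](m, a.rev) * Z) +
          (c * c') • (E[i](m, m.rev) * Z) := by
        rw [hw, Units.val_mul, Units.val_mul, Units.val_mul, fu_val, fu_val, hrX, hrX', huv, huu]
        simp [hP, hX, add_mul, mul_add, sub_mul, mul_sub, fs_mul, fs_mul', hcom, hcom', mul_assoc, smul_smul,
          hm.1, hm.1.symm, hm.2, hm.2.symm, ha, ha.symm, hm.rev.1, hm.rev.1.symm, hm.rev.2, hm.rev.2.symm,
          hmm, hmm.symm, smul_add, smul_sub]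
        module
      have hwb : ∀ x y, bl i (w : MT) x y = bl i 1 x y + ((if x = a ∧ y = m.rev then c' else 0) -
          (if x = m ∧ y = a.rev then c else 0) + if x = m ∧ y = m.rev then c * c' else 0) • Z := by
        intro x y
        rw [hwv, bl_add, bl_sub, bl_add, bl_smul, bl_smul, bl_smul, bl_fa_mul i _ hZc, bl_fa_mul i _ hZc,
          bl_fa_mul i _ hZc, add_smul, sub_smul]
        simp only [Matrix.single_apply, eq_comm (a := a), eq_comm (a := m), eq_comm (a := a.rev),
          eq_comm (a := m.rev), ite_smul, one_smul, zero_smul, smul_ite, smul_zero]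
        abel
      have hwt : TriB i a (w : MT) := by
        constructor
        · intro x hx
          simp [hwb, bl_one, hx, hm.rev.1.symm, ha]
        · intro y hy
          simp [hwb, bl_one, hy.symm, ha.symm, hm.2.symm]
      have hwa : bl i (w : MT) a a = 1 := by simp [hwb, bl_one, hm.rev.1.symm, hm.1.symm]
      have hwbb : bl i (w : MT) a.rev a.rev = 1 := by
        simp [hwb, bl_one, ha.symm, hm.2.symm]
      have hwi : Φ.Iso w := ((hui.mul _ (Φ.iso_fu i hr'.1)).mul _ hui.inv).mul _ (Φ.iso_fu i (Φ.iso1_inv hr'.1))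
      obtain ⟨b, hb⟩ := levi_blocks hT hS hwi (fun s hs => mul_mem (mul_mem hwG (hR s hs)) (inv_mem hwG)) hwt
        (l := 1) (by rw [hwa, hwbb, one_smul]) one_ne_zero (x := m) (y := m.rev)
        ⟨iff_of_false hm.1 hm.rev.1, iff_of_false hm.2 hm.rev.2⟩
      rw [hwa, hwb, bl_one, if_neg hmm, zero_add] at hb
      simp only [hm.1, false_and, if_false, hm.rev.2, and_false, sub_zero, zero_add, and_self, if_true] at hb
      exact ⟨(c * c')⁻¹ * b, by rw [mul_smul, ← hb, inv_smul_smul₀ (mul_ne_zero hc hc')]⟩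
  -- recover the element
  have hh : (h : MT) = (u : MT) * fa i (s : Mm) := by rw [← fu_val, ← Units.val_mul, hu, inv_mul_cancel_right]
  refine ⟨(s : Mm) x y + if x = a then z * (s : Mm) a.rev y else 0, ?_⟩
  rw [hh, bl_fa_right]
  simp only [hblocks, bl_one, hz, smul_add, Finset.sum_add_distrib]
  rw [add_smul]
  congr 1
  · rw [Finset.sum_eq_single x] <;> simp +contextual [eq_comm]
  · rw [Finset.sum_eq_single a.rev]
    · by_cases hx : x = a <;> simp [hx, smul_smul, mul_comm]
    · intro v _ hv; simp [hv]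
    · simp

omit hR in
/-- The adjoint relation of the corner blocks. -/
theorem corner (hh : TriB i a (h : MT)) :
    Φ.adj (bl i (h : MT) a.rev a.rev) * bl i (h : MT) a a = 1 ∧
      bl i (h : MT) a a * Φ.adj (bl i (h : MT) a.rev a.rev) = 1 := by
  have ha := hT.ne
  have hgA : bl i (Φ.adj (h : MT)) a a = Φ.adj (bl i (h : MT) a.rev a.rev) := by
    rw [Φ.bl_adj, Φ.sg_sq, one_smul]
  constructor
  · have := congrArg (fun M => bl i M a a) (hi : Φ.adj (h : MT) * (h : MT) = 1)
    simp only [bl_mul, bl_one, if_true] at this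
    rwa [Finset.sum_eq_single a (fun u _ hu => by rw [hh.1 u hu, mul_zero]) (by simp), hgA] at this
  · have := congrArg (fun M => bl i M a a) (show (h : MT) * Φ.adj (h : MT) = 1 by rw [hi.adj_eq, Units.mul_inv])
    simp only [bl_mul, bl_one, if_true] at this
    rwa [Finset.sum_eq_single a (fun u _ hu => by rw [(tri_adj ha hh).1 u hu, mul_zero]) (by simp), hgA] at this

/-- The factor is preserved. -/
theorem maps_levi [NeZero k] {l : F} (hl0 : l ≠ 0)
    (hl : Ad h (fa i (Matrix.single a a.rev (1 : F))) = l • fa i (Matrix.single a a.rev 1)) : Maps h i i := by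
  classical
  have ha := hT.ne
  have e : (h : MT) * E[i](a, a.rev) = l • (E[i](a, a.rev) * (h : MT)) := by
    rw [← Matrix.smul_mul, ← hl, Ad_apply, mul_assoc, Units.inv_mul, mul_one]
  have key : ∀ x y, (if y = a.rev then bl i (h : MT) x a else 0) = if x = a then l • bl i (h : MT) a.rev y else 0 := by
    intro x y
    have h1 := congrArg (fun M => bl i M x y) e
    simp only [bl_smul, bl_fa_left, bl_fa_right] at h1
    rw [Finset.sum_eq_single a, Finset.sum_eq_single a.rev] at h1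
    · simpa [Matrix.single_apply, eq_comm] using h1
    · intro v _ hv; simp [Matrix.single_apply, Ne.symm hv]
    · simp
    · intro v _ hv; simp [Matrix.single_apply, Ne.symm hv]
    · simp
  have hh : TriB i a (h : MT) := by
    constructor
    · intro x hx; simpa [hx] using key x a.rev
    · intro y hy; simpa [hy, hl0, eq_comm] using key a y
  have hll : bl i (h : MT) a a = l • bl i (h : MT) a.rev a.rev := by simpa using key a a.rev
  obtain ⟨hA1, hA2⟩ := corner hT hS hi hn hh
  set A := bl i (h : MT) a a with hA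
  set A' := Φ.adj (bl i (h : MT) a.rev a.rev) with hA'
  have hAc : ∀ X, Commute A (fa i X) := bl_commute i _ _ _
  have hA'c : ∀ X, Commute A' (fa i X) := Φ.adj_commute (bl_commute i _ _ _)
  have hAd : Φ.adj A = Φ.σ l • A' := by rw [hll, Φ.adj_smul]
  have hA'd : Φ.adj A' = l⁻¹ • A := by rw [hA', Φ.adj_adj, hll, inv_smul_smul₀ hl0]
  -- the diagonal part
  let D : Mm := Matrix.of fun x y => if hxy : OnLevi a x y then
    Classical.choose (levi_blocks hT hS hi hn hh hll hl0 hxy) else 0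
  have hD : ∀ x y, OnLevi a x y → bl i (h : MT) x y = D x y • A := fun x y hxy => by
    simp only [D, Matrix.of_apply, dif_pos hxy]
    exact Classical.choose_spec (levi_blocks hT hS hi hn hh hll hl0 hxy)
  have hD0 : ∀ x y, ¬ OnLevi a x y → D x y = 0 := fun x y hxy => by simp [D, hxy]
  let D' : Mm := (Φ.σ l) • Φ.adj1 D
  have hAdjD : Φ.adj (fa i D * A) = fa i D' * A' := by
    rw [Φ.adj_mul, Φ.adj_fa, hAd, Matrix.smul_mul, (hA'c _).eq, map_smul, Matrix.smul_mul]
  -- blocks of the diagonal parts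
  have hgD : ∀ x y, OnLevi a x y → bl i (Φ.adj (h : MT)) x y = D' x y • A' := fun x y hxy => by
    rw [Φ.bl_adj, hD _ _ hxy.swap, Φ.adj_smul, hAd, smul_smul, smul_smul]
    simp [D', Frame.adj1_apply]
    congr 1; ring
  have hD'0 : ∀ x y, ¬ OnLevi a x y → D' x y = 0 := fun x y hxy => by
    simp [D', Frame.adj1_apply, hD0 _ _ (show ¬ OnLevi a y.rev x.rev from fun h' => hxy (by simpa using h'.swap))]
  set g : MT := Φ.adj (h : MT) with hg
  have hgt : TriB i a g := tri_adj ha hh
  have hhg : (h : MT) * g = 1 := by rw [hg, hi.adj_eq, Units.mul_inv]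
  have hone : (1 : MT) ≠ 0 := one_ne_zero
  have hll' : Φ.σ l = l := by
    have h1 : Φ.adj A * Φ.adj A' = 1 := by rw [← Φ.adj_mul, hA1, Φ.adj_one]
    rw [hAd, hA'd, Matrix.smul_mul, Matrix.mul_smul, hA1, smul_smul] at h1
    have h2 : (Φ.σ l * l⁻¹) • (1 : MT) = (1 : F) • 1 := h1.trans (one_smul _ _).symm
    have h3 := smul_left_injective F hone h2
    calc Φ.σ l = Φ.σ l * l⁻¹ * l := (inv_mul_cancel_right₀ hl0 _).symm
      _ = l := by rw [h3, one_mul]
  have hM : fa i D * A * (fa i D' * A') = (1 : MT) := by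
    refine bl_ext i fun x y => ?_
    by_cases hxy : OnLevi a x y
    · rw [← hhg, bl_mul, bl_mul]
      refine Finset.sum_congr rfl fun z _ => ?_
      rw [bl_fa_mul i _ hAc, bl_fa_mul i _ hA'c]
      by_cases h2 : OnLevi a z y
      · rw [hD x z (hxy.trans h2.symm'), hgD z y h2]
      · rw [hD'0 z y h2, zero_smul, mul_zero, term_zero hh hgt hxy.offRad h2]
    · rw [bl_mul, bl_one, if_neg (show x ≠ y from fun e => hxy (e ▸ ⟨Iff.rfl, Iff.rfl⟩))]
      refine Finset.sum_eq_zero fun z _ => ?_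
      rw [bl_fa_mul i _ hAc, bl_fa_mul i _ hA'c]
      by_cases h2 : OnLevi a z y
      · rw [hD0 x z (fun h1 => hxy (h1.trans h2)), zero_smul, zero_mul]
      · rw [hD'0 z y h2, zero_smul, mul_zero]
  have hDD : D * D' = 1 := by
    refine fa_injective (t := t) i ?_
    rw [map_mul, map_one, ← hM, mul_assoc (fa i D), ← mul_assoc A, (hAc D').eq, mul_assoc (fa i D'), hA2, mul_one]
  have hD'D : D' * D = 1 := mul_eq_one_comm.1 hDD
  let δ : GL (Fin k) F := ⟨D, D', hDD, hD'D⟩
  let Au : GL (Fin t → Fin k) F := ⟨A, A', hA2, hA1⟩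
  let Lv : GL (Fin t → Fin k) F := fu i δ * Au
  have hLv : (Lv : MT) = fa i D * A := rfl
  have hLv' : ((Lv⁻¹ : GL (Fin t → Fin k) F) : MT) = A' * fa i D' := rfl
  have hLvi : Φ.Iso Lv := by
    unfold Frame.Iso
    rw [hLv, hAdjD]
    exact mul_eq_one_comm.1 hM
  -- the radical part
  set U : GL (Fin t → Fin k) F := h * Lv⁻¹ with hU
  have hUi : Φ.Iso U := hi.mul _ hLvi.inv
  have hUr : InRad i a (U : MT) := by
    intro x y hxy
    rw [hU, Units.val_mul, hLv', (hA'c D').eq, ← hhg, bl_mul, bl_mul]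
    refine Finset.sum_congr rfl fun z _ => ?_
    rw [bl_fa_mul i _ hA'c]
    by_cases h2 : OnLevi a z y
    · rw [hgD z y h2]
    · rw [hD'0 z y h2, zero_smul, mul_zero, term_zero hh hgt hxy h2]
  have hadjD : Φ.adj1 D = (Φ.σ l)⁻¹ • D' := by simp [D', hll', smul_smul, hl0]
  have hadjD' : Φ.adj1 D' = l • D := by
    simp [D', Φ.adj1_smul, Φ.adj1_adj1, Φ.invol]
  have hUn : Φ.NormRoots G i U := fun r hr => by
    have hconj : Φ.SI (δ⁻¹ * r * δ) := by
      refine ⟨?_, ?_⟩
      · show Φ.adj1 (D' * (r : Mm) * D) * (D' * (r : Mm) * D) = 1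
        rw [Φ.adj1_mul, Φ.adj1_mul, hadjD, hadjD']
        simp only [Matrix.smul_mul, Matrix.mul_smul, smul_smul, mul_assoc]
        rw [← mul_assoc D D', hDD, one_mul, ← mul_assoc (Φ.adj1 (r : Mm)), hr.1, one_mul, hD'D, hll',
          show l * l⁻¹ = 1 from mul_inv_cancel₀ hl0, one_smul]
      · show (D' * (r : Mm) * D).det = 1
        rw [det_mul, det_mul, hr.2, mul_one, ← det_mul, hD'D, det_one]
    have h1 := hn _ hconj
    suffices h * fu i (δ⁻¹ * r * δ) * h⁻¹ = U * fu i r * U⁻¹ by rwa [← this]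
    have hAu : Lv⁻¹ * fu i r * Lv = fu i (δ⁻¹ * r * δ) := Units.ext (by
      show A' * fa i D' * fa i (r : Mm) * (fa i D * A) = fa i (D' * (r : Mm) * D)
      rw [mul_assoc A', ← map_mul, mul_assoc A', ← mul_assoc (fa i (D' * (r : Mm))), ← map_mul,
        ← (hAc _).eq, ← mul_assoc, hA1, one_mul])
    rw [← hAu, hU]
    group
  choose C hC using rad_scalar hT hS hUi hUn hR hUr
  have hUC : (U : MT) = fa i (Matrix.of C) := bl_ext i fun x y => by rw [hC, bl_fa, Matrix.of_apply]
  intro Y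
  refine ⟨Matrix.of C * D * Y * D' * Φ.adj1 (Matrix.of C), ?_⟩
  have e1 : h = U * Lv := by rw [hU, inv_mul_cancel_right]
  have e2 : ((U⁻¹ : GL (Fin t → Fin k) F) : MT) = fa i (Φ.adj1 (Matrix.of C)) := by
    rw [← hUi.adj_eq, hUC, Φ.adj_fa]
  rw [Ad_apply, e1, _root_.mul_inv_rev, Units.val_mul U Lv, Units.val_mul Lv⁻¹ U⁻¹, hLv, hLv', e2, hUC, map_mul, map_mul, map_mul,
    map_mul]
  simp only [mul_assoc]
  rw [← mul_assoc A (fa i Y), (hAc Y).eq, mul_assoc (fa i Y), ← mul_assoc A A', hA2, one_mul]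

end maps

end Frame

end CfsgLib.MaxSub.TensorForm
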