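import Cfsg.Agent.Lib.MaxSub.TensorForm.Decomp

/-!
Long root blocks: closure properties, and a non-scalar one from any non-scalar radical block.
-/

set_option autoImplicit false
set_option maxHeartbeats 1000000
set_option linter.unusedSectionVars false
set_option linter.unusedSimpArgs false

namespace CfsgLib.MaxSub.TensorForm

open Matrix
open CfsgLib.Aschbacher CfsgLib.MaxSub.TensorPow

instance {k : ℕ} (a x : Fin k) : Decidable (Mid a x) := inferInstanceAs (Decidable (x ≠ a ∧ x ≠ a.rev))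

variable {F : Type*} [Field F] {k t : ℕ}

local notation "Mm" => Matrix (Fin k) (Fin k) F
local notation "MT" => Matrix (Fin t → Fin k) (Fin t → Fin k) F
local notation "E[" i "](" a "," b ")" => fa i (Matrix.single a b (1 : F))

variable {Φ : Frame F k} {G : Subgroup (GL (Fin t → Fin k) F)} {i : Fin t} {a : Fin k}

/-- A matrix over a long root position in the group. -/
def IsLong (G : Subgroup (GL (Fin t → Fin k) F)) (i : Fin t) (a : Fin k)
    (Z : Matrix (Fin t → Fin k) (Fin t → Fin k) F) : Prop :=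
  (∀ X, Commute Z (fa i X)) ∧ ∃ g ∈ G, (g : Matrix (Fin t → Fin k) (Fin t → Fin k) F) =
    1 + fa i (Matrix.single a a.rev (1 : F)) * Z

/-- A radical row in the group. -/
def IsRow (G : Subgroup (GL (Fin t → Fin k) F)) (i : Fin t) (a : Fin k)
    (Y : Fin k → Matrix (Fin t → Fin k) (Fin t → Fin k) F) : Prop :=
  ∃ g ∈ G, InRad i a (g : Matrix (Fin t → Fin k) (Fin t → Fin k) F) ∧
    ∀ v, Mid a v → bl i (g : Matrix (Fin t → Fin k) (Fin t → Fin k) F) a v = Y v

/-- Conjugation by an element of another factor and the blocks. -/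
theorem bl_Ad_other {j : Fin t} (hj : j ≠ i) (s : GL (Fin k) F) (g : MT) (x y : Fin k) :
    bl i (Ad (fu j s) g) x y = Ad (fu j s) (bl i g x y) := by
  have h1 : ∀ X, Commute ((fu j s : GL (Fin t → Fin k) F) : MT) (fa i X) := fun X => fa_commute hj _ _
  have h2 : ∀ X, Commute (((fu j s)⁻¹ : GL (Fin t → Fin k) F) : MT) (fa i X) := fun X => (h1 X).units_inv_left
  rw [Ad_apply, Ad_apply, bl_mul_commute i _ h2, commute_mul_bl i _ h1]

theorem Ad_cent {j : Fin t} (hj : j ≠ i) (s : GL (Fin k) F) {Z : MT} (hZ : ∀ X, Commute Z (fa i X)) (X : Mm) :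
    Commute (Ad (fu j s) Z) (fa i X) :=
  ((fa_commute hj _ _).mul_left (hZ X)).mul_left
    (Commute.units_inv_left (u := fu j s) (fa_commute hj _ _))

variable [NeZero k] (hH : Φ.Hyp G) (ha : a ≠ a.rev)

/-- The long root blocks form an additive group. -/
def longGroup (G : Subgroup (GL (Fin t → Fin k) F)) (i : Fin t) {a : Fin k} (ha : a ≠ a.rev) :
    AddSubgroup (Matrix (Fin t → Fin k) (Fin t → Fin k) F) where
  carrier := {Z | IsLong G i a Z}
  zero_mem' := ⟨fun X => Commute.zero_left _, 1, one_mem G, by simp⟩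
  add_mem' := by
    rintro Y Z ⟨hY, g, hg, hgv⟩ ⟨hZ, h, hh, hhv⟩
    refine ⟨fun X => (hY X).add_left (hZ X), g * h, mul_mem hg hh, ?_⟩
    have e : E[i](a, a.rev) * Y * (E[i](a, a.rev) * Z) = 0 := by
      rw [mul_assoc, ← mul_assoc Y, (hY _).eq, mul_assoc, ← mul_assoc, fs_mul, if_neg ha.symm, zero_mul]
    rw [Units.val_mul, hgv, hhv, add_mul, mul_add, mul_add, mul_one, mul_one, one_mul, e, add_zero, mul_add]
    abel
  neg_mem' := by
    rintro Y ⟨hY, g, hg, hgv⟩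
    refine ⟨fun X => (hY X).neg_left, g⁻¹, inv_mem hg, ?_⟩
    have e : g = one_add _ (sq_zero_fs ha hY) := Units.ext hgv
    rw [e]
    show (1 : MT) - _ = _
    rw [mul_neg, sub_eq_add_neg]

theorem long_invariant (hH : Φ.Hyp G) : Invariant Φ i (longGroup G i ha) := by
  refine ⟨fun Z hZ => hZ.1, fun j hj s hs Z hZ => ?_⟩
  obtain ⟨hc, g, hg, hgv⟩ := hZ
  refine ⟨Ad_cent hj s hc, fu j s * g * (fu j s)⁻¹,
    mul_mem (mul_mem (hH.roots j s hs) hg) (inv_mem (hH.roots j s hs)), ?_⟩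
  rw [Units.val_mul, Units.val_mul, hgv, mul_add, add_mul, mul_one, Units.mul_inv, ← Ad_apply, Ad_mul_apply]
  congr 2
  rw [Ad_apply, fu_val, (fa_commute hj _ _).eq, mul_assoc, ← map_inv, fu_val, ← map_mul, Units.mul_inv, map_one,
    mul_one]

namespace IsRow

theorem cent {Y : Fin k → MT} (h : IsRow G i a Y) {v : Fin k} (hv : Mid a v) (X : Mm) : Commute (Y v) (fa i X) := by
  obtain ⟨g, -, -, hgv⟩ := h
  rw [← hgv v hv]
  exact bl_commute _ _ _ _ _

theorem congr {Y Y' : Fin k → MT} (h : IsRow G i a Y) (e : ∀ v, Mid a v → Y v = Y' v) : IsRow G i a Y' := by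
  obtain ⟨g, hg, hr, hv⟩ := h
  exact ⟨g, hg, hr, fun v hv' => (hv v hv').trans (e v hv')⟩

theorem add (ha : a ≠ a.rev) {Y Y' : Fin k → MT} (h : IsRow G i a Y) (h' : IsRow G i a Y') :
    IsRow G i a (Y + Y') := by
  obtain ⟨g, hg, hr, hv⟩ := h
  obtain ⟨g', hg', hr', hv'⟩ := h'
  obtain ⟨hm, hrow, -⟩ := mul_rad ha hr hr'
  exact ⟨g * g', mul_mem hg hg', hm, fun v hmv => by rw [Units.val_mul, hrow v hmv, hv v hmv, hv' v hmv]; rfl⟩

theorem inv_row (ha : a ≠ a.rev) {g : GL (Fin t → Fin k) F} (hi : Φ.Iso g) (hr : InRad i a (g : MT)) :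
    InRad i a ((g⁻¹ : GL (Fin t → Fin k) F) : MT) ∧ ∀ v, Mid a v →
      bl i ((g⁻¹ : GL (Fin t → Fin k) F) : MT) a v = -bl i (g : MT) a v := by
  have hr' : InRad i a ((g⁻¹ : GL (Fin t → Fin k) F) : MT) := hi.adj_eq ▸ Frame.inRad_adj hr
  refine ⟨hr', fun v hv => ?_⟩
  have h1 := (mul_rad ha hr hr').2.1 v hv
  rw [← Units.val_mul, mul_inv_cancel, Units.val_one, bl_one, if_neg hv.1.symm] at h1
  exact (neg_eq_of_add_eq_zero_right h1.symm).symm

theorem neg (hH : Φ.Hyp G) (ha : a ≠ a.rev) {Y : Fin k → MT} (h : IsRow G i a Y) : IsRow G i a (-Y) := by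
  obtain ⟨g, hg, hr, hv⟩ := h
  obtain ⟨hr', hrow⟩ := inv_row ha (hH.iso g hg) hr
  exact ⟨g⁻¹, inv_mem hg, hr', fun v hmv => by rw [hrow v hmv, hv v hmv]; rfl⟩

theorem zero (G : Subgroup (GL (Fin t → Fin k) F)) (i : Fin t) (a : Fin k) :
    IsRow G i a (0 : Fin k → MT) := by
  refine ⟨1, one_mem G, fun x y _ => by simp, fun v hv => ?_⟩
  rw [Units.val_one, bl_one, if_neg hv.1.symm]; rfl

/-- The rows of the factor group. -/
theorem scalar (hH : Φ.Hyp G) (hT : Φ.PointTools a) (c : Fin k → F) : IsRow G i a (fun v => c v • (1 : MT)) := by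
  obtain ⟨s, hs, hsr, hsv⟩ := hT.short c
  exact ⟨fu i s, hH.roots i s hs, inRad_fa hsr, fun v hv => by rw [fu_val, bl_fa, hsv v hv]⟩

theorem conj (hH : Φ.Hyp G) {j : Fin t} (hj : j ≠ i) {s : GL (Fin k) F} (hs : Φ.SI s) {Y : Fin k → MT}
    (h : IsRow G i a Y) : IsRow G i a (fun v => Ad (fu j s) (Y v)) := by
  obtain ⟨g, hg, hr, hv⟩ := h
  refine ⟨fu j s * g * (fu j s)⁻¹, mul_mem (mul_mem (hH.roots j s hs) hg) (inv_mem (hH.roots j s hs)), ?_, ?_⟩
  · intro x y hxy
    rw [Units.val_mul, Units.val_mul, ← Ad_apply, bl_Ad_other hj, hr x y hxy, ← bl_Ad_other hj, Ad_apply, mul_one,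
      Units.mul_inv]
  · intro v hmv
    rw [Units.val_mul, Units.val_mul, ← Ad_apply, bl_Ad_other hj, hv v hmv]

/-- The Levi factor acts on the rows. -/
theorem levi (hH : Φ.Hyp G) (ha : a ≠ a.rev) {Y : Fin k → MT} (h : IsRow G i a Y) {s : GL (Fin k) F}
    (hs : Φ.SI s) (hsl : IsLevi1 a (s : Mm)) :
    IsRow G i a (fun y => (s : Mm) a a •
      ∑ v ∈ Finset.univ.filter (Mid a), ((s⁻¹ : GL (Fin k) F) : Mm) v y • Y v) := by
  classical
  obtain ⟨g, hg, hr, hv⟩ := h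
  have hsi : IsLevi1 a ((s⁻¹ : GL (Fin k) F) : Mm) := Frame.SI.levi_inv hs hsl
  obtain ⟨hm, hrow⟩ := conj_rad ha (tri_fa (i := i) ha hsl) (tri_fa ha hsi)
    (by rw [← map_mul, Units.mul_inv, map_one]) hr
  have e : ((fu i s * g * (fu i s)⁻¹ : GL (Fin t → Fin k) F) : MT) =
      fa i (s : Mm) * (g : MT) * fa i ((s⁻¹ : GL (Fin k) F) : Mm) := by
    rw [Units.val_mul, Units.val_mul, fu_val, ← map_inv, fu_val]
  refine ⟨_, mul_mem (mul_mem (hH.roots i s hs) hg) (inv_mem (hH.roots i s hs)), e ▸ hm, fun y hy => ?_⟩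
  rw [e, hrow y hy, bl_fa, Matrix.smul_mul, one_mul]
  congr 1
  rw [← Finset.sum_subset (Finset.subset_univ (Finset.univ.filter (Mid a))) fun v _ hv' => ?_]
  · refine Finset.sum_congr rfl fun v hv' => ?_
    have hmv : Mid a v := (Finset.mem_filter.1 hv').2
    rw [bl_sub, bl_one, if_neg hmv.1.symm, sub_zero, hv v hmv, bl_fa, Matrix.mul_smul, mul_one]
  · rcases cases3 a v with h' | h' | h'
    · subst h'; rw [hr.sub_one ⟨fun _ => rfl, fun e => absurd e ha⟩, zero_mul]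
    · subst h'
      rw [bl_fa, hsi _ y (fun h => hy.2 (h.2.1 rfl)), zero_smul, mul_zero]
    · exact absurd (Finset.mem_filter.2 ⟨Finset.mem_univ v, h'⟩) hv'

end IsRow

/-- The column of a radical element. -/
theorem rad_col (ha : a ≠ a.rev) {g : GL (Fin t → Fin k) F} (hi : Φ.Iso g) (hr : InRad i a (g : MT))
    {z : Fin k} (hz : Mid a z) :
    bl i (g : MT) z a.rev = -((Φ.sg a * Φ.sg z.rev) • Φ.adj (bl i (g : MT) a z.rev)) := by
  have h1 := (IsRow.inv_row ha hi hr).2 _ hz.rev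
  rw [← hi.adj_eq, Φ.bl_adj, Fin.rev_rev] at h1
  have h2 := congrArg Φ.adj h1
  rw [Φ.adj_smul, Φ.adj_adj, Φ.adj_neg, map_mul, Φ.map_sg, Φ.map_sg] at h2
  have h3 := congrArg (fun M => (Φ.sg a * Φ.sg z.rev) • M) h2
  simp only [smul_smul, smul_neg] at h3
  rwa [show Φ.sg a * Φ.sg z.rev * (Φ.sg a * Φ.sg z.rev) = 1 by
    linear_combination (Φ.sg z.rev * Φ.sg z.rev) * Φ.sg_sq a + Φ.sg_sq z.rev, one_smul] at h3

/-- A radical element with vanishing row is a long root element. -/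
theorem long_of_row_zero (ha : a ≠ a.rev) {g : GL (Fin t → Fin k) F} (hi : Φ.Iso g) (hg : g ∈ G)
    (hr : InRad i a (g : MT)) (h0 : ∀ v, Mid a v → bl i (g : MT) a v = 0) :
    (g : MT) = 1 + E[i](a, a.rev) * bl i (g : MT) a a.rev ∧ IsLong G i a (bl i (g : MT) a a.rev) := by
  have e : (g : MT) = 1 + E[i](a, a.rev) * bl i (g : MT) a a.rev := by
    refine bl_ext i fun x y => ?_
    rw [bl_add, bl_fa_mul i _ (bl_commute i _ _ _), Matrix.single_apply]
    by_cases hxy : OffRad a x y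
    · rw [hr x y hxy, if_neg, zero_smul, add_zero]
      rintro ⟨rfl, rfl⟩
      exact ha (hxy.1 rfl).symm
    by_cases hx : x = a
    · subst hx
      rcases cases3 x y with hy | hy | hy
      · exact absurd ⟨fun _ => hy, fun e => absurd (hy.symm.trans e) ha⟩ hxy
      · subst hy; rw [if_pos ⟨rfl, rfl⟩, one_smul, bl_one, if_neg ha, zero_add]
      · rw [h0 y hy, bl_one, if_neg hy.1.symm, if_neg (fun h => hy.2 h.2.symm), zero_smul, add_zero]
    · have hy : y = a.rev := by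
        by_contra hy; exact hxy ⟨fun e => absurd e hx, fun e => absurd e hy⟩
      subst hy
      rcases cases3 a x with h' | h' | h'
      · exact absurd h' hx
      · exact absurd ⟨fun e => absurd e hx, fun _ => h'⟩ hxy
      · rw [rad_col ha hi hr h', h0 _ h'.rev, Φ.adj_zero, smul_zero, neg_zero, bl_one, if_neg h'.2,
          if_neg (fun h => hx h.1.symm), zero_smul, add_zero]
  exact ⟨e, bl_commute i _ _ _, g, hg, e⟩

/-- The commutator of two rows. -/
theorem IsRow.comm (hH : Φ.Hyp G) (ha : a ≠ a.rev) {Y Y' : Fin k → MT} (h : IsRow G i a Y) (h' : IsRow G i a Y') :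
    IsLong G i a (∑ z ∈ Finset.univ.filter (Mid a),
      (Φ.sg a * Φ.sg z.rev) • (Y' z * Φ.adj (Y z.rev) - Y z * Φ.adj (Y' z.rev))) := by
  classical
  obtain ⟨g, hg, hr, hv⟩ := h
  obtain ⟨g', hg', hr', hv'⟩ := h'
  obtain ⟨h1, h1row, h1c⟩ := mul_rad ha hr hr'
  obtain ⟨h2, h2row, h2c⟩ := mul_rad ha hr' hr
  rw [← Units.val_mul] at h1 h1row h1c h2 h2row h2c
  set u := g * g' * (g' * g)⁻¹ with hu
  have hinv := IsRow.inv_row (Φ := Φ) ha (hH.iso _ (mul_mem hg' hg)) h2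
  obtain ⟨hur, hurow, -⟩ := mul_rad ha h1 hinv.1
  rw [← Units.val_mul, ← hu] at hur hurow
  have hu0 : ∀ v, Mid a v → bl i (u : MT) a v = 0 := fun v hmv => by
    rw [hurow v hmv, h1row v hmv, hinv.2 v hmv, h2row v hmv]; abel
  have huG : u ∈ G := mul_mem (mul_mem hg hg') (inv_mem (mul_mem hg' hg))
  have huv := (mul_rad ha hur h2).2.2
  rw [← Units.val_mul, show u * (g' * g) = g * g' by rw [hu, inv_mul_cancel_right], h1c, h2c,
    Finset.sum_eq_zero (s := Finset.univ) (f := fun z => bl i ((u : MT) - 1) a z *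
      bl i (((g' * g : GL (Fin t → Fin k) F) : MT) - 1) z a.rev) (fun z _ => ?_), add_zero] at huv
  · have hZ := (long_of_row_zero ha (hH.iso u huG) huG hur hu0).2
    have key : ∀ (g g' : GL (Fin t → Fin k) F) (Y Y' : Fin k → MT), Φ.Iso g' → InRad i a (g : MT) →
        InRad i a (g' : MT) → (∀ v, Mid a v → bl i (g : MT) a v = Y v) →
        (∀ v, Mid a v → bl i (g' : MT) a v = Y' v) →
        ∑ z, bl i ((g : MT) - 1) a z * bl i ((g' : MT) - 1) z a.rev =
          -∑ z ∈ Finset.univ.filter (Mid a), (Φ.sg a * Φ.sg z.rev) • (Y z * Φ.adj (Y' z.rev)) := by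
      intro g g' Y Y' hi' hr hr' hv hv'
      rw [← Finset.sum_subset (Finset.subset_univ (Finset.univ.filter (Mid a))) fun z _ hz => ?_]
      · rw [← Finset.sum_neg_distrib]
        refine Finset.sum_congr rfl fun z hz => ?_
        have hmz : Mid a z := (Finset.mem_filter.1 hz).2
        rw [bl_sub, bl_sub, bl_one, bl_one, if_neg hmz.1.symm, if_neg hmz.2, sub_zero, sub_zero,
          rad_col ha hi' hr' hmz, hv z hmz, hv' _ hmz.rev, mul_neg, Matrix.mul_smul]
      · rcases cases3 a z with h' | h' | h'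
        · subst h'; rw [hr.sub_one ⟨fun _ => rfl, fun e => absurd e ha⟩, zero_mul]
        · subst h'; rw [hr'.sub_one ⟨fun e => absurd e ha.symm, fun _ => rfl⟩, mul_zero]
        · exact absurd (Finset.mem_filter.2 ⟨Finset.mem_univ z, h'⟩) hz
    have e : bl i (u : MT) a a.rev = ∑ z ∈ Finset.univ.filter (Mid a),
        (Φ.sg a * Φ.sg z.rev) • (Y' z * Φ.adj (Y z.rev) - Y z * Φ.adj (Y' z.rev)) := by
      rw [key g g' Y Y' (hH.iso g' hg') hr hr' hv hv', key g' g Y' Y (hH.iso g hg) hr' hr hv' hv] at huv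
      simp only [smul_sub, Finset.sum_sub_distrib]
      linear_combination (norm := abel) -huv
    rwa [e] at hZ
  · rcases cases3 a z with h' | h' | h'
    · subst h'; rw [hur.sub_one ⟨fun _ => rfl, fun e => absurd e ha⟩, zero_mul]
    · subst h'; rw [h2.sub_one ⟨fun e => absurd e ha.symm, fun _ => rfl⟩, mul_zero]
    · rw [bl_sub, hu0 z h', bl_one, if_neg h'.1.symm, sub_zero, zero_mul]

/-- The commutator of two rows at opposite indices. -/
theorem IsRow.pair (hH : Φ.Hyp G) (ha : a ≠ a.rev) {x : Fin k} (hx : Mid a x) (hxx : x ≠ x.rev) {P Q : MT}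
    (hP : IsRow G i a (Pi.single x P)) (hQ : IsRow G i a (Pi.single x.rev Q)) :
    IsLong G i a (Q * Φ.adj P - Φ.eps • (P * Φ.adj Q)) := by
  classical
  have h := IsRow.comm hH ha hP hQ
  rw [Finset.sum_eq_add_of_mem x x.rev (Finset.mem_filter.2 ⟨Finset.mem_univ _, hx⟩)
    (Finset.mem_filter.2 ⟨Finset.mem_univ _, hx.rev⟩) hxx (fun z _ hz => by
      rw [Pi.single_eq_of_ne hz.1, Pi.single_eq_of_ne hz.2]; simp), Fin.rev_rev] at h
  simp only [Pi.single_eq_same, Pi.single_eq_of_ne hxx, Pi.single_eq_of_ne hxx.symm, zero_mul, zero_sub, sub_zero,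
    Φ.sg_rev] at h
  have e : (Φ.sg a * (Φ.eps * Φ.sg x)) • -(P * Φ.adj Q) + (Φ.sg a * Φ.sg x) • (Q * Φ.adj P) =
      (Φ.sg a * Φ.sg x) • (Q * Φ.adj P - Φ.eps • (P * Φ.adj Q)) := by module
  rw [e] at h
  rcases mul_self_eq_one_iff.1 (show Φ.sg a * Φ.sg x * (Φ.sg a * Φ.sg x) = 1 by
    linear_combination (Φ.sg x * Φ.sg x) * Φ.sg_sq a + Φ.sg_sq x) with h1 | h1
  · rwa [h1, one_smul] at h
  · rw [h1, neg_one_smul] at h
    exact neg_neg (Q * Φ.adj P - Φ.eps • (P * Φ.adj Q)) ▸ (longGroup G i ha).neg_mem h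

end CfsgLib.MaxSub.TensorForm
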