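import Cfsg.Agent.Lib.MaxSub.TensorForm.Full

/-!
With the whole radical, every isotropic vector moves to the first point of a factor.
-/

set_option autoImplicit false
set_option maxHeartbeats 1000000
set_option linter.unusedSectionVars false
set_option linter.unusedSimpArgs false

namespace CfsgLib.MaxSub.TensorForm

open Matrix
open CfsgLib.Aschbacher CfsgLib.MaxSub.TensorPow

variable {F : Type*} [Field F] {k t : ℕ}

local notation "Mm" => Matrix (Fin k) (Fin k) F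
local notation "MT" => Matrix (Fin t → Fin k) (Fin t → Fin k) F
local notation "E[" i "](" a "," b ")" => fa i (Matrix.single a b (1 : F))

namespace Frame

variable (Φ : Frame F k)

/-- The functional of a vector of the tensor power. -/
def qT (v : (Fin t → Fin k) → F) : (Fin t → Fin k) → F := fun y => Φ.sgT y * Φ.σ (v (Fin.rev ∘ y))

theorem map_sgT (x : Fin t → Fin k) : Φ.σ (Φ.sgT x) = Φ.sgT x := map_sign Φ.sgT_sq x

theorem map_epsT : Φ.σ (Φ.eps ^ t) = Φ.eps ^ t := by rw [map_pow, Φ.map_eps]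

theorem qT_qT (v : (Fin t → Fin k) → F) : Φ.qT (Φ.qT v) = Φ.eps ^ t • v := by
  funext y
  have e : (Fin.rev ∘ (Fin.rev ∘ y)) = y := revT_inv y
  simp only [qT, Pi.smul_apply, smul_eq_mul, map_mul, Φ.invol, Φ.map_sgT, Φ.sgT_rev, Φ.map_epsT, e]
  linear_combination (Φ.eps ^ t * v y) * Φ.sgT_sq y

theorem qT_dot (v w : (Fin t → Fin k) → F) : Φ.qT v ⬝ᵥ w = Φ.eps ^ t * Φ.σ (Φ.qT w ⬝ᵥ v) := by
  simp only [dotProduct, map_sum, Finset.mul_sum]
  refine Fintype.sum_equiv (Function.Involutive.toPerm _ revT_inv) _ _ fun y => ?_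
  have e : (Fin.rev ∘ (Fin.rev ∘ y)) = y := revT_inv y
  simp only [Function.Involutive.coe_toPerm, qT, map_mul, Φ.invol, Φ.map_sgT, e]
  rw [Φ.sgT_rev]
  linear_combination (-(Φ.σ (v (Fin.rev ∘ y)) * Φ.sgT y * w y)) * (Φ.epsT_sq (t := t))

theorem qT_smul (c : F) (v : (Fin t → Fin k) → F) : Φ.qT (c • v) = Φ.σ c • Φ.qT v := by
  funext y; simp [qT, mul_left_comm]

theorem qT_add (v w : (Fin t → Fin k) → F) : Φ.qT (v + w) = Φ.qT v + Φ.qT w := by
  funext y; simp [qT, mul_add]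

theorem qT_neg (v : (Fin t → Fin k) → F) : Φ.qT (-v) = -Φ.qT v := by
  funext y; simp [qT]

theorem adj_vecMulVec (v φ : (Fin t → Fin k) → F) :
    Φ.adj (vecMulVec v φ) = vecMulVec (Φ.qT φ) (Φ.qT v) := by
  ext x y
  simp only [adj, adjOf_apply, vecMulVec_apply, map_mul, qT]
  ring

theorem qT_mulVec (A : MT) (v : (Fin t → Fin k) → F) : Φ.qT (A *ᵥ v) = Φ.qT v ᵥ* Φ.adj A := by
  funext y
  simp only [qT, Matrix.mulVec, Matrix.vecMul, dotProduct, map_sum, Finset.mul_sum]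
  refine Fintype.sum_equiv (Function.Involutive.toPerm _ revT_inv) _ _ fun z => ?_
  have e : (Fin.rev ∘ (Fin.rev ∘ z)) = z := revT_inv z
  simp only [Function.Involutive.coe_toPerm, adj, adjOf_apply, map_mul, e]
  linear_combination (-(Φ.sgT y * Φ.σ (A (Fin.rev ∘ y) z) * Φ.σ (v z))) * Φ.sgT_sq (Fin.rev ∘ z)

theorem qT_iso {g : GL (Fin t → Fin k) F} (hg : Φ.Iso g) (v : (Fin t → Fin k) → F) :
    Φ.qT ((g : MT) *ᵥ v) = Φ.qT v ᵥ* ((g⁻¹ : GL (Fin t → Fin k) F) : MT) := by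
  rw [qT_mulVec, hg.adj_eq]

theorem iso_isotropic {g : GL (Fin t → Fin k) F} (hg : Φ.Iso g) {v : (Fin t → Fin k) → F}
    (hv : Φ.qT v ⬝ᵥ v = 0) : Φ.qT ((g : MT) *ᵥ v) ⬝ᵥ ((g : MT) *ᵥ v) = 0 := by
  rw [Φ.qT_iso hg, ← Matrix.dotProduct_mulVec, Matrix.mulVec_mulVec, Units.inv_mul, Matrix.one_mulVec, hv]

end Frame

/-- The component of a vector at an index of a factor, moved to the base index. -/
noncomputable def comp (i : Fin t) (a x : Fin k) (v : (Fin t → Fin k) → F) : (Fin t → Fin k) → F :=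
  E[i](a, x) *ᵥ v

variable {i : Fin t} {a : Fin k}

theorem comp_mulVec (g : MT) (v : (Fin t → Fin k) → F) (x : Fin k) :
    comp i a x (g *ᵥ v) = ∑ y, bl i g x y *ᵥ comp i a y v := by
  simp only [comp, Matrix.mulVec_mulVec, ← Matrix.sum_mulVec]
  congr 1
  have e : ∀ y, bl i g x y * E[i](a, y) = E[i](a, x) * g * E[i](y, y) := fun y => by
    rw [bl, Finset.sum_mul, Finset.sum_eq_single a]
    · rw [mul_assoc, fs_mul, if_pos rfl]
    · intro r _ hr; rw [mul_assoc, fs_mul, if_neg hr, mul_zero]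
    · simp
  simp only [e, ← Finset.mul_sum, fs_sum, mul_one]

theorem comp_comp (y z : Fin k) (v : (Fin t → Fin k) → F) (x : Fin k) :
    comp i a x (E[i](y, z) *ᵥ v) = if x = y then comp i a z v else 0 := by
  rw [comp, Matrix.mulVec_mulVec, fs_mul]
  split <;> simp [comp]

theorem comp_base (x : Fin k) (v : (Fin t → Fin k) → F) : E[i](a, a) *ᵥ comp i a x v = comp i a x v := by
  rw [comp, Matrix.mulVec_mulVec, fs_mul, if_pos rfl]

theorem vec_eq_sum (v : (Fin t → Fin k) → F) : v = ∑ x, E[i](x, a) *ᵥ comp i a x v := by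
  simp [comp, Matrix.mulVec_mulVec, fs_mul, ← Matrix.sum_mulVec, fs_sum]

variable {Φ : Frame F k}

/-- A matrix centralising the factor mapping one vector to another. -/
theorem exists_cent_map {u b : (Fin t → Fin k) → F} (hu : u ≠ 0) (hua : E[i](a, a) *ᵥ u = u)
    (hba : E[i](a, a) *ᵥ b = b) : ∃ P : MT, (∀ X, Commute P (fa i X)) ∧ P *ᵥ u = b := by
  classical
  obtain ⟨z, hz⟩ := Function.ne_iff.1 hu
  refine ⟨bl i (vecMulVec b (Pi.single z (u z)⁻¹)) a a, bl_commute i _ _ _, ?_⟩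
  rw [bl, Matrix.sum_mulVec, Finset.sum_eq_single a]
  · rw [← Matrix.mulVec_mulVec, ← Matrix.mulVec_mulVec, hua, Matrix.vecMulVec_mulVec, single_dotProduct]
    have h1 : (u z)⁻¹ * u z = 1 := inv_mul_cancel₀ hz
    simp [h1, hba]
  · intro r _ hr
    rw [← hua, ← Matrix.mulVec_mulVec, Matrix.mulVec_mulVec _ _ (E[i](a, a)), fs_mul, if_neg hr,
      Matrix.zero_mulVec, Matrix.mulVec_zero]
  · simp

/-- A skew matrix centralising the factor mapping one vector to another. -/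
theorem exists_skew_map {u b : (Fin t → Fin k) → F} (hu : u ≠ 0) (hua : E[i](a, a) *ᵥ u = u)
    (hba : E[i](a, a) *ᵥ b = b)
    (hiso : Φ.qT b ⬝ᵥ (E[i](a.rev, a) *ᵥ u) + Φ.eps ^ t * Φ.σ (Φ.qT b ⬝ᵥ (E[i](a.rev, a) *ᵥ u)) = 0) :
    ∃ Z : MT, (∀ X, Commute Z (fa i X)) ∧ Φ.eps • Φ.adj Z + Z = 0 ∧ Z *ᵥ u = b := by
  classical
  obtain ⟨z, hz⟩ := Function.ne_iff.1 hu
  set μ : F := Φ.qT b ⬝ᵥ (E[i](a.rev, a) *ᵥ u)
  set φ : (Fin t → Fin k) → F := Pi.single z (u z)⁻¹ ᵥ* E[i](a, a) with hφ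
  set ψ : (Fin t → Fin k) → F := E[i](a, a.rev) *ᵥ Φ.qT φ with hψ
  set P : MT := bl i (vecMulVec b φ) a a with hP
  set R : MT := bl i (vecMulVec ψ φ) a a with hR
  have hφu : φ ⬝ᵥ u = 1 := by
    rw [hφ, ← Matrix.dotProduct_mulVec, hua, single_dotProduct, inv_mul_cancel₀ hz]
  have hact : ∀ (M : MT) (p q : Fin k), bl i M p q *ᵥ u = E[i](a, p) *ᵥ (M *ᵥ (E[i](q, a) *ᵥ u)) := by
    intro M p q
    rw [bl, Matrix.sum_mulVec, Finset.sum_eq_single a]
    · rw [← Matrix.mulVec_mulVec, ← Matrix.mulVec_mulVec]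
    · intro r _ hr
      rw [← hua, ← Matrix.mulVec_mulVec, Matrix.mulVec_mulVec _ _ (E[i](a, a)), fs_mul, if_neg hr,
        Matrix.zero_mulVec, Matrix.mulVec_zero]
    · simp
  have hPu : P *ᵥ u = b := by
    rw [hP, hact, hua, Matrix.vecMulVec_mulVec, hφu]
    simp [hba]
  have hψa : E[i](a, a) *ᵥ ψ = ψ := by rw [hψ, Matrix.mulVec_mulVec, fs_mul, if_pos rfl]
  have hRu : R *ᵥ u = ψ := by
    rw [hR, hact, hua, Matrix.vecMulVec_mulVec, hφu]
    simp [hψa]
  have hadj : ∀ M : MT, Φ.adj (bl i M a a) = bl i (Φ.adj M) a.rev a.rev := fun M => by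
    rw [Φ.bl_adj, Fin.rev_rev, Φ.sg_sq, one_smul]
  have hPd : Φ.adj P *ᵥ u = μ • ψ := by
    rw [hP, hadj, hact, Φ.adj_vecMulVec, Matrix.vecMulVec_mulVec]
    simp [hψ, Matrix.mulVec_smul, μ]
  have hRd : Φ.adj R = (Φ.eps * Φ.eps ^ t) • R := by
    rw [hR, hadj, Φ.adj_vecMulVec, hψ, Φ.qT_mulVec, Φ.qT_qT, Φ.adj_fa, Φ.adj1_long, map_one, mul_one,
      show Matrix.single a a.rev Φ.eps = Φ.eps • Matrix.single a a.rev (1 : F) by simp, map_smul, bl, bl,
      Finset.smul_sum]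
    refine Finset.sum_congr rfl fun r _ => ?_
    simp only [Matrix.mul_vecMulVec, Matrix.vecMulVec_mul, Matrix.mulVec_mulVec, Matrix.vecMul_vecMul,
      Matrix.smul_vecMul, Matrix.vecMul_smul, Matrix.smul_mul, Matrix.mul_smul, vecMulVec_smul, smul_smul, fs_mul, if_true]
  refine ⟨P - Φ.eps • Φ.adj P + (Φ.eps * μ) • R, ?_, ?_, ?_⟩
  · exact fun X => ((bl_commute i _ _ _ X).sub_left ((Φ.adj_commute (bl_commute i _ _ _) X).smul_left _)).add_left
      ((bl_commute i _ _ _ X).smul_left _)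
  · rw [Φ.adj_add, Φ.adj_sub, Φ.adj_smul, Φ.adj_smul, Φ.adj_adj, hRd, map_mul, Φ.map_eps]
    have h := hiso
    simp only [smul_add, smul_sub, smul_smul, Φ.eps_sq, one_smul]
    rw [show Φ.eps * (Φ.eps * Φ.σ μ * (Φ.eps * Φ.eps ^ t)) = -(Φ.eps * μ) by
      linear_combination (Φ.eps * Φ.σ μ * Φ.eps ^ t) * Φ.eps_sq + Φ.eps * h, neg_smul]
    abel
  · rw [Matrix.add_mulVec, Matrix.sub_mulVec, Matrix.smul_mulVec, Matrix.smul_mulVec, hPu, hPd, hRu, smul_smul,
      sub_add_cancel]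

variable {G : Subgroup (GL (Fin t → Fin k) F)} [NeZero k]

/-- The whole radical of a point of a factor is in the group. -/
structure FullRad (Φ : Frame F k) (G : Subgroup (GL (Fin t → Fin k) F)) (i : Fin t) (a : Fin k) : Prop where
  rows : ∀ Y : Fin k → Matrix (Fin t → Fin k) (Fin t → Fin k) F,
    (∀ v, Mid a v → ∀ X, Commute (Y v) (fa i X)) → IsRow G i a Y
  long : ∀ Z : Matrix (Fin t → Fin k) (Fin t → Fin k) F,
    (∀ X, Commute Z (fa i X)) → Φ.eps • Φ.adj Z + Z = 0 → IsLong G i a Z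

/-- The Weyl element on the components. -/
theorem weyl_comp {γ : F} {W : GL (Fin k) F} (ha : a ≠ a.rev)
    (h1 : (W : Mm) *ᵥ Pi.single a 1 = Pi.single a.rev (-γ⁻¹))
    (h2 : (W : Mm) *ᵥ Pi.single a.rev 1 = Pi.single a γ)
    (h3 : ∀ m, Mid a m → (W : Mm) *ᵥ Pi.single m 1 = Pi.single m 1) (w : (Fin t → Fin k) → F) :
    comp i a a (fa i (W : Mm) *ᵥ w) = γ • comp i a a.rev w ∧
      comp i a a.rev (fa i (W : Mm) *ᵥ w) = (-γ⁻¹) • comp i a a w ∧
      ∀ z, Mid a z → comp i a z (fa i (W : Mm) *ᵥ w) = comp i a z w := by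
  have e : ∀ x y, (W : Mm) x y = ((W : Mm) *ᵥ Pi.single y 1) x := fun x y => by
    rw [Matrix.mulVec_single_one]; rfl
  refine ⟨?_, ?_, fun z hz => ?_⟩ <;>
    rw [comp_mulVec] <;> simp only [bl_fa, Matrix.smul_mulVec, Matrix.one_mulVec]
  · rw [Finset.sum_eq_single a.rev, e, h2, Pi.single_eq_same]
    · intro y _ hy
      rcases cases3 a y with rfl | rfl | hy'
      · rw [e, h1, Pi.single_eq_of_ne ha, zero_smul]
      · exact absurd rfl hy
      · rw [e, h3 y hy', Pi.single_eq_of_ne hy'.1.symm, zero_smul]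
    · simp
  · rw [Finset.sum_eq_single a, e, h1, Pi.single_eq_same]
    · intro y _ hy
      rcases cases3 a y with rfl | rfl | hy'
      · exact absurd rfl hy
      · rw [e, h2, Pi.single_eq_of_ne ha.symm, zero_smul]
      · rw [e, h3 y hy', Pi.single_eq_of_ne hy'.2.symm, zero_smul]
    · simp
  · rw [Finset.sum_eq_single z, e, h3 z hz, Pi.single_eq_same, one_smul]
    · intro y _ hy
      rcases cases3 a y with rfl | rfl | hy'
      · rw [e, h1, Pi.single_eq_of_ne hz.2, zero_smul]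
      · rw [e, h2, Pi.single_eq_of_ne hz.1, zero_smul]
      · rw [e, h3 y hy', Pi.single_eq_of_ne (Ne.symm hy), zero_smul]
    · simp

/-- Isotropy of a vector with two components. -/
theorem iso_two (ha : a ≠ a.rev) {p u : (Fin t → Fin k) → F} (hp : E[i](a, a) *ᵥ p = p)
    (h0 : Φ.qT (p + E[i](a.rev, a) *ᵥ u) ⬝ᵥ (p + E[i](a.rev, a) *ᵥ u) = 0) :
    Φ.qT (-p) ⬝ᵥ (E[i](a.rev, a) *ᵥ u) + Φ.eps ^ t * Φ.σ (Φ.qT (-p) ⬝ᵥ (E[i](a.rev, a) *ᵥ u)) = 0 := by
  set q := E[i](a.rev, a) *ᵥ u with hq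
  have hz : ∀ (x : Fin k) (w w' : (Fin t → Fin k) → F), x ≠ x.rev → E[i](x, x) *ᵥ w = w →
      E[i](x, x) *ᵥ w' = w' → Φ.qT w ⬝ᵥ w' = 0 := by
    intro x w w' hx hw hw'
    rw [← hw, ← hw', Φ.qT_mulVec, Φ.adj_fa, Φ.adj1_single, map_one, mul_one, Φ.sg_sq, ← Matrix.dotProduct_mulVec,
      Matrix.mulVec_mulVec, fs_mul, if_neg hx.symm, Matrix.zero_mulVec, dotProduct_zero]
  rw [Φ.qT_add, add_dotProduct, dotProduct_add, dotProduct_add,
    hz a p p ha hp hp,
    hz a.rev q q (by rw [Fin.rev_rev]; exact ha.symm) (by rw [hq, Matrix.mulVec_mulVec, fs_mul, if_pos rfl])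
      (by rw [hq, Matrix.mulVec_mulVec, fs_mul, if_pos rfl]), zero_add, add_zero, Φ.qT_dot q p] at h0
  rw [Φ.qT_neg, neg_dotProduct, map_neg, mul_neg, ← neg_add, h0, neg_zero]

/-- A vector of an invariant set moves to the first point, if long root elements of the group clear the component
at the point of the vectors with two components. -/
theorem exists_move_of (hH : Φ.Hyp G) (ha : a ≠ a.rev) {γ : F} (hγ : γ ≠ 0) (hL : Φ.Lng γ)
    (hrows : ∀ Y : Fin k → MT, (∀ v, Mid a v → ∀ X, Commute (Y v) (fa i X)) → IsRow G i a Y)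
    (S : ((Fin t → Fin k) → F) → Prop) (hS : ∀ g ∈ G, ∀ v, S v → S ((g : MT) *ᵥ v))
    (hkill : ∀ p u, E[i](a, a) *ᵥ p = p → E[i](a, a) *ᵥ u = u → u ≠ 0 → S (p + E[i](a.rev, a) *ᵥ u) →
      ∃ Z : MT, Z *ᵥ u = -p ∧ IsLong G i a Z)
    {v : (Fin t → Fin k) → F} (hv : S v) :
    ∃ g ∈ G, E[i](a, a) *ᵥ ((g : MT) *ᵥ v) = (g : MT) *ᵥ v := by
  classical
  obtain ⟨W, hW, h1, h2, h3, h4, h5, h6⟩ := Φ.exists_weyl ha hγ hL
  have hWG : fu i W ∈ G := hH.roots i W hW
  have hWc := fun w : (Fin t → Fin k) → F => weyl_comp (i := i) ha h1 h2 h3 w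
  -- with a component at the opposite point
  have main : ∀ v : (Fin t → Fin k) → F, S v → comp i a a.rev v ≠ 0 →
      ∃ g ∈ G, E[i](a, a) *ᵥ ((g : MT) *ᵥ v) = (g : MT) *ᵥ v := by
    intro v hv hu
    set u := comp i a a.rev v with hudef
    choose Q hQc hQu using fun z => exists_cent_map (b := -comp i a z v) hu (comp_base _ v)
      (by rw [Matrix.mulVec_neg, comp_base])
    obtain ⟨g, hg, hr, hgv⟩ := hrows (fun w => (-(Φ.sg a * Φ.sg w)) • Φ.adj (Q w.rev))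
      fun w _ X => (Φ.adj_commute (hQc _) X).smul_left _
    set v1 := (g : MT) *ᵥ v with hv1
    have hc1 : comp i a a.rev v1 = u := by
      rw [hv1, comp_mulVec, Finset.sum_eq_single a.rev, hr _ _ ⟨fun h => h, fun h => h⟩, bl_one, if_pos rfl,
        Matrix.one_mulVec]
      · intro y _ hy
        rw [hr _ _ ⟨fun h => absurd h ha.symm, fun h => absurd h hy⟩, bl_one, if_neg (Ne.symm hy),
          Matrix.zero_mulVec]
      · simp
    have hc2 : ∀ z, Mid a z → comp i a z v1 = 0 := by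
      intro z hz
      rw [hv1, comp_mulVec, Finset.sum_eq_add z a.rev hz.2, hr z z ⟨fun h => h, fun h => h⟩, bl_one, if_pos rfl,
        Matrix.one_mulVec, rad_col ha (hH.iso g hg) hr hz, hgv _ hz.rev]
      simp only [Fin.rev_rev]
      rw [ Φ.adj_smul, Φ.adj_adj,
        map_neg, map_mul, Φ.map_sg, Φ.map_sg, smul_smul,
        show Φ.sg a * Φ.sg z.rev * -(Φ.sg a * Φ.sg z.rev) = -1 by
          linear_combination (-(Φ.sg z.rev * Φ.sg z.rev)) * Φ.sg_sq a - Φ.sg_sq z.rev,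
        neg_one_smul, neg_neg, hQu, add_neg_cancel]
      · intro y _ hy
        rw [hr _ _ ⟨fun h => absurd h hz.1, fun h => absurd h hy.2⟩, bl_one, if_neg (Ne.symm hy.1),
          Matrix.zero_mulVec]
      · simp
      · simp
    set b := -comp i a a v1 with hb
    have hdecomp : v1 = comp i a a v1 + E[i](a.rev, a) *ᵥ u := by
      conv_lhs => rw [vec_eq_sum (i := i) (a := a) v1]
      rw [Finset.sum_eq_add a a.rev ha, comp_base, hc1]
      · intro y _ hy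
        rw [hc2 y hy, Matrix.mulVec_zero]
      · simp
      · simp
    obtain ⟨Z, hZu, hZc, g', hg', hg'v⟩ := hkill _ u (comp_base _ v1) (comp_base _ v) hu
      (show S (comp i a a v1 + E[i](a.rev, a) *ᵥ u) from hdecomp ▸ hS g hg v hv)
    set v2 := (g' : MT) *ᵥ v1 with hv2
    have hbl : ∀ x y, bl i (g' : MT) x y = (if x = y then 1 else 0) + (if a = x ∧ a.rev = y then Z else 0) := by
      intro x y
      rw [hg'v, bl_add, bl_one, bl_fa_mul i _ hZc, Matrix.single_apply]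
      congr 1
      split <;> simp
    have hd : ∀ z, z ≠ a → comp i a z v2 = comp i a z v1 := by
      intro z hz
      rw [hv2, comp_mulVec, Finset.sum_eq_single z, hbl, if_pos rfl, if_neg (fun h => hz h.1.symm), add_zero,
        Matrix.one_mulVec]
      · intro y _ hy
        rw [hbl, if_neg (Ne.symm hy), if_neg (fun h => hz h.1.symm), add_zero, Matrix.zero_mulVec]
      · simp
    have hda : comp i a a v2 = 0 := by
      rw [hv2, comp_mulVec, Finset.sum_eq_add a a.rev ha, hbl, hbl, if_pos rfl, if_neg (fun h => ha h.2.symm),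
        if_neg ha, if_pos ⟨rfl, rfl⟩, add_zero, zero_add, Matrix.one_mulVec, hc1, hZu, add_neg_cancel]
      · intro y _ hy
        rw [hbl, if_neg (Ne.symm hy.1), if_neg (fun h => hy.2 h.2.symm), add_zero, Matrix.zero_mulVec]
      · simp
      · simp
    refine ⟨fu i W * g' * g, mul_mem (mul_mem hWG hg') hg, ?_⟩
    rw [Units.val_mul, Units.val_mul, ← Matrix.mulVec_mulVec, ← Matrix.mulVec_mulVec, ← hv1, ← hv2]
    obtain ⟨w1, w2, w3⟩ := hWc v2
    rw [fu_val]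
    generalize hw : fa i (W : Mm) *ᵥ v2 = v3 at w1 w2 w3 ⊢
    conv_rhs => rw [vec_eq_sum (i := i) (a := a) v3]
    rw [Finset.sum_eq_single a, comp_base]
    · rw [comp]
    · intro y _ hy
      rcases cases3 a y with rfl | rfl | hy'
      · exact absurd rfl hy
      · rw [w2, hda, smul_zero, Matrix.mulVec_zero]
      · rw [w3 y hy', hd y hy'.1, hc2 y hy', Matrix.mulVec_zero]
    · simp
  by_cases h0 : comp i a a.rev v = 0
  swap
  · exact main v hv h0
  by_cases h1 : ∀ z, Mid a z → comp i a z v = 0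
  · refine ⟨1, one_mem G, ?_⟩
    rw [Units.val_one, Matrix.one_mulVec]
    conv_rhs => rw [vec_eq_sum (i := i) (a := a) v]
    rw [Finset.sum_eq_single a, comp_base]
    · rw [comp]
    · intro y _ hy
      rcases cases3 a y with rfl | rfl | hy'
      · exact absurd rfl hy
      · rw [h0, Matrix.mulVec_zero]
      · rw [h1 y hy', Matrix.mulVec_zero]
    · simp
  push Not at h1
  obtain ⟨z, hz, hzv⟩ := h1
  -- a nonzero component at the point
  obtain ⟨g, hg, hga⟩ : ∃ g ∈ G, comp i a a ((g : MT) *ᵥ v) ≠ 0 := by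
    by_cases haa : comp i a a v = 0
    swap
    · exact ⟨1, one_mem G, by rwa [Units.val_one, Matrix.one_mulVec]⟩
    obtain ⟨g, hg, hr, hgv⟩ := hrows (fun w => if w = z then 1 else 0) fun w _ X => by
      split
      · exact Commute.one_left _
      · exact Commute.zero_left _
    refine ⟨g, hg, ?_⟩
    rw [comp_mulVec, Finset.sum_eq_single z, hgv z hz]
    simp only [↓reduceIte, Matrix.one_mulVec]
    · exact hzv
    · intro y _ hy
      rcases cases3 a y with rfl | rfl | hy'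
      · rw [haa, Matrix.mulVec_zero]
      · rw [h0, Matrix.mulVec_zero]
      · rw [hgv y hy']; simp [hy]
    · simp
  obtain ⟨g', hg', h⟩ := main (fa i (W : Mm) *ᵥ ((g : MT) *ᵥ v))
    (fu_val i W ▸ hS _ hWG _ (hS g hg v hv))
    (by rw [(hWc _).2.1]; exact smul_ne_zero (neg_ne_zero.2 (inv_ne_zero hγ)) hga)
  refine ⟨g' * fu i W * g, mul_mem (mul_mem hg' hWG) hg, ?_⟩
  rwa [Units.val_mul, Units.val_mul, fu_val, ← Matrix.mulVec_mulVec, ← Matrix.mulVec_mulVec]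

/-- An isotropic vector moves to the first point. -/
theorem exists_move (hH : Φ.Hyp G) (ha : a ≠ a.rev) {γ : F} (hγ : γ ≠ 0) (hL : Φ.Lng γ)
    (hF : FullRad Φ G i a) {v : (Fin t → Fin k) → F} (hv : Φ.qT v ⬝ᵥ v = 0) :
    ∃ g ∈ G, E[i](a, a) *ᵥ ((g : MT) *ᵥ v) = (g : MT) *ᵥ v := by
  refine exists_move_of hH ha hγ hL hF.rows (fun v => Φ.qT v ⬝ᵥ v = 0)
    (fun g hg v hv => Φ.iso_isotropic (hH.iso g hg) hv) (fun p u hp hu hu0 h0 => ?_) hv
  obtain ⟨Z, hZc, hZs, hZu⟩ := exists_skew_map hu0 hu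
    (show E[i](a, a) *ᵥ (-p) = -p by rw [Matrix.mulVec_neg, hp]) (iso_two ha hp h0)
  exact ⟨Z, hZu, hF.long Z hZc hZs⟩

/-- All transvections are in the group. -/
theorem transvection_mem (hH : Φ.Hyp G) (ha : a ≠ a.rev) {γ : F} (hγ : γ ≠ 0) (hL : Φ.Lng γ)
    (hF : FullRad Φ G i a) {v : (Fin t → Fin k) → F} (hv : Φ.qT v ⬝ᵥ v = 0) {c : F}
    (hc : c + Φ.eps ^ t * Φ.σ c = 0) : ∃ g ∈ G, (g : MT) = 1 + c • vecMulVec v (Φ.qT v) := by
  obtain ⟨g, hg, hgw⟩ := exists_move hH ha hγ hL hF hv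
  set w := (g : MT) *ᵥ v with hw
  set Z : MT := c • bl i (vecMulVec w (Φ.qT w)) a a.rev with hZ
  have hM : c • vecMulVec w (Φ.qT w) = E[i](a, a.rev) * Z := by
    rw [hZ, Matrix.mul_smul]
    congr 1
    have h : vecMulVec w (Φ.qT w) = E[i](a, a) * vecMulVec w (Φ.qT w) * E[i](a.rev, a.rev) := by
      rw [Matrix.mul_vecMulVec, Matrix.vecMulVec_mul, hgw]
      congr 1
      conv_lhs => rw [← hgw, Φ.qT_mulVec, Φ.adj_fa, Φ.adj1_single, map_one, mul_one, Φ.sg_sq]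
    rw [bl, Finset.mul_sum, Finset.sum_eq_single a.rev]
    · rw [← mul_assoc, ← mul_assoc, fs_mul, if_pos rfl, ← h]
    · intro r _ hr; rw [← mul_assoc, ← mul_assoc, fs_mul, if_neg (Ne.symm hr), zero_mul, zero_mul]
    · simp
  have hskew : Φ.eps • Φ.adj Z + Z = 0 := by
    rw [hZ]
    have e := Φ.bl_adj i (vecMulVec w (Φ.qT w)) a a.rev
    rw [Fin.rev_rev, Φ.adj_vecMulVec, Φ.qT_qT, Matrix.smul_vecMulVec, bl_smul] at e
    have e2 : Φ.adj (bl i (vecMulVec w (Φ.qT w)) a a.rev) =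
        (Φ.sg a * Φ.sg a.rev * Φ.eps ^ t) • bl i (vecMulVec w (Φ.qT w)) a a.rev := by
      rw [mul_smul (Φ.sg a * Φ.sg a.rev), e, smul_smul,
        show Φ.sg a * Φ.sg a.rev * (Φ.sg a * Φ.sg a.rev) = 1 by
          linear_combination (Φ.sg a.rev * Φ.sg a.rev) * Φ.sg_sq a + Φ.sg_sq a.rev, one_smul]
    rw [Φ.adj_smul, e2, Φ.sg_rev, smul_smul, smul_smul, ← add_smul,
      show Φ.eps * Φ.σ c * (Φ.sg a * (Φ.eps * Φ.sg a) * Φ.eps ^ t) + c = 0 by
        linear_combination hc + (Φ.σ c * Φ.eps ^ t * Φ.eps * Φ.eps) * Φ.sg_sq a +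
          (Φ.σ c * Φ.eps ^ t) * Φ.eps_sq, zero_smul]
  obtain ⟨-, h, hh, hhv⟩ := hF.long Z (fun X => (bl_commute i _ _ _ X).smul_left c) hskew
  refine ⟨g⁻¹ * h * g, mul_mem (mul_mem (inv_mem hg) hh) hg, ?_⟩
  rw [Units.val_mul, Units.val_mul, hhv, ← hM, mul_add, add_mul, mul_one, Units.inv_mul, Matrix.mul_smul,
    Matrix.smul_mul, Matrix.mul_vecMulVec, Matrix.vecMulVec_mul, hw, Φ.qT_iso (hH.iso g hg),
    Matrix.mulVec_mulVec, Units.inv_mul, Matrix.one_mulVec, Matrix.vecMul_vecMul, Units.inv_mul,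
    Matrix.vecMul_one]

end CfsgLib.MaxSub.TensorForm
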