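import Cfsg.Agent.Lib.MaxSub.TensorForm.Long

/-!
A non-scalar radical block gives a non-scalar long root block.
-/

set_option autoImplicit false
set_option maxHeartbeats 1000000
set_option linter.unusedSectionVars false
set_option linter.unusedSimpArgs false

namespace CfsgLib.MaxSub.TensorForm

open Matrix
open CfsgLib.Aschbacher CfsgLib.MaxSub.TensorPow

variable {F : Type*} [Field F] {k t : ℕ}

local notation "Mm" => Matrix (Fin k) (Fin k) F
local notation "MT" => Matrix (Fin t → Fin k) (Fin t → Fin k) F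
local notation "E[" i "](" a "," b ")" => fa i (Matrix.single a b (1 : F))

/-- Scalars pull out of a pure tensor. -/
theorem pureMat_smul (d : Fin t → F) (X : Fin t → Mm) :
    pureMat (fun j => d j • X j) = (∏ j, d j) • pureMat X := by
  ext x y
  simp [pureMat_apply, Finset.prod_mul_distrib]

theorem Ad_pureGL (A : Fin t → GL (Fin k) F) (X : Fin t → Mm) :
    Ad (pureGL A) (pureMat X) =
      pureMat fun j => (A j : Mm) * X j * (((A j)⁻¹ : GL (Fin k) F) : Mm) := by
  rw [Ad_apply, pureGL_inv]
  show pureMat _ * _ * pureMat _ = _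
  rw [pureMat_mul, pureMat_mul]
  rfl

theorem pureMat_diag (X : Fin t → Mm) (x : Fin t → Fin k) : pureMat X x x = ∏ j, X j (x j) (x j) :=
  pureMat_apply X x x

variable {Φ : Frame F k} {G : Subgroup (GL (Fin t → Fin k) F)} {i : Fin t} {a : Fin k} [NeZero k]

/-- The commutator of a row with a scalar row. -/
theorem IsRow.comm_scalar (hH : Φ.Hyp G) (hT : Φ.PointTools a) {Y : Fin k → MT} (h : IsRow G i a Y) {v : Fin k}
    (hv : Mid a v) (c : F) : IsLong G i a (c • Φ.adj (Y v) - (Φ.eps * Φ.σ c) • Y v) := by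
  classical
  have ha := hT.ne
  have h1 := IsRow.comm hH ha h (IsRow.scalar (i := i) hH hT (Pi.single v.rev c))
  have e : (∑ z ∈ Finset.univ.filter (Mid a), (Φ.sg a * Φ.sg z.rev) •
      ((Pi.single v.rev c : Fin k → F) z • (1 : MT) * Φ.adj (Y z.rev) -
        Y z * Φ.adj ((Pi.single v.rev c : Fin k → F) z.rev • (1 : MT)))) =
      (Φ.sg a * Φ.sg v) • (c • Φ.adj (Y v) - (Φ.eps * Φ.σ c) • Y v) := by
    simp only [smul_sub, Finset.sum_sub_distrib]
    rw [Finset.sum_eq_single v.rev, Finset.sum_eq_single v]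
    · simp only [Pi.single_eq_same, Fin.rev_rev]
      rw [Φ.adj_smul, Φ.adj_one, Φ.sg_rev,
        Matrix.smul_mul, one_mul, Matrix.mul_smul, mul_one]
      simp only [smul_smul]
      congr 2
      ring
    · intro z _ hz
      rw [Pi.single_eq_of_ne (fun e => hz (Fin.rev_injective e)), zero_smul, Φ.adj_zero, mul_zero, smul_zero]
    · exact fun hn => absurd (Finset.mem_filter.2 ⟨Finset.mem_univ _, hv⟩) hn
    · intro z _ hz
      rw [Pi.single_eq_of_ne hz, zero_smul, zero_mul, smul_zero]
    · exact fun hn => absurd (Finset.mem_filter.2 ⟨Finset.mem_univ _, hv.rev⟩) hn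
  rw [e] at h1
  rcases mul_self_eq_one_iff.1 (show Φ.sg a * Φ.sg v * (Φ.sg a * Φ.sg v) = 1 by
    linear_combination (Φ.sg v * Φ.sg v) * Φ.sg_sq a + Φ.sg_sq v) with h2 | h2
  · rwa [h2, one_smul] at h1
  · rw [h2, neg_one_smul] at h1
    exact neg_neg (c • Φ.adj (Y v) - (Φ.eps * Φ.σ c) • Y v) ▸ (longGroup G i ha).neg_mem h1

/-- The values of a row at one position, with the others vanishing. -/
def rowGroup (hH : Φ.Hyp G) (hT : Φ.PointTools a) (i : Fin t) (v : Fin k) :
    AddSubgroup (Matrix (Fin t → Fin k) (Fin t → Fin k) F) where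
  carrier := {P | IsRow G i a (Pi.single v P)}
  zero_mem' := by
    show IsRow G i a (Pi.single v 0)
    rw [Pi.single_zero]; exact IsRow.zero G i a
  add_mem' := by
    intro P Q hP hQ
    show IsRow G i a (Pi.single v (P + Q))
    rw [Pi.single_add]; exact IsRow.add hT.ne hP hQ
  neg_mem' := by
    intro P hP
    show IsRow G i a (Pi.single v (-P))
    rw [Pi.single_neg]; exact IsRow.neg hH hT.ne hP

theorem row_invariant (hH : Φ.Hyp G) (hT : Φ.PointTools a) {v : Fin k} (hv : Mid a v) :
    Invariant Φ i (rowGroup hH hT i v) := by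
  refine ⟨fun P hP X => ?_, fun j hj s hs P hP => ?_⟩
  · have := IsRow.cent hP hv X
    rwa [Pi.single_eq_same] at this
  · refine (IsRow.conj hH hj hs hP).congr fun w hw => ?_
    by_cases h : w = v
    · subst h; simp
    · simp [h]

variable [Fintype F]

/-- A non-scalar radical block yields a non-scalar long root block. -/
theorem long_nonscalar (hk : 3 ≤ k) (hH : Φ.Hyp G) (hT : Tools Φ a) (hP : PatTools Φ) (ha0 : (a : ℕ) = 0)
    (hS : ¬ ScalAt G i a) : ∃ Z : MT, IsLong G i a Z ∧ ∀ c : F, Z ≠ c • 1 := by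
  classical
  have ha := hT.ne
  have hpt := hT.point a ha
  unfold ScalAt at hS
  push Not at hS
  obtain ⟨g, hg, hr, x, y, hns⟩ := hS
  by_cases hrow : ∀ v, Mid a v → ∃ c : F, bl i (g : MT) a v = c • (1 : MT)
  · choose! c hc using hrow
    obtain ⟨s, hs, hsr, hsv⟩ := hpt.short c
    obtain ⟨hi1, hi2⟩ := IsRow.inv_row (Φ := Φ) (i := i) ha (Φ.iso_fu i hs.1)
      (by rw [fu_val]; exact inRad_fa hsr)
    obtain ⟨hm, hmrow, -⟩ := mul_rad ha hr hi1
    rw [← Units.val_mul] at hm hmrow
    have hgG : g * (fu i s)⁻¹ ∈ G := mul_mem hg (inv_mem (hH.roots i s hs))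
    obtain ⟨e, hL⟩ := long_of_row_zero ha (hH.iso _ hgG) hgG hm fun v hv => by
      rw [hmrow v hv, hi2 v hv, fu_val, bl_fa, hsv v hv, hc v hv, add_neg_cancel]
    refine ⟨_, hL, fun d hd => ?_⟩
    rw [hd, Matrix.mul_smul, mul_one] at e
    have e2 : (g : MT) = fa i ((1 + d • Matrix.single a a.rev (1 : F)) * (s : Mm)) := by
      rw [map_mul, map_add, map_one, map_smul, ← e, ← fu_val, ← Units.val_mul, inv_mul_cancel_right]
    exact hns _ (by rw [e2, bl_fa])
  · push Not at hrow
    obtain ⟨v, hv, hnv⟩ := hrow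
    set Y : Fin k → MT := fun w => bl i (g : MT) a w with hY
    have hYr : IsRow G i a Y := ⟨g, hg, hr, fun w _ => rfl⟩
    by_contra hcon
    push Not at hcon
    by_cases hσ : ∃ ω, Φ.σ ω ≠ ω
    · obtain ⟨ω, hω⟩ := hσ
      obtain ⟨α, h1⟩ := hcon _ (IsRow.comm_scalar hH hpt hYr hv 1)
      obtain ⟨β, h2⟩ := hcon _ (IsRow.comm_scalar hH hpt hYr hv ω)
      rw [map_one, mul_one, one_smul] at h1
      have h3 : (Φ.eps * (Φ.σ ω - ω)) • Y v = (ω * α - β) • (1 : MT) := by
        rw [sub_smul, mul_smul ω α, ← h1, ← h2]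
        module
      have hd : Φ.eps * (Φ.σ ω - ω) ≠ 0 :=
        mul_ne_zero (left_ne_zero_of_mul_eq_one Φ.eps_sq) (sub_ne_zero.2 hω)
      exact hnv ((Φ.eps * (Φ.σ ω - ω))⁻¹ * (ω * α - β)) (by rw [mul_smul, ← h3, inv_smul_smul₀ hd])
    · obtain ⟨hk2, -, heps, hc2⟩ := (show PatTools Φ from hP).resolve_left hσ
      push Not at hσ
      have hxx : ∀ z : Fin k, z ≠ z.rev := ne_rev_of_even hk2
      have hL : Φ.Lng 1 := by show (1 : F) + Φ.eps * Φ.σ 1 = 0; rw [heps, map_one, mul_one, add_neg_cancel]
      -- isolate a position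
      obtain ⟨s, hs, hsv⟩ := Φ.exists_long (hxx v) hL
      have hsl : IsLevi1 a (s : Mm) := fun p q hpq => by
        rw [hsv, Matrix.add_apply, Matrix.one_apply_ne (show p ≠ q from fun e => hpq (by subst e; exact ⟨Iff.rfl, Iff.rfl⟩)),
          Matrix.single_apply, if_neg, add_zero]
        rintro ⟨rfl, rfl⟩
        exact hpq ⟨iff_of_false hv.1 hv.rev.1, iff_of_false hv.2 hv.rev.2⟩
      have hsi : ((s⁻¹ : GL (Fin k) F) : Mm) = 1 - Matrix.single v v.rev 1 := by
        have e : s = one_add _ (single_sq (hxx v) 1) := Units.ext hsv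
        rw [e]; rfl
      have hsaa : (s : Mm) a a = 1 := by
        rw [hsv, Matrix.add_apply, Matrix.one_apply_eq, Matrix.single_apply, if_neg (fun h => hv.1 h.1),
          add_zero]
      have hiso : IsRow G i a (Pi.single v.rev (Y v)) := by
        refine ((IsRow.levi hH ha hYr hs hsl).neg hH ha |>.add ha hYr).congr fun w hw => ?_
        rw [Pi.add_apply, Pi.neg_apply, hsaa, one_smul, hsi]
        simp only [Matrix.sub_apply, sub_smul, Finset.sum_sub_distrib]
        rw [Finset.sum_eq_single w, Finset.sum_eq_single v, Matrix.one_apply_eq, one_smul, Matrix.single_apply]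
        · by_cases h : w = v.rev
          · subst h; simp
          · rw [if_neg (fun h' => h h'.2.symm), zero_smul, sub_zero, neg_add_cancel, Pi.single_eq_of_ne h]
        · intro z _ hz
          rw [Matrix.single_apply, if_neg (fun h => hz h.1.symm), zero_smul]
        · exact fun hn => absurd (Finset.mem_filter.2 ⟨Finset.mem_univ _, hv⟩) hn
        · intro z _ hz
          rw [Matrix.one_apply_ne hz, zero_smul]
        · exact fun hn => absurd (Finset.mem_filter.2 ⟨Finset.mem_univ _, hw⟩) hn
      -- the pattern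
      obtain ⟨X, c, hc, hXi, hXp, ⟨j₁, hj₁⟩, hN⟩ :=
        exists_pattern hk hT hP ha0 (row_invariant (i := i) hH hpt hv.rev) hiso hnv
      have hdata : ∀ j, ∃ (s : GL (Fin k) F) (d : F), Φ.SI s ∧ (X j = 1 → s = 1) ∧ Φ.adj1 (X j) = d • X j ∧
          (X j * ((s : Mm) * X j * ((s⁻¹ : GL (Fin k) F) : Mm))) a a ≠ 0 ∧
          (X j ≠ 1 → (((s : Mm) * X j * ((s⁻¹ : GL (Fin k) F) : Mm)) * X j) a a = 0 ∧
            ((∃ m, (X j * ((s : Mm) * X j * ((s⁻¹ : GL (Fin k) F) : Mm))) m m = 0 ∧
              (((s : Mm) * X j * ((s⁻¹ : GL (Fin k) F) : Mm)) * X j) m m = 0) ∨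
              (Φ.adj1 (X j) = X j ∧ ¬ 6 ≤ k))) := by
        intro j
        by_cases h : X j = 1
        · exact ⟨1, 1, Φ.si_one, fun _ => rfl, by rw [h, one_smul, Φ.adj1_one], by simp [h],
            fun h' => absurd h h'⟩
        · obtain ⟨s, r, κ, hs, -, -, -, h1, h2, h3⟩ := ((hXp j).resolve_left h).opp
          obtain ⟨d, hd⟩ := ((hXp j).resolve_left h).adj hσ
          exact ⟨s, d, hs, fun h' => absurd h' h, hd, h1, fun _ => ⟨h2, h3⟩⟩
      choose A d hA hA1 hd hQ hQ' using hdata
      set N : MT := c • pureMat X with hNdef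
      set D : F := ∏ j, d j with hDdef
      have hadj : Φ.adj N = D • N := by
        rw [hNdef, Φ.adj_smul, hσ, Φ.adj_pureMat, show (fun j => Φ.adj1 (X j)) = fun j => d j • X j from funext hd,
          pureMat_smul, smul_comm]
      have hX0 : pureMat X ≠ 0 := by
        intro h0
        have h1 : pureMat X * Ad (pureGL A) (pureMat X) = 0 := by rw [h0, zero_mul]
        rw [Ad_pureGL, pureMat_mul] at h1
        have h2 := congrFun (congrFun h1 fun _ => a) fun _ => a
        rw [pureMat_diag, Matrix.zero_apply] at h2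
        exact Finset.prod_ne_zero_iff.2 (fun j _ => hQ j) h2
      have hN0 : N ≠ 0 := smul_ne_zero hc hX0
      have hD : D ≠ 0 := fun h0 => hN0 (by rw [← Φ.adj_adj N, hadj, h0, zero_smul, Φ.adj_zero])
      by_cases hthin : ∃ j, X j ≠ 1 ∧ ∃ m, (X j * ((A j : Mm) * X j * (((A j)⁻¹ : GL (Fin k) F) : Mm))) m m = 0 ∧
          (((A j : Mm) * X j * (((A j)⁻¹ : GL (Fin k) F) : Mm)) * X j) m m = 0
      · obtain ⟨j₀, hj₀, m, hm1, hm2⟩ := hthin
        set N' : MT := Ad (pureGL A) N with hN'
        have hN'm : N' ∈ rowGroup hH hpt i v.rev := (row_invariant hH hpt hv.rev).upper_mem hA (hA1 i hXi) hN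
        have hN'adj : Φ.adj N' = D • N' := by
          have hiA : Φ.Iso (pureGL A) := by
            show Φ.adj (pureMat _) * pureMat _ = 1
            rw [Φ.adj_pureMat, pureMat_mul, show ((fun j => Φ.adj1 (A j : Mm)) * fun j => (A j : Mm)) = 1 from
              funext fun j => (hA j).1]
            exact pureMat_one
          rw [hN', hiA.adj_Ad, hadj, map_smul]
        obtain ⟨W, hW, hw1, hw2, hw3, hw4, hw5, hw6⟩ := Φ.exists_weyl (x := v) (hxx v) one_ne_zero hL
        have hWl : IsLevi1 a (W : Mm) := by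
          intro p q hpq
          have e : (W : Mm) p q = ((W : Mm) *ᵥ Pi.single q 1) p := by rw [Matrix.mulVec_single_one]; rfl
          rw [e]
          rcases cases3 v q with rfl | rfl | hq
          · rw [hw1, Pi.single_eq_of_ne]
            rintro rfl
            exact hpq ⟨iff_of_false hv.rev.1 hv.1, iff_of_false hv.rev.2 hv.2⟩
          · rw [hw2, Pi.single_eq_of_ne]
            rintro rfl
            exact hpq ⟨iff_of_false hv.1 hv.rev.1, iff_of_false hv.2 hv.rev.2⟩
          · rw [hw3 q hq, Pi.single_eq_of_ne]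
            rintro rfl
            exact hpq ⟨Iff.rfl, Iff.rfl⟩
        have hWaa : (W : Mm) a a = 1 := by
          have := congrFun (hw3 a ⟨hv.1.symm, fun e => hv.2 (by rw [e, Fin.rev_rev])⟩) a
          rwa [Matrix.mulVec_single_one, Pi.single_eq_same] at this
        have hP' : IsRow G i a (Pi.single v N') := by
          refine (IsRow.levi hH ha hN'm hW hWl).congr fun w hw => ?_
          have e : ((W⁻¹ : GL (Fin k) F) : Mm) v.rev w = (Pi.single v (1 : F)⁻¹ : Fin k → F) w := by
            rw [← hw5, Matrix.single_one_vecMul]; rfl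
          rw [hWaa, one_smul, Finset.sum_eq_single v.rev, Pi.single_eq_same, e, inv_one]
          · by_cases h : w = v
            · subst h; simp
            · simp [h]
          · intro z _ hz; rw [Pi.single_eq_of_ne hz, smul_zero]
          · exact fun hn => absurd (Finset.mem_filter.2 ⟨Finset.mem_univ _, hv.rev⟩) hn
        obtain ⟨e, he⟩ := hcon _ (IsRow.pair hH ha hv (hxx v) hP' hN)
        rw [hN'adj, hadj, heps, neg_one_smul, sub_neg_eq_add, Matrix.mul_smul,
          Matrix.mul_smul, ← smul_add, hN', map_smul, Matrix.smul_mul, Matrix.mul_smul,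
          Matrix.smul_mul, Matrix.mul_smul, Ad_pureGL, pureMat_mul, pureMat_mul, ← smul_add, ← smul_add] at he
        set Q := fun j => X j * ((A j : Mm) * X j * (((A j)⁻¹ : GL (Fin k) F) : Mm))
        set Q' := fun j => (A j : Mm) * X j * (((A j)⁻¹ : GL (Fin k) F) : Mm) * X j
        have hev : ∀ z : Fin t → Fin k, (∏ j, Q j (z j) (z j)) + ∏ j, Q' j (z j) (z j) = D⁻¹ * (c⁻¹ * (c⁻¹ * e)) := by
          intro z
          have := congrFun (congrFun he z) z
          rw [Matrix.smul_apply, Matrix.smul_apply, Matrix.smul_apply, Matrix.add_apply,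
            pureMat_diag, pureMat_diag, Matrix.smul_apply, Matrix.one_apply_eq] at this
          simp only [smul_eq_mul, mul_one] at this
          rw [← this]
          simp only [Q, Q', Pi.mul_apply]
          field_simp
        have h1 := hev fun _ => a
        have h2 := hev (Function.update (fun _ => a) j₀ m)
        rw [Finset.prod_eq_zero (f := fun j => Q' j a a) (Finset.mem_univ j₀) (hQ' j₀ hj₀).1, add_zero] at h1
        rw [Finset.prod_eq_zero (Finset.mem_univ j₀) (by rw [Function.update_self]; exact hm1),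
          Finset.prod_eq_zero (Finset.mem_univ j₀) (by rw [Function.update_self]; exact hm2), add_zero, ← h1] at h2
        exact Finset.prod_ne_zero_iff.2 (fun j _ => hQ j) h2.symm
      · push Not at hthin
        have hadj1 : ∀ j, X j ≠ 1 → Φ.adj1 (X j) = X j ∧ ¬ 6 ≤ k := fun j hj => by
          refine (hQ' j hj).2.resolve_left ?_
          rintro ⟨m, h1, h2⟩
          exact hthin j hj m h1 h2
        have hj₁' : X j₁ ≠ 1 := fun h => by simpa [h] using hj₁.sq
        have h2 : (2 : F) ≠ 0 := hc2.resolve_right (hadj1 j₁ hj₁').2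
        have hNN : Φ.adj N = N := by
          rw [hNdef, Φ.adj_smul, hσ, Φ.adj_pureMat]
          congr 2
          funext j
          by_cases h : X j = 1
          · rw [h, Φ.adj1_one]
          · exact (hadj1 j h).1
        have hone : IsRow G i a (Pi.single v (1 : MT)) := by
          refine (IsRow.scalar hH hpt (Pi.single v 1)).congr fun w _ => ?_
          by_cases h : w = v
          · subst h; simp
          · simp [h]
        obtain ⟨e, he⟩ := hcon _ (IsRow.pair hH ha hv (hxx v) hone hN)
        rw [Φ.adj_one, mul_one, one_mul, hNN, heps, neg_one_smul, sub_neg_eq_add] at he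
        have hN2 : N * N = 0 := by
          rw [hNdef, Matrix.smul_mul, Matrix.mul_smul, pureMat_mul]
          rw [show pureMat (X * X) = (0 : MT) from Matrix.ext fun x y => by
            rw [pureMat_apply, Matrix.zero_apply]
            exact Finset.prod_eq_zero (Finset.mem_univ j₁) (by rw [Pi.mul_apply, hj₁.sq, Matrix.zero_apply]), smul_zero, smul_zero]
        have h4 : (2 : F) • N = e • (1 : MT) := by rw [two_smul, he]
        have h5 : N = (2⁻¹ * e) • (1 : MT) := by rw [mul_smul, ← h4, inv_smul_smul₀ h2]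
        have h6 : (2⁻¹ * e) * (2⁻¹ * e) = 0 := by
          have h := hN2
          rw [h5, Matrix.smul_mul, Matrix.mul_smul, mul_one, smul_smul] at h
          exact (smul_eq_zero.1 h).resolve_right one_ne_zero
        exact hN0 (by rw [h5, mul_self_eq_zero.1 h6, zero_smul])

end CfsgLib.MaxSub.TensorForm
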