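import Cfsg.Agent.Lib.MaxSub.TensorForm.OrthDG
import Cfsg.Agent.Lib.MaxSub.TensorForm.Move

/-!
A group with all alternating long root blocks and all rows at one point contains the derived group of the
isometry group.
-/

set_option autoImplicit false
set_option maxHeartbeats 1000000
set_option linter.unusedSectionVars false
set_option linter.unusedSimpArgs false

namespace CfsgLib.MaxSub.TensorForm

open Matrix QuadraticMap Module
open CfsgLib.Aschbacher CfsgLib.MaxSub.TensorPow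

variable {F : Type*} [Field F] {k t : ℕ}

local notation "Mm" => Matrix (Fin k) (Fin k) F
local notation "MT" => Matrix (Fin t → Fin k) (Fin t → Fin k) F
local notation "VT" => (Fin t → Fin k) → F
local notation "GT" => GL (Fin t → Fin k) F
local notation "E[" i "](" a "," b ")" => fa i (Matrix.single a b (1 : F))

/-- A functional separating a vector from a subspace. -/
theorem exists_dot_sep {ι : Type} [Fintype ι] [DecidableEq ι] {v : ι → F} {p : Submodule F (ι → F)}
    (hv : v ∉ p) : ∃ α : ι → F, α ⬝ᵥ v = 1 ∧ ∀ x ∈ p, α ⬝ᵥ x = 0 := by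
  obtain ⟨f, hfv, hfp⟩ := Submodule.exists_dual_map_eq_bot_of_notMem hv inferInstance
  have hd : ∀ x : ι → F, (fun i => (f v)⁻¹ * f (Pi.single i 1)) ⬝ᵥ x = (f v)⁻¹ * f x := by
    intro x
    conv_rhs => rw [pi_eq_sum_univ' x]
    simp only [map_sum, map_smul, smul_eq_mul, dotProduct, Finset.mul_sum]
    exact Finset.sum_congr rfl fun i _ => by ring
  refine ⟨fun i => (f v)⁻¹ * f (Pi.single i 1), by rw [hd, inv_mul_cancel₀ hfv], fun x hx => ?_⟩
  have : f x ∈ p.map f := Submodule.mem_map_of_mem hx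
  rw [hfp, Submodule.mem_bot] at this
  rw [hd, this, mul_zero]

variable {Q : QuadraticForm F ((Fin t → Fin k) → F)} {Φ : Frame F k} {c : F} {i : Fin t} {a : Fin k}

/-- A vector at a point, orthogonal to one and off the line of another. -/
theorem exists_perp_off [NeZero k] (h3 : 3 ≤ k ^ (t - 1)) (φ y : VT) (i : Fin t) (a : Fin k) :
    ∃ w ∈ atPt i a, φ ⬝ᵥ w = 0 ∧ w ∉ Submodule.span F {y} := by
  classical
  obtain ⟨emb⟩ : Nonempty (Fin 3 ↪ ({j : Fin t // j ≠ i} → Fin k)) :=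
    Function.Embedding.nonempty_of_card_le (by
      simpa [Fintype.card_subtype_compl, Fintype.card_subtype_eq] using h3)
  let g : Fin 3 → Fin t → Fin k := fun n => (Equiv.funSplitAt i (Fin k)).symm (a, emb n)
  have hg : Function.Injective g := fun m n h => by
    have := (Equiv.funSplitAt i (Fin k)).symm.injective h
    exact emb.injective (Prod.mk.inj this).2
  have hgi : ∀ n, g n i = a := fun n => by simp [g, Equiv.funSplitAt, Equiv.piSplitAt]
  let L : (Fin 3 → F) →ₗ[F] VT := Fintype.linearCombination F fun n => (Pi.single (g n) (1 : F) : VT)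
  have hLv : ∀ f n, L f (g n) = f n := fun f n => by
    simp only [L, Fintype.linearCombination_apply, Finset.sum_apply, Pi.smul_apply, smul_eq_mul]
    rw [Finset.sum_eq_single n (fun m _ hm => by rw [Pi.single_eq_of_ne (hg.ne (Ne.symm hm)), mul_zero]) (by simp),
      Pi.single_eq_same, mul_one]
  have hL : Function.Injective L := fun f f' h => funext fun n => by rw [← hLv f, ← hLv f', h]
  have hmem : ∀ f, L f ∈ atPt i a := by
    intro f
    simp only [L, Fintype.linearCombination_apply]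
    refine Submodule.sum_mem _ fun n _ => Submodule.smul_mem _ _ (mem_atPt.2 ?_)
    rw [Matrix.mulVec_single_one]
    funext z
    rw [Matrix.col_apply, fa_apply]
    by_cases hz : z = g n
    · subst hz; simp [hgi]
    · rw [Pi.single_eq_of_ne hz]
      split
      · rename_i h
        have : z i ≠ a := fun e => hz (funext fun j => by
          by_cases hj : j = i
          · subst hj; rw [e, hgi]
          · exact h j hj)
        simp [Matrix.single_apply, Ne.symm this]
      · rfl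
  let T : (Fin 3 → F) →ₗ[F] F :=
    { toFun := fun f => φ ⬝ᵥ L f
      map_add' := fun f f' => by rw [map_add, dotProduct_add]
      map_smul' := fun d f => by rw [map_smul, dotProduct_smul]; rfl }
  by_contra hc
  push Not at hc
  have hle : (LinearMap.ker T).map L ≤ Submodule.span F {y} := by
    rintro _ ⟨f, hf, rfl⟩
    exact hc (L f) (hmem f) hf
  have h1 : finrank F ((LinearMap.ker T).map L) = finrank F (LinearMap.ker T) :=
    (Submodule.equivMapOfInjective L hL _).finrank_eq.symm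
  have h2 := Submodule.finrank_mono hle
  have h3' := T.finrank_range_add_finrank_ker
  have h4 : finrank F (LinearMap.range T) ≤ 1 := by
    have := Submodule.finrank_le (LinearMap.range T)
    rwa [Module.finrank_self] at this
  rw [Module.finrank_fin_fun] at h3'
  have h5 : finrank F (Submodule.span F ({y} : Set VT)) ≤ 1 := by
    refine (finrank_span_le_card _).trans ?_
    simp
  omega

namespace QData

variable (hD : QData Φ Q c)
include hD

theorem pol_ne {u : VT} (hu : u ∈ atPt i a) {z : Fin k} (hz : z ≠ a.rev) (r : VT) :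
    polar Q u (E[i](z, a) *ᵥ r) = 0 := by
  rw [hD.pol', ← mem_atPt.1 hu, Φ.qT_mulVec, Φ.adj_fa, Φ.adj1_single, map_one, mul_one, Φ.sg_sq,
    ← Matrix.dotProduct_mulVec, Matrix.mulVec_mulVec, fs_mul, if_neg (Ne.symm hz), Matrix.zero_mulVec,
    dotProduct_zero, mul_zero]

theorem pol_rev (u r : VT) : polar Q u (E[i](a.rev, a) *ᵥ r) = c * (flat Φ i a u ⬝ᵥ r) := by
  rw [hD.pol', flat, ← Matrix.dotProduct_mulVec]

section

variable [Fintype F] [NeZero k] (hn : 5 ≤ k ^ t) (h3 : 3 ≤ k ^ (t - 1))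
  {K : Subgroup (GL (Fin t → Fin k) F)} (hH : Φ.Hyp K) (hKQ : K ≤ OG Q)
  (hA : ∀ Y : Matrix (Fin t → Fin k) (Fin t → Fin k) F, (∀ X, Commute Y (fa i X)) →
    IsLong K i a (Y + Φ.adj Y))
include hn h3 hH hKQ hA

/-- The Eichler transformations inside a point. -/
theorem KE_same {u w : VT} (hu : u ∈ atPt i a) (hw : w ∈ atPt i a) : KE Q K u w := fun g hg => by
  obtain ⟨-, l, hl, hlv⟩ := hA (c • rk1 i a w (flat Φ i a u)) fun X => (rk1_commute _ _ X).smul_left c
  convert hl using 1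
  refine Units.ext (Matrix.ext_of_mulVec_single fun p => ?_)
  rw [hg, hlv, Φ.adj_smul, hD.id, ← smul_add, hD.long_eich hu hw]

/-- The Levi transvections. -/
theorem levi_trans {p φ : VT} (hp : p ∈ atPt i a) (hφp : φ ⬝ᵥ p = 0) :
    InG K (hyp i a (1 + rk1 i a p φ) 0 0 (1 - Φ.adj (rk1 i a p φ))) := by
  have ha := hD.ne a
  have hsharp : sharp Φ i a φ ∈ atPt i a := hD.sharp_mem φ
  obtain ⟨w, hw, hpw, hwφ⟩ := exists_perp_off h3 (flat Φ i a p) (sharp Φ i a φ) i a
  obtain ⟨ψ, hψw, hψ⟩ := exists_dot_sep hwφ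
  have hψφ : ψ ⬝ᵥ sharp Φ i a φ = 0 := hψ _ (Submodule.mem_span_singleton_self _)
  have hφψ : φ ⬝ᵥ sharp Φ i a ψ = 0 := by
    rw [← hD.flat_sharp_dot (φ := φ) (hD.sharp_mem (i := i) (a := a) ψ), hD.flat_sharp, neg_dotProduct,
      hD.dot_atPt hsharp, hψφ, neg_zero]
  have hsp : sharp Φ i a ψ ∈ atPt i a := hD.sharp_mem ψ
  set D : MT := rk1 i a p φ with hDd
  set Z : MT := rk1 i a p ψ + Φ.adj (rk1 i a p ψ) with hZ
  set Z' : MT := rk1 i a w φ + Φ.adj (rk1 i a w φ) with hZ'
  have hZl : IsLong K i a Z := hA _ fun X => rk1_commute _ _ X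
  have hZl' : IsLong K i a Z' := hA _ fun X => rk1_commute _ _ X
  have eD : Z * Z' = D := by
    rw [hZ, hZ', hD.adj_rk1, hD.adj_rk1, add_mul, mul_add, mul_add, rk1_mul _ _ _ hw, rk1_mul _ _ _ hsharp,
      rk1_mul _ _ _ hw, rk1_mul _ _ _ hsharp, hψw, hψφ, hpw, hD.flat_sharp_dot hp, hφp]
    simp [hDd]
  have eDZ : D * Z = 0 := by
    rw [hDd, hZ, hD.adj_rk1, mul_add, rk1_mul _ _ _ hp, rk1_mul _ _ _ hsp, hφp, hφψ]
    simp
  have eZD : Z' * D = 0 := by
    rw [hDd, hZ', hD.adj_rk1, add_mul, rk1_mul _ _ _ hp, rk1_mul _ _ _ hp, hφp,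
      hD.flat_anti p w, hpw]
    simp
  have eadj : Φ.adj D = Z' * Z := by
    have h1 : ∀ P : MT, Φ.adj (P + Φ.adj P) = P + Φ.adj P := fun P => by
      rw [Φ.adj_add, Φ.adj_adj, add_comm]
    rw [← eD, Φ.adj_mul, hZ, hZ', h1, h1]
  have hU := hZl.upper
  have hU' := (show IsLong K i a (-Z) from (longGroup K i ha).neg_mem hZl).upper
  have hV := IsLong.lower hH ha one_ne_zero (hD.lng 1) ((longGroup K i ha).neg_mem hZl')
  have hV' := IsLong.lower hH ha one_ne_zero (hD.lng 1) hZl'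
  simp only [_root_.inv_one, mul_one, neg_smul, one_smul, neg_neg] at hV hV'
  have key := (hU.mul hV).mul (hU'.mul hV')
  have c0 : ∀ X, Commute (0 : MT) (fa i X) := fun X => Commute.zero_left _
  have c1 : ∀ X, Commute (1 : MT) (fa i X) := fun X => Commute.one_left _
  have cZ := hZl.1
  have cZ' := hZl'.1
  rw [hyp_mul ha c1 cZ c0 c1, hyp_mul ha c1 (fun X => (cZ X).neg_left) c0 c1] at key
  simp only [one_mul, zero_mul, mul_zero, add_zero, zero_add, mul_one, neg_mul, mul_neg, neg_neg, eD] at key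
  have cD : ∀ X, Commute D (fa i X) := rk1_commute _ _
  rw [hyp_mul ha (fun X => (c1 X).add_left (cD X)) cZ cZ' c1] at key
  simp only [add_mul, mul_add, one_mul, mul_one, mul_neg, neg_mul, eD, eDZ, eadj.symm, ← mul_assoc, eZD] at key
  have e1 : (1 : MT) + D + (D + D * D) + -D = 1 + D := by
    rw [hDd, rk1_mul _ _ _ hp, hφp, zero_smul]; abel
  convert key using 2
  all_goals first
    | rfl
    | exact e1.symm
    | (simp only [mul_assoc, eadj, eD, eZD, mul_zero, add_zero]; abel)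
    | abel
    | skip

/-- The Eichler transformations towards the opposite point. -/
theorem KE_rev {u b : VT} (hu : u ∈ atPt i a) (hb : b ∈ atPt i a) (hub : flat Φ i a u ⬝ᵥ b = 0) :
    KE Q K u (E[i](a.rev, a) *ᵥ b) := fun g hg => by
  have hu' := mem_atPt.1 hu
  have hb' := mem_atPt.1 hb
  obtain ⟨l, hl, hlv⟩ := hD.levi_trans hn h3 hH hKQ hA (p := c • u) (φ := flat Φ i a b)
    (Submodule.smul_mem _ c hu) (by rw [dotProduct_smul, hD.flat_anti, hub, neg_zero, smul_zero])
  convert hl using 1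
  refine Units.ext (Matrix.ext_of_mulVec_single fun p => ?_)
  generalize (Pi.single p 1 : VT) = x
  have hw : Q (E[i](a.rev, a) *ᵥ b) = 0 := hD.zero_coord (mem_atPt.1 (atPt_sub _ _ _))
  have e1 : E[i](a, a) * rk1 i a u (flat Φ i a b) = vecMulVec u (flat Φ i a b) := by
    rw [rk1, ← mul_bl_mul, Matrix.mul_vecMulVec, Matrix.vecMulVec_mul, hu', flat, Matrix.vecMul_vecMul, fs_mul,
      if_pos rfl]
  have e2 : E[i](a.rev, a.rev) * rk1 i a b (flat Φ i a u) = vecMulVec (E[i](a.rev, a) *ᵥ b) (Φ.qT u) := by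
    rw [rk1, ← mul_bl_mul, Matrix.mul_vecMulVec, Matrix.vecMulVec_mul, flat, Matrix.vecMul_vecMul, fs_mul, if_pos rfl]
    congr 1
    conv_rhs => rw [← hu', Φ.qT_mulVec, Φ.adj_fa, Φ.adj1_single, map_one, mul_one, Φ.sg_sq]
  have e3 : Φ.qT (E[i](a.rev, a) *ᵥ b) = -flat Φ i a b := by
    have := Φ.adj1_long a.rev (1 : F)
    rw [Fin.rev_rev, map_one, mul_one, hD.eps, ← Matrix.single_neg] at this
    rw [Φ.qT_mulVec, Φ.adj_fa, this, map_neg, Matrix.vecMul_neg, flat]
  rw [hg, hlv, hyp, add_sub_cancel_left, sub_sub_cancel_left, mul_zero, mul_zero, add_zero, add_zero,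
    rk1_smul_left, Φ.adj_smul, hD.id, hD.adj_rk1, hD.sharp_flat, hb', ← neg_one_smul F b, rk1_smul_left,
    neg_one_smul, smul_neg, neg_neg, Matrix.mul_smul, Matrix.mul_smul, e1, e2, Matrix.add_mulVec, Matrix.add_mulVec,
    Matrix.one_mulVec, Matrix.smul_mulVec, Matrix.smul_mulVec, Matrix.vecMulVec_mulVec, Matrix.vecMulVec_mulVec,
    op_smul_eq_smul, op_smul_eq_smul, hD.pol', hD.pol', hw, e3, zero_mul, sub_zero, neg_dotProduct]
  module

/-- The Eichler transformations towards a middle index. -/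
theorem KE_mid (hT : Φ.PointTools a) {u : VT} (hu : u ∈ atPt i a) {z : Fin k} (hz : Mid a z) {r : VT}
    (hr : r ∈ atPt i a) : KE Q K u (E[i](z, a) *ᵥ r) := by
  classical
  have ha := hD.ne a
  have perp : ∀ {u : VT}, u ∈ atPt i a → ∀ {r : VT}, r ∈ atPt i a → flat Φ i a u ⬝ᵥ r = 0 →
      KE Q K u (E[i](z, a) *ᵥ ((-(Φ.sg z * Φ.sg a.rev)) • r)) := by
    intro u hu r hr hur
    obtain ⟨s, hs, hsr, -, hsc⟩ := Frame.exists_short hT (Pi.single z.rev 1 : Fin k → F)
    set κ : F := -(Φ.sg z * Φ.sg a.rev) with hκ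
    set d : F := (s : Mm) a a.rev with hd
    have hκ0 : κ ≠ 0 := neg_ne_zero.2 (mul_ne_zero (Φ.sg_ne _) (Φ.sg_ne _))
    have hcol : (s : Mm) * Matrix.single a.rev a (1 : F) =
        Matrix.single a.rev a 1 + κ • Matrix.single z a 1 + d • Matrix.single a a 1 := by
      ext x y
      by_cases hy : y = a
      · subst hy
        rw [Matrix.mul_single_apply_same, mul_one]
        rcases cases3 y x with h | h | h
        · subst h; simp [hd, ha, hz.1, ha.symm]
        · subst h
          rw [hsr _ _ ⟨fun h => absurd h ha.symm, fun _ => rfl⟩]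
          simp [hz.2, ha, ha.symm]
        · rw [hsc x h]
          by_cases hxz : x = z
          · subst hxz; simp [hκ, hz.1, hz.2, Ne.symm hz.1, Ne.symm hz.2]
          · rw [Pi.single_eq_of_ne (fun e => hxz (Fin.rev_injective e))]
            simp [h.1, h.2, Ne.symm h.1, Ne.symm h.2, Ne.symm hxz]
      · rw [Matrix.mul_single_apply_of_ne (hbj := hy)]
        simp [Matrix.single_apply, Ne.symm hy]
    have hfix : (s : Mm) * Matrix.single a a (1 : F) = Matrix.single a a 1 := by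
      ext x y
      by_cases hy : y = a
      · subst hy
        rw [Matrix.mul_single_apply_same, mul_one, hsr x y ⟨fun _ => rfl, fun e => absurd e ha⟩, Matrix.one_apply,
          Matrix.single_apply]
        by_cases hx : x = y <;> simp [hx, Ne.symm]
      · rw [Matrix.mul_single_apply_of_ne (hbj := hy), Matrix.single_apply, if_neg fun h => hy h.2.symm]
    have hfu := hH.roots i s hs
    have h1 := hD.KE_conj (hKQ hfu) hfu (hD.KE_rev hn h3 hH hKQ hA hu hr hur)
    have eu : ((fu i s : GT) : MT) *ᵥ u = u := by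
      conv_lhs => rw [← mem_atPt.1 hu]
      rw [fu_val, Matrix.mulVec_mulVec, ← map_mul, hfix, mem_atPt.1 hu]
    have ew : ((fu i s : GT) : MT) *ᵥ (E[i](a.rev, a) *ᵥ r) =
        E[i](a.rev, a) *ᵥ r + κ • (E[i](z, a) *ᵥ r) + d • r := by
      rw [fu_val, Matrix.mulVec_mulVec, ← map_mul, hcol, map_add, map_add, map_smul, map_smul, Matrix.add_mulVec,
        Matrix.add_mulVec, Matrix.smul_mulVec, Matrix.smul_mulVec, mem_atPt.1 hr]
    rw [eu, ew] at h1
    have h2 := hD.KE_rev hn h3 hH hKQ hA hu (Submodule.neg_mem _ hr) (by rw [dotProduct_neg, hur, neg_zero])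
    have h4 := hD.KE_same hn h3 hH hKQ hA hu (Submodule.smul_mem _ (-d) hr)
    have hQ := hD.zero_coord (mem_atPt.1 hu)
    have p1 : polar Q u (E[i](a.rev, a) *ᵥ r + κ • (E[i](z, a) *ᵥ r) + d • r) = 0 := by
      rw [polar_add_right, polar_add_right, polar_smul_right, polar_smul_right, hD.pol_rev, hur, hD.pol_ne hu hz.2,
        hD.pol_atPt hu hr]
      simp
    have p2 : polar Q u (E[i](a.rev, a) *ᵥ (-r)) = 0 := by rw [hD.pol_rev, dotProduct_neg, hur, neg_zero, mul_zero]
    have p4 : polar Q u ((-d) • r) = 0 := by rw [polar_smul_right, hD.pol_atPt hu hr, smul_zero]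
    have h5 := hD.KE_add hn hQ (by rw [polar_add_right, p1, p2, add_zero]) p4 (hD.KE_add hn hQ p1 p2 h1 h2) h4
    have e : E[i](a.rev, a) *ᵥ r + κ • (E[i](z, a) *ᵥ r) + d • r + E[i](a.rev, a) *ᵥ (-r) + (-d) • r =
        E[i](z, a) *ᵥ (κ • r) := by
      rw [Matrix.mulVec_neg, Matrix.mulVec_smul]; module
    rwa [e] at h5
  have scaled : ∀ {u : VT}, u ∈ atPt i a → ∀ {r : VT}, r ∈ atPt i a → flat Φ i a u ⬝ᵥ r = 0 →
      KE Q K u (E[i](z, a) *ᵥ r) := fun {u} hu {r} hr hur => by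
    have h := perp hu (Submodule.smul_mem _ (-(Φ.sg z * Φ.sg a.rev))⁻¹ hr)
      (by rw [dotProduct_smul, hur, smul_zero])
    rwa [smul_inv_smul₀ (neg_ne_zero.2 (mul_ne_zero (Φ.sg_ne _) (Φ.sg_ne _)))] at h
  obtain ⟨p₁, hp₁, hp₁r, hp₁u⟩ := exists_perp_off (F := F) h3 (flat Φ i a r) u i a
  have hr₁ : flat Φ i a p₁ ⬝ᵥ r = 0 := by rw [hD.flat_anti r p₁, hp₁r, neg_zero]
  have h0 := scaled hp₁ hr hr₁
  rcases eq_or_ne u 0 with rfl | hu0
  · intro g hg
    rw [show g = 1 from gl_ext fun x => by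
      rw [hg, Units.val_one, Matrix.one_mulVec, QuadraticMap.polar_zero_left]; simp]
    exact one_mem K
  have hup : u ∉ Submodule.span F {p₁} := by
    intro h
    obtain ⟨d, hd⟩ := Submodule.mem_span_singleton.1 h
    have hd0 : d ≠ 0 := fun e => hu0 (by rw [← hd, e, zero_smul])
    exact hp₁u (Submodule.mem_span_singleton.2 ⟨d⁻¹, by rw [← hd, inv_smul_smul₀ hd0]⟩)
  obtain ⟨g₁, hg₁, hg₁'⟩ := exists_dot_sep hp₁u
  obtain ⟨g₂, hg₂, hg₂'⟩ := exists_dot_sep hup
  set φ := g₁ + g₂ with hφ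
  have hφp : φ ⬝ᵥ p₁ = 1 := by
    rw [hφ, add_dotProduct, hg₁, hg₂' p₁ (Submodule.mem_span_singleton_self _), add_zero]
  have hφu : φ ⬝ᵥ u = 1 := by
    rw [hφ, add_dotProduct, hg₂, hg₁' u (Submodule.mem_span_singleton_self _), zero_add]
  obtain ⟨l, hl, hlv⟩ := hD.levi_trans hn h3 hH hKQ hA (p := u - p₁) (φ := φ) (Submodule.sub_mem _ hu hp₁)
    (by rw [dotProduct_sub, hφp, hφu, sub_self])
  set D : MT := rk1 i a (u - p₁) φ with hDd
  have cD : ∀ X, Commute D (fa i X) := rk1_commute _ _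
  have cD' : ∀ X, Commute (Φ.adj D) (fa i X) := Φ.adj_commute cD
  have el : ∀ x, (l : MT) *ᵥ x = x + D *ᵥ (E[i](a, a) *ᵥ x) - Φ.adj D *ᵥ (E[i](a.rev, a.rev) *ᵥ x) := fun x => by
    rw [hlv, hyp, add_sub_cancel_left, sub_sub_cancel_left, mul_zero, mul_zero, add_zero, add_zero, ← (cD _).eq,
      mul_neg, ← (cD' _).eq, Matrix.add_mulVec, Matrix.add_mulVec, Matrix.one_mulVec, Matrix.neg_mulVec,
      ← Matrix.mulVec_mulVec, ← Matrix.mulVec_mulVec, sub_eq_add_neg]
  have ep : (l : MT) *ᵥ p₁ = u := by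
    rw [el, mem_atPt.1 hp₁, ← mem_atPt.1 hp₁, Matrix.mulVec_mulVec _ (E[i](a.rev, a.rev)) (E[i](a, a)), fs_mul,
      if_neg ha.symm, Matrix.zero_mulVec, Matrix.mulVec_zero, sub_zero, mem_atPt.1 hp₁,
      rk1_mulVec (Submodule.sub_mem _ hu hp₁) hp₁, hφp, one_smul, add_sub_cancel]
  have er : (l : MT) *ᵥ (E[i](z, a) *ᵥ r) = E[i](z, a) *ᵥ r := by
    rw [el, Matrix.mulVec_mulVec _ (E[i](a, a)), Matrix.mulVec_mulVec _ (E[i](a.rev, a.rev)), fs_mul,
      if_neg hz.1.symm, fs_mul, if_neg hz.2.symm, Matrix.zero_mulVec, Matrix.mulVec_zero, Matrix.mulVec_zero,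
      add_zero, sub_zero]
  have := hD.KE_conj (hKQ hl) hl h0
  rwa [ep, er] at this

/-- All Eichler transformations. -/
theorem KE_all (hT : ∀ x, Mid a x → Φ.PointTools a)
    (hR : ∀ Y : Fin k → Matrix (Fin t → Fin k) (Fin t → Fin k) F,
      (∀ v, Mid a v → ∀ X, Commute (Y v) (fa i X)) → IsRow K i a Y)
    {u w : VT} (hu : Q u = 0) (huw : polar Q u w = 0) : KE Q K u w := by
  classical
  have ha := hD.ne a
  obtain ⟨h, hh, hhu⟩ := exists_move_of (i := i) hH ha one_ne_zero (hD.lng 1) hR (fun v => Q v = 0)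
    (fun g hg v hv => by rw [mem_OG.1 (hKQ hg)]; exact hv) (fun p u hp hu' hu0 h0 => by
      have hpm : p ∈ atPt i a := mem_atPt.2 hp
      have hum : u ∈ atPt i a := mem_atPt.2 hu'
      rw [QuadraticMap.map_add Q, hD.zero_coord hp, hD.zero_coord (mem_atPt.1 (atPt_sub (i := i) a.rev a u)),
        zero_add, zero_add, hD.pol_rev] at h0
      have hμ : flat Φ i a p ⬝ᵥ u = 0 := (mul_eq_zero.1 h0).resolve_left hD.hc
      obtain ⟨z, hz⟩ := Function.ne_iff.1 hu0
      set φ : VT := Pi.single z (u z)⁻¹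
      have hφu : φ ⬝ᵥ u = 1 := by rw [single_dotProduct, inv_mul_cancel₀ hz]
      refine ⟨rk1 i a (-p) φ + Φ.adj (rk1 i a (-p) φ), ?_, hA _ fun X => rk1_commute _ _ X⟩
      rw [Matrix.add_mulVec, hD.adj_rk1, rk1_mulVec (Submodule.neg_mem _ hpm) hum,
        rk1_mulVec (hD.sharp_mem φ) hum, hφu, one_smul,
        show flat Φ i a (-p) = -flat Φ i a p by rw [flat, flat, Φ.qT_neg, Matrix.neg_vecMul], neg_dotProduct, hμ,
        neg_zero, zero_smul, add_zero]) hu
  set u' := (h : MT) *ᵥ u with hu'd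
  set w' := (h : MT) *ᵥ w with hw'd
  have hum : u' ∈ atPt i a := mem_atPt.2 hhu
  have hQ' : Q u' = 0 := by rw [hu'd, mem_OG.1 (hKQ hh)]; exact hu
  have hp' : polar Q u' w' = 0 := by rw [hu'd, hw'd, hD.iso_zero (hKQ hh)]; exact huw
  have main : KE Q K u' w' := by
    rw [vec_eq_sum (i := i) (a := a) w']
    have hterm : ∀ x, polar Q u' (E[i](x, a) *ᵥ comp i a x w') = 0 := by
      intro x
      by_cases hx : x = a.rev
      · subst hx
        rw [vec_eq_sum (i := i) (a := a) w', hD.pol', dotProduct_sum, Finset.mul_sum,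
          Finset.sum_eq_single a.rev (fun y _ hy => by rw [← hD.pol', hD.pol_ne hum hy])
            (by simp), ← hD.pol'] at hp'
        exact hp'
      · exact hD.pol_ne hum hx _
    suffices hs : ∀ S : Finset (Fin k), polar Q u' (∑ x ∈ S, E[i](x, a) *ᵥ comp i a x w') = 0 ∧
        KE Q K u' (∑ x ∈ S, E[i](x, a) *ᵥ comp i a x w') from (hs _).2
    intro S
    induction S using Finset.induction_on with
    | empty =>
      refine ⟨by simp, fun g hg => ?_⟩
      rw [show g = 1 from gl_ext fun x => by simp [hg]]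
      exact one_mem K
    | insert x S hx ih =>
      rw [Finset.sum_insert hx]
      refine ⟨by rw [polar_add_right, hterm, ih.1, add_zero], hD.KE_add hn hQ' (hterm x) ih.1 ?_ ih.2⟩
      have hc : comp i a x w' ∈ atPt i a := mem_atPt.2 (comp_base _ _)
      rcases cases3 a x with h' | h' | h'
      · subst h'
        rw [mem_atPt.1 hc]
        exact hD.KE_same hn h3 hH hKQ hA hum hc
      · subst h'
        have := hterm a.rev
        rw [hD.pol_rev] at this
        exact hD.KE_rev hn h3 hH hKQ hA hum hc ((mul_eq_zero.1 this).resolve_left hD.hc)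
      · exact hD.KE_mid hn h3 hH hKQ hA (hT x h') hum h' hc
  have hinv : ∀ v, ((h⁻¹ : GT) : MT) *ᵥ ((h : MT) *ᵥ v) = v := fun v => by
    rw [Matrix.mulVec_mulVec, Units.inv_mul, Matrix.one_mulVec]
  have := hD.KE_conj (inv_mem (hKQ hh)) (inv_mem hh) main
  rwa [hu'd, hw'd, hinv, hinv] at this

/-- The derived group is contained in the group. -/
theorem DG_le_of_full (hT : ∀ x, Mid a x → Φ.PointTools a)
    (hR : ∀ Y : Fin k → Matrix (Fin t → Fin k) (Fin t → Fin k) F,
      (∀ v, Mid a v → ∀ X, Commute (Y v) (fa i X)) → IsRow K i a Y) : DG Q ≤ K := by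
  rintro g ⟨y, hy, hyg⟩
  have hy' : y ∈ Subgroup.closure (CfsgLib.Eichler.Sieg Q) := by
    rw [← OmegaSimple.commutator_eq Q hD.nondeg (by rw [hD.finrank_VT]; exact hn)]; exact hy
  suffices h : ∀ y ∈ Subgroup.closure (CfsgLib.Eichler.Sieg Q), y.1 ∈ K.map linAut by
    obtain ⟨g', hg', e⟩ := h y hy'
    rwa [gl_ext (g := g) (h := g') fun x => by rw [← linAut_apply, ← linAut_apply, e, ← hyg]; rfl]
  intro y hy
  refine (Subgroup.closure_le ((K.map linAut).comap (CfsgLib.WittExtension.quadIso Q).subtype)).2 ?_ hy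
  rintro z ⟨u, v, d, hu, hv, huv, hz⟩
  rw [CfsgLib.Eichler.sieg_eich Q hv] at hz
  obtain ⟨g', hg'⟩ := exists_linAut z.1
  exact ⟨g', hD.KE_all hn h3 hH hKQ hA hT hR hu (by rw [polar_smul_right, huv]; exact mul_zero d) g'
    (fun x => by rw [← linAut_apply, hg']; exact hz x), hg'⟩

end

end QData

end CfsgLib.MaxSub.TensorForm
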