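import Cfsg.Agent.Lib.MaxSub.TensorForm.TwoCore

/-!
Two-dimensional factors: with a non-scalar long root block all self-adjoint blocks are long root blocks.
-/

set_option autoImplicit false
set_option maxHeartbeats 1000000
set_option linter.unusedSectionVars false
set_option linter.unusedSimpArgs false

namespace CfsgLib.MaxSub.TensorForm

open Matrix
open CfsgLib.Aschbacher CfsgLib.MaxSub.TensorPow

variable {F : Type*} [Field F] {t : ℕ}

local notation "M2" => Matrix (Fin 2) (Fin 2) F
local notation "MT2" => Matrix (Fin t → Fin 2) (Fin t → Fin 2) F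
local notation "E[" i "](" a "," b ")" => fa i (Matrix.single a b (1 : F))
local notation "eU" => Matrix.single (0 : Fin 2) (1 : Fin 2) (1 : F)
local notation "fL" => Matrix.single (1 : Fin 2) (0 : Fin 2) (1 : F)

variable {Φ : Frame F 2}

theorem eps_two (hL : ∀ c, Φ.Lng c) : Φ.eps = -1 := by
  have h : (1 : F) + Φ.eps * Φ.σ 1 = 0 := hL 1
  rw [map_one, mul_one] at h
  linear_combination h

theorem sigma_two (hL : ∀ c, Φ.Lng c) (c : F) : Φ.σ c = c := by
  have h : c + Φ.eps * Φ.σ c = 0 := hL c
  rw [eps_two hL] at h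
  linear_combination -h

/-- The adjoint on a symplectic plane is the adjugate. -/
theorem adj1_two (hL : ∀ c, Φ.Lng c) (X : M2) : Φ.adj1 X = X.trace • 1 - X := by
  have h1 : Φ.sg 1 = -Φ.sg 0 := by rw [← rev_two, Φ.sg_rev, eps_two hL]; ring
  have h0 := Φ.sg_sq 0
  ext x y
  rw [Φ.adj1_apply, sigma_two hL]
  fin_cases x <;> fin_cases y <;>
    simp [Matrix.trace, Fin.sum_univ_two, h1, h0, rev_two, rev_two']
  all_goals linear_combination (-(X _ _)) * h0

/-- A matrix of determinant one is in the factor group of a symplectic plane. -/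
theorem si_two (hL : ∀ c, Φ.Lng c) {s : GL (Fin 2) F} (hs : (s : M2).det = 1) : Φ.SI s := by
  refine ⟨?_, hs⟩
  show Φ.adj1 (s : M2) * (s : M2) = 1
  rw [Matrix.det_fin_two] at hs
  rw [adj1_two hL]
  ext x y
  fin_cases x <;> fin_cases y <;>
    simp [Matrix.trace, Fin.sum_univ_two, Matrix.mul_apply] <;> first | linear_combination hs | ring1

theorem gl_two (A : M2) (h : A.det = 1) : ∃ s : GL (Fin 2) F, (s : M2) = A ∧ (s : M2).det = 1 :=
  ⟨Matrix.GeneralLinearGroup.mkOfDetNeZero A (h.trans_ne one_ne_zero), rfl, h⟩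

theorem E_mul_bl (j : Fin t) (Y : MT2) (a b c d : Fin 2) :
    E[j](a, b) * Y * E[j](c, d) = E[j](a, d) * bl j Y b c := by
  rw [bl, Finset.mul_sum, Finset.sum_eq_single d]
  · rw [← mul_assoc, ← mul_assoc, fs_mul, if_pos rfl]
  · intro r _ hr; rw [← mul_assoc, ← mul_assoc, fs_mul, if_neg (Ne.symm hr), zero_mul, zero_mul]
  · simp

variable {G : Subgroup (GL (Fin t → Fin 2) F)} {i : Fin t}

/-- A non-scalar radical block is a non-scalar long root block. -/
theorem long_nonscalar_two (hH : Φ.Hyp G) (hS : ¬ ScalAt G i (0 : Fin 2)) :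
    ∃ Z : MT2, IsLong G i (0 : Fin 2) Z ∧ ∀ c : F, Z ≠ c • 1 := by
  have ha : (0 : Fin 2) ≠ (0 : Fin 2).rev := by decide
  unfold ScalAt at hS
  push Not at hS
  obtain ⟨g, hg, hr, x, y, hns⟩ := hS
  obtain ⟨e, hZ⟩ := long_of_row_zero (Φ := Φ) ha (hH.iso g hg) hg hr fun v hv => (mid_two hv).elim
  refine ⟨_, hZ, fun c hc => hns ((1 + c • Matrix.single (0 : Fin 2) (0 : Fin 2).rev (1 : F) : M2) x y) ?_⟩
  rw [← bl_fa i, map_add, map_one, map_smul]
  conv_lhs => rw [e, hc, Matrix.mul_smul, mul_one]

section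

variable (hH : Φ.Hyp G) (hL : ∀ c, Φ.Lng c) (h2 : (2 : F) ≠ 0)
include hH hL h2

theorem IsLong.smul_two (c : F) {Z : MT2} (hZ : IsLong G i (0 : Fin 2) Z) : IsLong G i (0 : Fin 2) (c • Z) := by
  have ha : (0 : Fin 2) ≠ (0 : Fin 2).rev := by decide
  have sq : ∀ a : F, IsLong G i (0 : Fin 2) ((a * a) • Z) := by
    intro a
    rcases eq_or_ne a 0 with rfl | ha0
    · rw [mul_zero, zero_smul]; exact (longGroup G i ha).zero_mem
    obtain ⟨d, hd, hdd⟩ := gl_two (!![a, 0; 0, a⁻¹] : M2) (by simp [Matrix.det_fin_two, ha0])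
    have hdS : Φ.SI d := si_two hL hdd
    have hdi : ((d⁻¹ : GL (Fin 2) F) : M2) = !![a⁻¹, 0; 0, a] := by
      refine Units.inv_eq_of_mul_eq_one_right ?_
      rw [hd]
      ext x y; fin_cases x <;> fin_cases y <;> simp [Matrix.mul_apply, Fin.sum_univ_two, ha0]
    obtain ⟨hc, g, hg, hgv⟩ := hZ
    refine ⟨fun X => (hc X).smul_left _, fu i d * g * (fu i d)⁻¹,
      mul_mem (mul_mem (hH.roots i d hdS) hg) (inv_mem (hH.roots i d hdS)), ?_⟩
    have e : (d : M2) * Matrix.single (0 : Fin 2) (0 : Fin 2).rev 1 * ((d⁻¹ : GL (Fin 2) F) : M2) =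
        (a * a) • Matrix.single (0 : Fin 2) (0 : Fin 2).rev (1 : F) := by
      rw [hd, hdi, rev_two]
      ext x y; fin_cases x <;> fin_cases y <;> simp [Matrix.mul_apply, Fin.sum_univ_two, Matrix.vecMul, dotProduct]
    rw [Units.val_mul, Units.val_mul, hgv, ← map_inv, fu_val, fu_val, mul_add, add_mul, mul_one, ← map_mul,
      Units.mul_inv, map_one, mul_assoc (fa i (d : M2)), mul_assoc (E[i](_, _)), (hc _).eq,
      ← mul_assoc (E[i](_, _)), ← mul_assoc (fa i (d : M2)), ← map_mul, ← map_mul, ← mul_assoc, e, map_smul,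
      Matrix.smul_mul, Matrix.mul_smul]
  have h := (longGroup G i ha).sub_mem (sq ((c + 1) / 2)) (sq ((c - 1) / 2))
  have e : (c + 1) / 2 * ((c + 1) / 2) - (c - 1) / 2 * ((c - 1) / 2) = c := by field_simp; ring
  rwa [← sub_smul, e] at h

/-- The long root blocks of a two-dimensional factor, as a subspace. -/
def longSub (i : Fin t) : Submodule F (Matrix (Fin t → Fin 2) (Fin t → Fin 2) F) where
  carrier := {Z | IsLong G i (0 : Fin 2) Z}
  add_mem' hY hZ := (longGroup G i (show (0 : Fin 2) ≠ (0 : Fin 2).rev by decide)).add_mem hY hZ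
  zero_mem' := (longGroup G i (show (0 : Fin 2) ≠ (0 : Fin 2).rev by decide)).zero_mem
  smul_mem' c _ hZ := IsLong.smul_two hH hL h2 c hZ

local notation "LS" => longSub hH hL h2 i

theorem longSub.one_mem : (1 : MT2) ∈ LS := by
  have := isLong_scalar (i := i) hH (show (0 : Fin 2) ≠ (0 : Fin 2).rev by decide) (hL 1)
  rwa [one_smul] at this

theorem longSub.conj {j : Fin t} (hj : j ≠ i) {s : GL (Fin 2) F} (hs : Φ.SI s) {Y : MT2} (hY : Y ∈ LS) :
    Ad (fu j s) Y ∈ LS :=
  (long_invariant (show (0 : Fin 2) ≠ (0 : Fin 2).rev by decide) hH).conj j hj s hs Y hY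

/-- Brackets and sandwiches with a root matrix of another factor. -/
theorem longSub.ops {j : Fin t} (hj : j ≠ i) {N : M2} (hN : N * N = 0) (hNd : ∀ c : F, (1 + c • N).det = 1)
    {Y : MT2} (hY : Y ∈ LS) : fa j N * Y - Y * fa j N ∈ LS ∧ fa j N * Y * fa j N ∈ LS := by
  have hNN : fa j N * fa j N = (0 : MT2) := by rw [← map_mul, hN, map_zero]
  have h : ∀ c : F, Y + (c • (fa j N * Y - Y * fa j N) - (c * c) • (fa j N * Y * fa j N)) ∈ LS := by
    intro c
    have hc : (c • N) * (c • N) = 0 := by rw [Matrix.smul_mul, Matrix.mul_smul, hN, smul_zero, smul_zero]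
    have hcT : (c • fa j N) * (c • fa j N) = (0 : MT2) := by
      rw [Matrix.smul_mul, Matrix.mul_smul, hNN, smul_zero, smul_zero]
    have hm := longSub.conj hH hL h2 hj (si_two hL (s := one_add _ hc) (hNd c)) hY
    have e : fu j (one_add _ hc) = one_add _ hcT := Units.ext (by
      rw [fu_val, one_add_val, one_add_val, map_add, map_one, map_smul])
    rw [e, Ad_one_add] at hm
    simpa [Matrix.smul_mul, Matrix.mul_smul, smul_smul, smul_sub] using hm
  have hp := Submodule.sub_mem LS (h 1) hY
  have hn := Submodule.sub_mem LS (h (-1)) hY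
  rw [add_sub_cancel_left] at hp hn
  simp only [one_mul, one_smul, neg_mul_neg, neg_one_smul] at hp hn
  constructor
  · have h3 := Submodule.smul_mem LS (2 : F)⁻¹ (Submodule.sub_mem LS hp hn)
    have e : (fa j N * Y - Y * fa j N - fa j N * Y * fa j N) -
        (-(fa j N * Y - Y * fa j N) - fa j N * Y * fa j N) = (2 : F) • (fa j N * Y - Y * fa j N) := by module
    rwa [e, inv_smul_smul₀ h2] at h3
  · have h3 := Submodule.smul_mem LS (-(2 : F))⁻¹ (Submodule.add_mem LS hp hn)
    have e : (fa j N * Y - Y * fa j N - fa j N * Y * fa j N) +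
        (-(fa j N * Y - Y * fa j N) - fa j N * Y * fa j N) = (-(2 : F)) • (fa j N * Y * fa j N) := by module
    rwa [e, inv_smul_smul₀ (neg_ne_zero.2 h2)] at h3

theorem det_eU (c : F) : (1 + c • eU : M2).det = 1 := by simp [Matrix.det_fin_two]

theorem det_fL (c : F) : (1 + c • fL : M2).det = 1 := by simp [Matrix.det_fin_two]

/-- The part without trace on a factor can be removed. -/
theorem longSub.trace_part {j : Fin t} (hj : j ≠ i) {Y : MT2} (hY : Y ∈ LS) :
    bl j Y 0 0 + bl j Y 1 1 ∈ LS := by
  set e : MT2 := fa j eU with he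
  set f : MT2 := fa j fL with hf
  have hee : eU * eU = (0 : M2) := single_sq (by decide) 1
  have hff : fL * fL = (0 : M2) := single_sq (by decide) 1
  have De : ∀ Y, Y ∈ LS → e * Y - Y * e ∈ LS := fun Y hY =>
    (longSub.ops hH hL h2 hj hee (det_eU hH hL h2) hY).1
  have Df : ∀ Y, Y ∈ LS → f * Y - Y * f ∈ LS := fun Y hY =>
    (longSub.ops hH hL h2 hj hff (det_fL hH hL h2) hY).1
  set h : MT2 := E[j](0, 0) - E[j](1, 1) with hh
  have hef : e * f - f * e = h := by rw [he, hf, fs_mul, if_pos rfl, fs_mul, if_pos rfl]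
  have Dh : ∀ Y, Y ∈ LS → h * Y - Y * h ∈ LS := fun Y hY => by
    have := Submodule.sub_mem LS (De _ (Df Y hY)) (Df _ (De Y hY))
    convert this using 1
    rw [← hef]
    simp only [mul_sub, sub_mul, mul_assoc]
    abel
  have := Submodule.sub_mem LS (Submodule.smul_mem LS 2 hY) (Submodule.smul_mem LS (2 : F)⁻¹
    (Submodule.add_mem LS (Submodule.add_mem LS (De _ (Df Y hY)) (Df _ (De Y hY)))
      (Submodule.smul_mem LS (2 : F)⁻¹ (Dh _ (Dh Y hY)))))
  convert this using 1
  have hone : ∀ C : MT2, (∀ X, Commute C (fa j X)) → ∀ x y, bl j C x y = if x = y then C else 0 := by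
    intro C hC x y
    rw [← one_mul C, ← map_one (fa (F := F) (m := 2) j), bl_fa_mul j _ hC, Matrix.one_apply]
    split <;> simp
  refine bl_ext j fun x y => ?_
  rw [hone _ (fun X => (bl_commute j _ _ _ X).add_left (bl_commute j _ _ _ X))]
  fin_cases x <;> fin_cases y <;>
    simp [he, hf, hh, bl_sub, bl_add, bl_smul, bl_fa_left, bl_fa_right, Fin.sum_univ_two, Matrix.single_apply,
      smul_sub, smul_add, sub_smul, mul_sub, sub_mul] <;>
    (try module) <;>
    (match_scalars <;> field_simp <;> norm_num)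

/-- A non-scalar long root block yields a pattern. -/
theorem exists_pattern_two (U : Finset (Fin t)) (hU : i ∉ U) :
    ∀ (S : Finset (Fin t)) (C : MT2), Disjoint S U → i ∉ S → C ≠ 0 → (∀ l ∉ U, ∀ X, Commute C (fa l X)) →
      onSet S eU * C ∈ LS → ∃ S', i ∉ S' ∧ onSet S' eU ∈ LS ∧ S ⊆ S' ∧ ((∀ c : F, C ≠ c • 1) → S'.Nonempty) := by
  classical
  induction U using Finset.induction_on with
  | empty =>
    intro S C _ hiS hC0 hC hm
    obtain ⟨c, rfl⟩ := scalar_of_commute fun l X => hC l (Finset.notMem_empty l) X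
    have hc : c ≠ 0 := fun h => hC0 (by rw [h, zero_smul])
    rw [Matrix.mul_smul, mul_one] at hm
    refine ⟨S, hiS, ?_, subset_rfl, fun h => absurd rfl (h c)⟩
    have := Submodule.smul_mem LS c⁻¹ hm
    rwa [inv_smul_smul₀ hc] at this
  | insert j U hjU ih =>
    intro S C hd hiS hC0 hC hm
    rw [Finset.mem_insert, not_or] at hU
    have hji : j ≠ i := Ne.symm hU.1
    rw [Finset.disjoint_insert_right] at hd
    by_cases hcj : ∀ X, Commute C (fa j X)
    · refine ih hU.2 S C hd.2 hiS hC0 (fun l hl => ?_) hm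
      by_cases h : l = j
      · subst h; exact hcj
      · exact hC l (fun hh => (Finset.mem_insert.1 hh).elim h hl)
    have hPc : ∀ X, Commute (onSet S eU : MT2) (fa j X) := fun X => commute_pureMat_fa _ (if_neg hd.1) X
    obtain ⟨s, hs, hne⟩ : ∃ s : GL (Fin 2) F, Φ.SI s ∧ bl j (Ad (fu j s) C) 1 0 ≠ 0 := by
      by_cases h10 : bl j C 1 0 = 0
      swap
      · exact ⟨1, Φ.si_one, by rwa [map_one, Ad_one]⟩
      have blc : ∀ s : GL (Fin 2) F, bl j (Ad (fu j s) C) 1 0 = ∑ v, ((s⁻¹ : GL (Fin 2) F) : M2) v 0 •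
          ∑ z, (s : M2) 1 z • bl j C z v := fun s => by
        rw [Ad_apply, ← map_inv, fu_val, fu_val, bl_fa_right]
        simp only [bl_fa_left]
      by_cases h01 : bl j C 0 1 = 0
      swap
      · obtain ⟨w, hw, hwd⟩ := gl_two (!![0, 1; -1, 0] : M2) (by simp [Matrix.det_fin_two])
        refine ⟨w, si_two hL hwd, ?_⟩
        have hwi : ((w⁻¹ : GL (Fin 2) F) : M2) = !![0, -1; 1, 0] := by
          refine Units.inv_eq_of_mul_eq_one_right ?_
          rw [hw]; ext x y; fin_cases x <;> fin_cases y <;> simp [Matrix.mul_apply, Fin.sum_univ_two]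
        rw [blc, hw, hwi]
        simpa [Fin.sum_univ_two] using h01
      obtain ⟨w, hw, hwd⟩ := gl_two (!![1, 0; 1, 1] : M2) (by simp [Matrix.det_fin_two])
      refine ⟨w, si_two hL hwd, ?_⟩
      have hwi : ((w⁻¹ : GL (Fin 2) F) : M2) = !![1, 0; -1, 1] := by
        refine Units.inv_eq_of_mul_eq_one_right ?_
        rw [hw]; ext x y; fin_cases x <;> fin_cases y <;> simp [Matrix.mul_apply, Fin.sum_univ_two]
      rw [blc, hw, hwi]
      simp [Fin.sum_univ_two, h10, h01, ← sub_eq_add_neg, sub_eq_zero]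
      intro he
      refine hcj fun X => ?_
      have e : C = bl j C 0 0 := by
        refine bl_ext j fun x y => ?_
        conv_rhs => rw [← one_mul (bl j C 0 0), ← map_one (fa (F := F) (m := 2) j),
          bl_fa_mul j _ (bl_commute j C 0 0)]
        fin_cases x <;> fin_cases y <;> simp [h10, h01, he]
      rw [e]; exact bl_commute j C 0 0 X
    set D := Ad (fu j s) C with hD
    set C' := bl j D 1 0 with hC'
    have hC'c : ∀ l ∉ U, ∀ X, Commute C' (fa l X) := by
      intro l hl X
      by_cases h : l = j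
      · subst h; exact bl_commute _ _ _ _ X
      have hDc : Commute D (fa l X) :=
        Ad_cent (Ne.symm h) s (hC l (fun hh => (Finset.mem_insert.1 hh).elim h hl)) X
      show C' * _ = _ * C'
      rw [hC', ← bl_mul_commute j D (fun Y => fa_commute h X Y), hDc.eq, commute_mul_bl j D fun Y => fa_commute h X Y]
    have hm' : onSet (insert j S) eU * C' ∈ LS := by
      have h1 := longSub.conj hH hL h2 hji hs hm
      have h2' : Ad (fu j s) (onSet S eU * C) = onSet S eU * D := by
        rw [Ad_mul_apply]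
        congr 1
        rw [Ad_apply, fu_val, ← (hPc _).eq, mul_assoc, ← map_inv, fu_val, ← map_mul, Units.mul_inv, map_one,
          mul_one]
      rw [h2'] at h1
      have h3 := (longSub.ops hH hL h2 hji (single_sq (show (0 : Fin 2) ≠ 1 by decide) 1) (det_eU hH hL h2) h1).2
      have e : onSet (insert j S) eU = onSet S eU * fa j eU := by
        rw [onSet, onSet, pureMat_mul_fa _ (if_neg hd.1)]
        refine congrArg pureMat (funext fun l => ?_)
        by_cases hl : l = j
        · subst hl; simp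
        · simp [hl]
      rw [e, mul_assoc, hC', ← E_mul_bl]
      convert h3 using 1
      simp only [← mul_assoc]
      rw [(hPc _).eq]
    obtain ⟨S', hi', hS', hsub, -⟩ := ih hU.2 (insert j S) C' (Finset.disjoint_insert_left.2 ⟨hjU, hd.2⟩)
      (fun h => (Finset.mem_insert.1 h).elim hU.1 hiS) hne hC'c hm'
    exact ⟨S', hi', hS', (Finset.subset_insert _ _).trans hsub, fun _ => ⟨j, hsub (Finset.mem_insert_self _ _)⟩⟩

/-- All patterns of a set from one. -/
theorem longSub.pattern (V : Finset (Fin t)) {S : Finset (Fin t)} (hiS : i ∉ S) (hS : onSet S eU ∈ LS) :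
    V ⊆ S → ∀ X : Fin t → M2, (∀ l ∈ V, (X l).trace = 0) → (∀ l ∈ S, l ∉ V → X l = eU) → (∀ l ∉ S, X l = 1) →
      pureMat X ∈ LS := by
  classical
  induction V using Finset.induction_on with
  | empty =>
    intro _ X _ hXe hX1
    rw [show pureMat X = onSet S eU from congrArg pureMat (funext fun l => by
      by_cases h : l ∈ S
      · rw [if_pos h]; exact hXe l h (Finset.notMem_empty l)
      · rw [if_neg h]; exact hX1 l h)]
    exact hS
  | insert j V hjV ih =>
    intro hsub X hXt hXe hX1
    rw [Finset.insert_subset_iff] at hsub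
    have hji : j ≠ i := fun h => hiS (h ▸ hsub.1)
    set C : MT2 := pureMat (Function.update X j 1) with hC
    have hCc : ∀ Y, Commute C (fa j Y) := fun Y => commute_pureMat_fa _ (Function.update_self ..) Y
    have hCY : ∀ Y, fa j Y * C = pureMat (Function.update X j Y) := fun Y => by
      rw [← (hCc Y).eq, hC, pureMat_mul_fa _ (Function.update_self ..), Function.update_idem]
    let W : Submodule F M2 := Submodule.comap ((LinearMap.mulRight F C).comp (fa j).toLinearMap) LS
    have hW : ∀ Y, Y ∈ W ↔ fa j Y * C ∈ LS := fun Y => Iff.rfl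
    have hXj : fa j (X j) * C = pureMat X := by rw [hCY, Function.update_eq_self]
    rw [← hXj, ← hW]
    refine sl2_le h2 hL W (fun s hs Y hY => ?_) ?_ (hXt j (Finset.mem_insert_self j V))
    · rw [hW] at hY ⊢
      have h := longSub.conj hH hL h2 hji hs hY
      rwa [Ad_mul_apply, Ad_fu_fa, show Ad (fu j s) C = C by
        rw [Ad_apply, fu_val, ← (hCc _).eq, mul_assoc, ← map_inv, fu_val, ← map_mul, Units.mul_inv, map_one,
          mul_one]] at h
    · rw [hW, hCY]
      refine ih hsub.2 _ (fun l hl => ?_) (fun l hlS hl => ?_) fun l hl => ?_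
      · rw [Function.update_of_ne (fun e : l = j => hjV (e ▸ hl))]
        exact hXt l (Finset.mem_insert_of_mem hl)
      · by_cases e : l = j
        · subst e; rw [Function.update_self]
        · rw [Function.update_of_ne e]
          exact hXe l hlS (fun h => (Finset.mem_insert.1 h).elim e hl)
      · rw [Function.update_of_ne (fun e : l = j => hl (e ▸ hsub.1))]
        exact hX1 l hl

/-- Levi elements act as Jordan multiplications. -/
theorem longSub.jordan {M Z : MT2} (hM : M ∈ LS) (hM2 : M * M = 0) (hZ : Z ∈ LS) : M * Z + Z * M ∈ LS := by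
  have ha : (0 : Fin 2) ≠ (0 : Fin 2).rev := by decide
  have step : ∀ N : MT2, IsLong G i (0 : Fin 2) N → N * N = 0 → (1 + N) * Z * (1 + N) ∈ LS := by
    intro N hN hN2
    have c0 : ∀ X, Commute (0 : MT2) (fa i X) := fun X => Commute.zero_left _
    have c1 : ∀ X, Commute (1 : MT2) (fa i X) := fun X => Commute.one_left _
    have cp : ∀ X, Commute (1 + N) (fa i X) := fun X => (c1 X).add_left (hN.1 X)
    have cm : ∀ X, Commute (1 - N) (fa i X) := fun X => (c1 X).sub_left (hN.1 X)
    have hZc : ∀ X, Commute Z (fa i X) := hZ.1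
    have l1 := levi_mem hH ha one_ne_zero (hL 1) hN hN2
    have l2 := levi_mem hH ha one_ne_zero (hL 1) ((longGroup G i ha).neg_mem hN) (by rw [neg_mul_neg, hN2])
    simp only [inv_one, one_smul, sub_neg_eq_add, ← sub_eq_add_neg] at l1 l2
    have key := (l1.mul (IsLong.upper hZ)).mul l2
    rw [hyp_mul ha cp c0 c0 cm] at key
    simp only [mul_one, mul_zero, zero_mul, add_zero, zero_add] at key
    rw [hyp_mul ha cp (fun X => (cp X).mul_left (hZc X)) c0 cm] at key
    simp only [mul_one, mul_zero, zero_mul, add_zero, zero_add] at key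
    rw [show (1 + N) * (1 - N) = 1 by simp [add_mul, mul_sub, hN2],
      show (1 - N) * (1 + N) = 1 by simp [sub_mul, mul_add, hN2], hyp_upper] at key
    exact ⟨fun X => ((cp X).mul_left (hZc X)).mul_left (cp X), key⟩
  have hp := step M hM hM2
  have hn := step (-M) ((longGroup G i ha).neg_mem hM) (by rw [neg_mul_neg, hM2])
  have h := Submodule.smul_mem LS (2 : F)⁻¹ (Submodule.sub_mem LS hp hn)
  have e : (1 + M) * Z * (1 + M) - (1 + -M) * Z * (1 + -M) = (2 : F) • (M * Z + Z * M) := by
    rw [two_smul]; simp only [add_mul, mul_add, one_mul, mul_one, neg_mul, mul_neg, neg_neg]; abel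
  rwa [e, inv_smul_smul₀ h2] at h

theorem onSet_sq {S : Finset (Fin t)} (hS : S.Nonempty) : (onSet S eU : MT2) * onSet S eU = 0 := by
  obtain ⟨j, hj⟩ := hS
  rw [onSet, pureMat_mul]
  exact Matrix.ext fun x y => by
    rw [pureMat_apply, Matrix.zero_apply]
    exact Finset.prod_eq_zero (Finset.mem_univ j)
      (by rw [Pi.mul_apply, if_pos hj, single_sq (show (0 : Fin 2) ≠ 1 by decide), Matrix.zero_apply])

/-- The patterns are of even size. -/
theorem even_pattern {S : Finset (Fin t)} (hS : onSet S eU ∈ LS) : Even S.card := by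
  classical
  by_contra hodd
  rw [Nat.not_even_iff_odd] at hodd
  have hsk := IsLong.skew hH (show (0 : Fin 2) ≠ (0 : Fin 2).rev by decide) hS
  have he : Φ.adj1 eU = (-1 : F) • eU := by
    rw [adj1_two hL]; simp [Matrix.trace, Fin.sum_univ_two]
  have hadj : Φ.adj (onSet S eU : MT2) = (-1 : F) • onSet S eU := by
    have e : (fun l => Φ.adj1 (if l ∈ S then eU else 1)) =
        fun l => (if l ∈ S then (-1 : F) else 1) • (if l ∈ S then eU else 1) := funext fun l => by
      split
      · exact he
      · rw [Φ.adj1_one, one_smul]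
    rw [onSet, Φ.adj_pureMat, e, pureMat_smul, ← Finset.prod_filter, Finset.filter_mem_eq_inter, Finset.univ_inter,
      Finset.prod_const, hodd.neg_one_pow]
  rw [hadj, eps_two hL, smul_smul, neg_mul_neg, one_mul, one_smul] at hsk
  have h0 : (2 : F) • (onSet S eU : MT2) = 0 := by rw [two_smul]; exact hsk
  have h1 := (smul_eq_zero.1 h0).resolve_left h2
  have h3 := congrFun (congrFun h1 fun _ => 0) fun l => if l ∈ S then 1 else 0
  rw [onSet, pureMat_apply, Matrix.zero_apply, Finset.prod_eq_one] at h3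
  · exact one_ne_zero h3
  · intro l _; split_ifs <;> simp

/-- A pattern of two factors. -/
theorem exists_pair_pattern {S : Finset (Fin t)} (hiS : i ∉ S) (hne : S.Nonempty) (hS : onSet S eU ∈ LS) :
    ∃ p q, p ≠ q ∧ p ≠ i ∧ q ≠ i ∧ onSet {p, q} eU ∈ LS := by
  classical
  have hfS : onSet S fL ∈ LS :=
    longSub.pattern hH hL h2 S hiS hS subset_rfl _
      (fun l hl => by rw [if_pos hl]; simp [Matrix.trace, Fin.sum_univ_two])
      (fun l hl h => absurd hl h) fun l hl => if_neg hl
  have hJ := longSub.jordan hH hL h2 hS (onSet_sq hH hL h2 hne) hfS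
  have eprod : ∀ A B : M2, (onSet S A : MT2) * onSet S B = onSet S (A * B) := fun A B => by
    rw [onSet, onSet, onSet, pureMat_mul]
    exact congrArg pureMat (funext fun l => by by_cases h : l ∈ S <;> simp [h])
  rw [eprod, eprod, Matrix.single_mul_single_same, Matrix.single_mul_single_same, one_mul] at hJ
  have step : ∀ T : Finset (Fin t), 2 ≤ T.card → i ∉ T → ∀ j ∈ T,
      onSet T (Matrix.single (0 : Fin 2) 0 (1 : F)) + onSet T (Matrix.single (1 : Fin 2) 1 (1 : F)) ∈ LS →
      onSet (T.erase j) (Matrix.single (0 : Fin 2) 0 (1 : F)) +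
        onSet (T.erase j) (Matrix.single (1 : Fin 2) 1 (1 : F)) ∈ LS := by
    intro T _ hiT j hj h
    have hji : j ≠ i := fun e => hiT (e ▸ hj)
    have e : ∀ X : M2, (onSet T X : MT2) = fa j X * onSet (T.erase j) X := fun X => by
      have hc : Commute (onSet (T.erase j) X : MT2) (fa j X) :=
        commute_pureMat_fa _ (if_neg (Finset.notMem_erase j T)) X
      rw [← hc.eq, onSet, onSet, pureMat_mul_fa _ (if_neg (Finset.notMem_erase j T))]
      refine congrArg pureMat (funext fun l => ?_)
      by_cases hl : l = j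
      · subst hl; simp [hj]
      · simp [hl]
    have h3 := longSub.trace_part hH hL h2 hji h
    have hb : ∀ (X : M2) (x : Fin 2), bl j (onSet T X : MT2) x x = X x x • onSet (T.erase j) X := fun X x => by
      have hc : ∀ Y, Commute (onSet (T.erase j) X : MT2) (fa j Y) := fun Y =>
        commute_pureMat_fa _ (if_neg (Finset.notMem_erase j T)) Y
      rw [e, bl_fa_mul j _ hc]
    simpa [bl_add, hb] using h3
  have down : ∀ n : ℕ, ∀ T : Finset (Fin t), T.card = n + 2 → i ∉ T →
      onSet T (Matrix.single (0 : Fin 2) 0 (1 : F)) + onSet T (Matrix.single (1 : Fin 2) 1 (1 : F)) ∈ LS →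
      ∃ p q, p ≠ q ∧ p ≠ i ∧ q ≠ i ∧
        onSet {p, q} (Matrix.single (0 : Fin 2) 0 (1 : F)) + onSet {p, q} (Matrix.single (1 : Fin 2) 1 (1 : F)) ∈ LS := by
    intro n
    induction n with
    | zero =>
      intro T hT hiT h
      obtain ⟨p, q, hpq, rfl⟩ := Finset.card_eq_two.1 hT
      simp only [Finset.mem_insert, Finset.mem_singleton, not_or] at hiT
      exact ⟨p, q, hpq, Ne.symm hiT.1, Ne.symm hiT.2, h⟩
    | succ n ih =>
      intro T hT hiT h
      obtain ⟨j, hj⟩ := Finset.card_pos.1 (show 0 < T.card by omega)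
      exact ih (T.erase j) (by rw [Finset.card_erase_of_mem hj]; omega) (fun h => hiT (Finset.mem_of_mem_erase h))
        (step T (by omega) hiT j hj h)
  obtain ⟨r, hr⟩ := even_pattern hH hL h2 hS
  have hpos := hne.card_pos
  obtain ⟨p, q, hpq, hp, hq, hY⟩ := down (S.card - 2) S (by omega) hiS hJ
  refine ⟨p, q, hpq, hp, hq, ?_⟩
  have e2 : ∀ X : M2, (onSet {p, q} X : MT2) = fa p X * fa q X := fun X => by
    rw [onSet, fa_eq, fa_eq, pureMat_mul]
    refine congrArg pureMat (funext fun l => ?_)
    by_cases h1 : l = p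
    · subst h1; simp [hpq]
    · by_cases h3 : l = q
      · subst h3; simp [h1]
      · simp [h1, h3]
  rw [e2, e2] at hY
  set hd : M2 := Matrix.single 0 0 1 - Matrix.single 1 1 1 with hhd
  have h1 : fa p hd * fa q hd ∈ LS := by
    have := Submodule.sub_mem LS (Submodule.smul_mem LS 2 hY) (longSub.one_mem hH hL h2)
    convert this using 1
    have one_eq : ∀ r : Fin t, (1 : MT2) = E[r](0, 0) + E[r](1, 1) := fun r => by
      rw [← fs_sum r, Fin.sum_univ_two]
    rw [← mul_one (1 : MT2)]
    nth_rw 1 [one_eq p]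
    rw [one_eq q, hhd, map_sub, map_sub, two_smul]
    simp only [add_mul, mul_add, sub_mul, mul_sub]
    abel
  have hee : eU * eU = (0 : M2) := single_sq (show (0 : Fin 2) ≠ 1 by decide) 1
  have hbr : eU * hd - hd * eU = (-2 : F) • eU := by
    ext x y; fin_cases x <;> fin_cases y <;> simp [hd, Matrix.mul_apply, Fin.sum_univ_two] <;> ring
  have h3 := (longSub.ops hH hL h2 hp hee (det_eU hH hL h2) h1).1
  rw [← mul_assoc, ← map_mul, mul_assoc _ (fa q hd), ← (fa_commute hpq eU hd).eq, ← mul_assoc, ← map_mul,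
    ← sub_mul, ← map_sub, hbr, map_smul, Matrix.smul_mul] at h3
  have h4 := Submodule.smul_mem LS (-2 : F)⁻¹ h3
  rw [inv_smul_smul₀ (neg_ne_zero.2 h2)] at h4
  have h5 := (longSub.ops hH hL h2 hq hee (det_eU hH hL h2) h4).1
  rw [← mul_assoc, ← (fa_commute hpq eU eU).eq, mul_assoc, ← map_mul, mul_assoc, ← map_mul, ← mul_sub,
    ← map_sub, hbr, map_smul, Matrix.mul_smul] at h5
  have h6 := Submodule.smul_mem LS (-2 : F)⁻¹ h5
  rw [inv_smul_smul₀ (neg_ne_zero.2 h2)] at h6
  rwa [e2]

theorem longSub.perm {π : Equiv.Perm (Fin t)} (hperm : permGL 2 F π ∈ G) (hπ : π i = i)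
    {Y : MT2} (hY : Y ∈ LS) : Ad (permGL 2 F π) Y ∈ LS := by
  obtain ⟨hc, g, hg, hgv⟩ := hY
  have hfa : ∀ X, Ad (permGL 2 F π) (fa i X : MT2) = fa i X := fun X => by
    have := Ad_wr_fa (1 : Fin t → GL (Fin 2) F) π i X
    rw [hπ, pureGL_one, one_mul] at this
    simpa using this
  refine ⟨fun X => ?_, permGL 2 F π * g * (permGL 2 F π)⁻¹, mul_mem (mul_mem hperm hg) (inv_mem hperm), ?_⟩
  · rw [← hfa X, Commute, SemiconjBy, ← Ad_mul_apply, ← Ad_mul_apply, (hc X).eq]
  · rw [Units.val_mul, Units.val_mul, hgv, mul_add, add_mul, mul_one, Units.mul_inv, ← Ad_apply, Ad_mul_apply, hfa]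

/-- All patterns of even size. -/
theorem all_patterns (hperm : ∀ a b x y : Fin t, a ≠ b → x ≠ y → permGL 2 F (Equiv.swap a b * Equiv.swap x y) ∈ G) (hS : ¬ ScalAt G i (0 : Fin 2))
    {S : Finset (Fin t)} (hiS : i ∉ S) (hev : Even S.card) : onSet S eU ∈ LS := by
  classical
  obtain ⟨Z, hZ, hns⟩ := long_nonscalar_two hH hS
  obtain ⟨S₀, hi₀, hS₀, -, hne₀⟩ := exists_pattern_two hH hL h2 (i := i) (Finset.univ.erase i)
    (Finset.notMem_erase i _) ∅ Z (Finset.disjoint_empty_left _) (Finset.notMem_empty i)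
    (fun h => hns 0 (by rw [h, zero_smul]))
    (fun l hl X => by
      obtain rfl : l = i := by simpa using hl
      exact hZ.1 X)
    (by
      rw [show (onSet ∅ eU : MT2) = 1 by
        rw [onSet]
        simp only [Finset.notMem_empty, if_false]
        exact pureMat_one, one_mul]
      exact hZ)
  obtain ⟨p, q, hpq, hp, hq, hpair⟩ := exists_pair_pattern hH hL h2 hi₀ (hne₀ hns) hS₀
  have all2 : ∀ p' q', p' ≠ q' → p' ≠ i → q' ≠ i → onSet {p', q'} eU ∈ LS := by
    intro p' q' hpq' hp' hq'
    set π₁ := Equiv.swap p p' with hπ₁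
    have h1i : π₁ i = i := Equiv.swap_apply_of_ne_of_ne (Ne.symm hp) (Ne.symm hp')
    have h1q : π₁ q ≠ p' := fun h => hpq (π₁.injective (by rw [hπ₁, Equiv.swap_apply_left]; exact h.symm))
    have h1qi : π₁ q ≠ i := fun h => hq (π₁.injective (h.trans h1i.symm))
    set π := Equiv.swap (π₁ q) q' * π₁ with hπ
    have hπi : π i = i := by
      rw [hπ, Equiv.Perm.mul_apply, h1i, Equiv.swap_apply_of_ne_of_ne (Ne.symm h1qi) (Ne.symm hq')]
    have hπp : π p = p' := by
      rw [hπ, Equiv.Perm.mul_apply, hπ₁, Equiv.swap_apply_left, ← hπ₁,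
        Equiv.swap_apply_of_ne_of_ne (Ne.symm h1q) hpq']
    have hπq : π q = q' := by rw [hπ, Equiv.Perm.mul_apply, Equiv.swap_apply_left]
    obtain ⟨σ, hσG, hσi, hσS⟩ : ∃ σ : Equiv.Perm (Fin t), permGL 2 F σ ∈ G ∧ σ i = i ∧
        ({p', q'} : Finset (Fin t)) = ({p, q} : Finset (Fin t)).image σ := by
      have hs : Equiv.swap p q i = i := Equiv.swap_apply_of_ne_of_ne (Ne.symm hp) (Ne.symm hq)
      by_cases c1 : p = p'
      · have e1 : π₁ = 1 := by rw [hπ₁, ← c1, Equiv.swap_self]; rfl
        rw [e1, mul_one] at hπ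
        by_cases c2 : π₁ q = q'
        · refine ⟨1, by rw [permGL_one]; exact one_mem G, rfl, ?_⟩
          rw [e1] at c2
          simp [← c1, ← c2]
        · refine ⟨π * Equiv.swap p q, ?_, ?_, ?_⟩
          · rw [hπ]; exact hperm _ _ _ _ (by rwa [e1] at c2) hpq
          · rw [Equiv.Perm.mul_apply, hs, hπi]
          · rw [Finset.image_insert, Finset.image_singleton]
            simp [hπp, hπq, Finset.pair_comm]
      · by_cases c2 : π₁ q = q'
        · refine ⟨π₁ * Equiv.swap p q, hperm _ _ _ _ c1 hpq, ?_, ?_⟩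
          · rw [Equiv.Perm.mul_apply, hs, h1i]
          · rw [Finset.image_insert, Finset.image_singleton]
            have : π₁ p = p' := Equiv.swap_apply_left p p'
            simp [this, c2, Finset.pair_comm]
        · refine ⟨π, by rw [hπ, hπ₁]; exact hperm _ _ _ _ c2 c1, hπi, ?_⟩
          rw [Finset.image_insert, Finset.image_singleton, hπp, hπq]
    have h := longSub.perm hH hL h2 hσG hσi hpair
    have e : Ad (permGL 2 F σ) (onSet {p, q} eU : MT2) = onSet {p', q'} eU := by
      show permMat 2 F σ * _ * permMat 2 F σ⁻¹ = _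
      rw [onSet, permMat_mul_pureMat, mul_assoc, permMat_mul, mul_inv_cancel, permMat_one, mul_one, onSet]
      refine congrArg pureMat (funext fun l => ?_)
      have hm : l ∈ ({p', q'} : Finset (Fin t)) ↔ σ.symm l ∈ ({p, q} : Finset (Fin t)) := by
        rw [hσS, Finset.mem_image]
        exact ⟨fun ⟨x, hx, e⟩ => by rw [← e, Equiv.symm_apply_apply]; exact hx, fun hx => ⟨_, hx, σ.apply_symm_apply l⟩⟩
      simp only [Function.comp_apply, hm]
    rwa [e] at h
  induction hn : S.card using Nat.strong_induction_on generalizing S with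
  | _ n ih =>
    rcases S.eq_empty_or_nonempty with rfl | ⟨x, hx⟩
    · rw [show (onSet ∅ eU : MT2) = 1 by
        rw [onSet]
        simp only [Finset.notMem_empty, if_false]
        exact pureMat_one]
      exact longSub.one_mem hH hL h2
    obtain ⟨y, hy⟩ : (S.erase x).Nonempty := Finset.card_pos.1 (by
      rw [Finset.card_erase_of_mem hx]
      obtain ⟨r, hr⟩ := hev
      have := Finset.card_pos.2 ⟨x, hx⟩
      omega)
    have hyS := Finset.mem_of_mem_erase hy
    have hxy : y ≠ x := (Finset.mem_erase.1 hy).1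
    have h2' := all2 x y hxy.symm (fun e => hiS (e ▸ hx)) (fun e => hiS (e ▸ hyS))
    set R := (S.erase x).erase y with hR
    have hcard : R.card + 2 = S.card := by
      rw [hR, Finset.card_erase_of_mem hy, Finset.card_erase_of_mem hx]
      have := Finset.card_pos.2 ⟨y, hy⟩
      rw [Finset.card_erase_of_mem hx] at this
      omega
    have hev' : Even R.card := by obtain ⟨r, hr⟩ := hev; exact ⟨r - 1, by omega⟩
    have hiR : i ∉ R := fun h => hiS (Finset.mem_of_mem_erase (Finset.mem_of_mem_erase h))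
    rcases R.eq_empty_or_nonempty with hR0 | hRne
    · have : S = {x, y} := by
        ext l
        simp only [Finset.mem_insert, Finset.mem_singleton]
        constructor
        · intro hl
          by_contra hne
          push Not at hne
          have : l ∈ R := Finset.mem_erase.2 ⟨hne.2, Finset.mem_erase.2 ⟨hne.1, hl⟩⟩
          simp [hR0] at this
        · rintro (rfl | rfl)
          · exact hx
          · exact hyS
      rw [this]; exact h2'
    have hJ := longSub.jordan hH hL h2 (ih R.card (by omega) hiR hev' rfl) (onSet_sq hH hL h2 hRne) h2'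
    have e : ∀ A B : Finset (Fin t), Disjoint A B →
        (onSet A eU : MT2) * onSet B eU = onSet (A ∪ B) eU := fun A B hd => by
      rw [onSet, onSet, onSet, pureMat_mul]
      refine congrArg pureMat (funext fun l => ?_)
      by_cases hA : l ∈ A
      · simp [hA, Finset.disjoint_left.1 hd hA]
      · by_cases hB : l ∈ B <;> simp [hA, hB]
    have hd : Disjoint R {x, y} := by
      rw [Finset.disjoint_left]
      intro l hl
      simp only [Finset.mem_insert, Finset.mem_singleton, not_or, hR, Finset.mem_erase] at hl ⊢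
      exact ⟨hl.2.1, hl.1⟩
    have hu : R ∪ {x, y} = S := by
      ext l
      by_cases h1 : l = x
      · simp [h1, hx]
      · by_cases h3 : l = y
        · simp [h3, hyS]
        · simp [hR, h1, h3]
    rw [e _ _ hd, e _ _ hd.symm, Finset.union_comm {x, y}, hu, ← two_smul F] at hJ
    have := Submodule.smul_mem LS (2 : F)⁻¹ hJ
    rwa [inv_smul_smul₀ h2] at this

/-- All self-adjoint blocks are long root blocks. -/
theorem all_long_two (hperm : ∀ a b x y : Fin t, a ≠ b → x ≠ y → permGL 2 F (Equiv.swap a b * Equiv.swap x y) ∈ G) (hS : ¬ ScalAt G i (0 : Fin 2))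
    {Z : MT2} (hZc : ∀ X, Commute Z (fa i X)) (hZ : Φ.eps • Φ.adj Z + Z = 0) : IsLong G i (0 : Fin 2) Z := by
  classical
  let T : MT2 →ₗ[F] MT2 :=
    { toFun := fun Y => bl i Y 0 0 + Φ.adj (bl i Y 0 0)
      map_add' := fun Y Y' => by simp only [bl_add, Φ.adj_add]; abel
      map_smul' := fun c Y => by simp [bl_smul, Φ.adj_smul, sigma_two hL, smul_add] }
  have main : ∀ U : Finset (Fin t), ∀ X : Fin t → M2, X i = 1 →
      (∀ l ∉ U, X l = 1 ∨ (X l).trace = 0) → pureMat X + Φ.adj (pureMat X) ∈ LS := by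
    intro U
    induction U using Finset.induction_on with
    | empty =>
      intro X hXi hX
      set S := Finset.univ.filter fun l => X l ≠ 1 with hSdef
      have htr : ∀ l ∈ S, (X l).trace = 0 := fun l hl =>
        (hX l (Finset.notMem_empty l)).resolve_left (Finset.mem_filter.1 hl).2
      have hadj : Φ.adj (pureMat X) = (-1 : F) ^ S.card • pureMat X := by
        have e : (fun l => Φ.adj1 (X l)) = fun l => (if l ∈ S then (-1 : F) else 1) • X l := funext fun l => by
          by_cases hl : l ∈ S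
          · rw [if_pos hl, adj1_two hL, htr l hl, zero_smul, zero_sub, neg_one_smul]
          · rw [if_neg hl, one_smul]
            have : X l = 1 := by simpa [S] using hl
            rw [this, Φ.adj1_one]
        rw [Φ.adj_pureMat, e, pureMat_smul, ← Finset.prod_filter, Finset.filter_mem_eq_inter, Finset.univ_inter,
          Finset.prod_const]
      rw [hadj]
      rcases Nat.even_or_odd S.card with hev | hod
      · rw [hev.neg_one_pow, one_smul]
        have hiS : i ∉ S := fun h => (Finset.mem_filter.1 h).2 hXi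
        have := longSub.pattern hH hL h2 S hiS (all_patterns hH hL h2 hperm hS hiS hev) subset_rfl X htr
          (fun l hl h => absurd hl h) (fun l hl => by simpa [S] using hl)
        exact Submodule.add_mem LS this this
      · rw [hod.neg_one_pow, neg_one_smul, add_neg_cancel]
        exact Submodule.zero_mem _
    | insert j U hjU ih =>
      intro X hXi hX
      by_cases hji : j = i
      · subst hji
        refine ih X hXi fun l hl => ?_
        by_cases h : l = j
        · subst h; exact Or.inl hXi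
        · exact hX l fun hh => (Finset.mem_insert.1 hh).elim h hl
      set c : F := 2⁻¹ * (X j).trace with hc
      set C : MT2 := pureMat (Function.update X j 1) with hC
      have hCY : ∀ Y, fa j Y * C = pureMat (Function.update X j Y) := fun Y => by
        rw [← (commute_pureMat_fa (Function.update X j 1) (Function.update_self ..) Y).eq,
          pureMat_mul_fa _ (Function.update_self ..), Function.update_idem]
      have hsplit : pureMat X = c • pureMat (Function.update X j 1) +
          pureMat (Function.update X j (X j - c • 1)) := by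
        rw [← hCY, ← hCY, map_sub, map_smul, map_one, sub_mul, one_mul, Matrix.smul_mul, one_mul, add_sub_cancel,
          hCY, Function.update_eq_self]
      have hi' : ∀ Y, Function.update X j Y i = 1 := fun Y => by rw [Function.update_of_ne (Ne.symm hji), hXi]
      have hX' : ∀ Y, Y = 1 ∨ Y.trace = 0 → ∀ l ∉ U, Function.update X j Y l = 1 ∨
          (Function.update X j Y l).trace = 0 := fun Y hY l hl => by
        by_cases h : l = j
        · subst h; rw [Function.update_self]; exact hY
        · rw [Function.update_of_ne h]; exact hX l fun hh => (Finset.mem_insert.1 hh).elim h hl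
      have h1 := ih _ (hi' 1) (hX' 1 (Or.inl rfl))
      have h3 := ih _ (hi' _) (hX' (X j - c • 1) (Or.inr (by
        rw [Matrix.trace_sub, Matrix.trace_smul, Matrix.trace_one, Fintype.card_fin, smul_eq_mul, hc, Nat.cast_ofNat]
        field_simp; ring)))
      rw [hsplit, Φ.adj_add, Φ.adj_smul, sigma_two hL]
      convert Submodule.add_mem LS (Submodule.smul_mem LS c h1) h3 using 1
      module
  have hT : ∀ Y, T Y ∈ LS := by
    intro Y
    rw [Matrix.matrix_eq_sum_single Y, map_sum]
    refine Submodule.sum_mem _ fun x _ => ?_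
    rw [map_sum]
    refine Submodule.sum_mem _ fun y _ => ?_
    rw [show Matrix.single x y (Y x y) = Y x y • Matrix.single x y (1 : F) by simp, map_smul]
    refine Submodule.smul_mem _ _ ?_
    set X : Fin t → M2 := fun l => Matrix.single (x l) (y l) 1 with hXdef
    have e : Matrix.single x y (1 : F) = pureMat X := single_eq_pureMat x y
    set X' := Function.update X i 1 with hX'
    have e2 : pureMat X = fa i (X i) * pureMat X' := by
      rw [← (commute_pureMat_fa X' (Function.update_self ..) (X i)).eq, pureMat_mul_fa _ (Function.update_self ..),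
        Function.update_idem, Function.update_eq_self]
    show bl i (Matrix.single x y (1 : F)) 0 0 + Φ.adj (bl i (Matrix.single x y (1 : F)) 0 0) ∈ LS
    rw [e, e2, bl_fa_mul i _ fun Z => commute_pureMat_fa X' (Function.update_self ..) Z, Φ.adj_smul, sigma_two hL,
      ← smul_add]
    exact Submodule.smul_mem _ _ (main Finset.univ X' (Function.update_self ..)
      fun l hl => absurd (Finset.mem_univ l) hl)
  have hb : bl i Z 0 0 = Z := by
    conv_lhs => rw [← one_mul Z, ← map_one (fa (F := F) (m := 2) i), bl_fa_mul i _ hZc, Matrix.one_apply_eq, one_smul]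
  have h : Z + Φ.adj Z ∈ LS := by
    have := hT Z
    simp only [T, LinearMap.coe_mk, AddHom.coe_mk, hb] at this
    exact this
  rw [eps_two hL, neg_one_smul, neg_add_eq_zero] at hZ
  rw [hZ, ← two_smul F] at h
  have := Submodule.smul_mem LS (2 : F)⁻¹ h
  rwa [inv_smul_smul₀ h2] at this

end

variable [Fintype F]

/-- The alternative for two-dimensional factors. -/
theorem wr_or_transvections_two (h2 : (2 : F) ≠ 0) (hq : 3 < Fintype.card F) (ht : 2 ≤ t) (hL : ∀ c, Φ.Lng c)
    (hH : Φ.Hyp G) (hT : Φ.PointTools 0) (hV : Φ.Transitive 0)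
    (hperm : ∀ a b x y : Fin t, a ≠ b → x ≠ y → permGL 2 F (Equiv.swap a b * Equiv.swap x y) ∈ G) :
    G ≤ Cfsg.Geo.tensorWreathStandard 2 t F ∨
      ∀ v : (Fin t → Fin 2) → F, Φ.qT v ⬝ᵥ v = 0 → ∀ c : F, c + Φ.eps ^ t * Φ.σ c = 0 →
        ∃ g ∈ G, (g : MT2) = 1 + c • vecMulVec v (Φ.qT v) := by
  by_cases hS : ∀ i, ScalAt G i (0 : Fin 2)
  · exact Or.inl (le_wreath_two h2 hq ht hL hH hT hV hS)
  push Not at hS
  obtain ⟨i, hi⟩ := hS
  refine Or.inr fun v hv c' hc' => transvection_mem (i := i) hH hT.ne one_ne_zero (hL 1) ?_ hv hc'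
  exact ⟨fun Y _ => (IsRow.zero G i (0 : Fin 2)).congr fun v hv => (mid_two hv).elim,
    fun Z hZ hZ' => all_long_two hH hL h2 hperm hi hZ hZ'⟩

end CfsgLib.MaxSub.TensorForm
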