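import Cfsg.Agent.Lib.MaxSub.TensorForm.OrthHyp
import Cfsg.Agent.Lib.MaxSub.TensorForm.OrthGen
import Cfsg.Agent.Lib.MaxSub.TensorForm.TwoFull
import Cfsg.Agent.Lib.MaxSub.SubspaceMaximalOrthGL

/-!
The stabiliser of a tensor power of symplectic spaces is maximal in the derived group of an orthogonal group.
-/

set_option autoImplicit false
set_option maxHeartbeats 1000000
set_option linter.unusedSectionVars false
set_option linter.unusedSimpArgs false

namespace CfsgLib.MaxSub.TensorForm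

open Matrix QuadraticMap
open CfsgLib.Aschbacher CfsgLib.MaxSub.TensorPow
open CfsgLib.WittExtension (quadIso)
open CfsgLib.MaxSub.Orth (toMat toMat_mulVec)

variable {F : Type*} [Field F] {k t : ℕ}

local notation "Mm" => Matrix (Fin k) (Fin k) F
local notation "MT" => Matrix (Fin t → Fin k) (Fin t → Fin k) F
local notation "VT" => (Fin t → Fin k) → F

theorem Frame.qT_pvec (Φ : Frame F k) (f : Fin t → Fin k → F) : Φ.qT (pvec f) = pvec fun i => Φ.qv (f i) := by
  funext x
  simp only [Frame.qT, pvec, Frame.sgT, map_prod, ← Finset.prod_mul_distrib]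
  rfl

theorem pvec_neg_at (f : Fin t → Fin k → F) (j : Fin t) :
    pvec (Function.update f j (-f j)) = -pvec f := by
  funext x
  rw [Pi.neg_apply, pvec, pvec, ← Finset.mul_prod_erase _ _ (Finset.mem_univ j),
    ← Finset.mul_prod_erase _ (fun i => f i (x i)) (Finset.mem_univ j), Function.update_self, Pi.neg_apply, neg_mul]
  congr 2
  exact Finset.prod_congr rfl fun i hi => by rw [Function.update_of_ne (Finset.mem_erase.1 hi).1]

variable {Q : QuadraticForm F ((Fin t → Fin k) → F)} {Φ : Frame F k} {c : F}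

/-- An isometry in the derived group outside the wreath product. -/
theorem QData.exists_notWr [Fintype F] (hD : QData Φ Q c) (hn : 5 ≤ k ^ t) (hk : 2 ≤ k) (ht : 2 ≤ t)
    (hkt : 4 ≤ k ∨ 3 ≤ t) : ∃ g ∈ DG Q, ¬ IsWr g := by
  classical
  set a : Fin k := ⟨0, by omega⟩ with ha0
  have ha := hD.ne a
  let j₀ : Fin t := ⟨0, by omega⟩
  let j₁ : Fin t := ⟨1, by omega⟩
  have h01 : j₀ ≠ j₁ := by simp [j₀, j₁, Fin.ext_iff]
  obtain ⟨b, hb0, hb1, hba⟩ : ∃ b : Fin t → Fin k, b j₀ ≠ a.rev ∧ b j₁ ≠ a.rev ∧ ∃ j, b j ≠ a := by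
    rcases hkt with h | h
    · obtain ⟨z, hz, -⟩ := exists_iso_notMem (s := {a, a.rev}) (k := k) (by rw [Finset.card_pair ha]; omega)
      simp only [Finset.mem_insert, Finset.mem_singleton, not_or] at hz
      exact ⟨fun _ => z, hz.2, hz.2, j₀, hz.1⟩
    · refine ⟨fun j => if (j : ℕ) < 2 then a else a.rev, ?_, ?_, ⟨2, by omega⟩, ?_⟩ <;>
        simp [j₀, j₁, ha, ha.symm]
  obtain ⟨j₂, hj₂⟩ := hba
  set β : Fin t → Fin k → F := fun j => Pi.single (b j) 1 with hβ
  set α₀ : Fin t → Fin k → F := fun _ => Pi.single a.rev 1 with hα₀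
  set u : VT := pvec fun _ => Pi.single a 1 with hu
  set w : VT := c⁻¹ • pvec β with hw
  have hQu : Q u = 0 := hD.pure _
  have hQw : Q w = 0 := by rw [hw, QuadraticMap.map_smul, hD.pure, smul_zero]
  have huw : polar Q u w = 0 := by
    rw [hw, polar_smul_right, hD.pol', hu, Φ.qT_pvec, pvec_dot, Finset.prod_eq_zero (Finset.mem_univ j₀), mul_zero,
      smul_zero]
    rw [Frame.qv_single_dot, hβ]
    simp [hb0, Ne.symm hb0]
  obtain ⟨g, hg, hgv⟩ := hD.eich_DG hn hQu huw
  refine ⟨g, hg, fun hW => ?_⟩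
  obtain ⟨A, σ, hgA⟩ := hW
  have h1 := hgv (pvec α₀)
  rw [hgA, wr_mulVec_pvec, hQw, zero_mul, sub_zero] at h1
  have huy : polar Q u (pvec α₀) = c * ∏ _j : Fin t, Φ.sg a.rev := by
    rw [hD.pol', hu, Φ.qT_pvec, pvec_dot]
    congr 1
    exact Finset.prod_congr rfl fun j _ => by rw [Frame.qv_single_dot, hα₀]; simp
  have hwy : polar Q w (pvec α₀) = 0 := by
    rw [hw, polar_smul_left, hD.pol', Φ.qT_pvec, pvec_dot, Finset.prod_eq_zero (Finset.mem_univ j₂), mul_zero,
      smul_zero]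
    rw [hβ, Frame.qv_single_dot, hα₀]
    simp [hj₂, Ne.symm hj₂]
  rw [huy, hwy, neg_zero, zero_smul, add_zero, hw, smul_smul, mul_comm c, mul_assoc, mul_inv_cancel₀ hD.hc,
    mul_one] at h1
  set s : F := ∏ _j : Fin t, Φ.sg a.rev
  have hs : s ≠ 0 := Finset.prod_ne_zero_iff.2 fun _ _ => Φ.sg_ne _
  refine pure_pair (α := Function.update α₀ j₀ (-α₀ j₀)) (β := β)
    (γ := fun i => (A i : Mm) *ᵥ α₀ (σ.symm i)) (a := j₀) (b := j₁) h01 hs (fun i => ?_) (fun i => ?_) ?_ ?_ ?_
  · by_cases h : i = j₀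
    · subst h; simp [α₀]
    · simp [α₀, h]
  · simp [β]
  · intro h
    obtain ⟨d, hd⟩ := Submodule.mem_span_singleton.1 h
    have := congrFun hd (b j₀)
    simp [α₀, β, hb0] at this
  · intro h
    obtain ⟨d, hd⟩ := Submodule.mem_span_singleton.1 h
    have := congrFun hd (b j₁)
    simp [α₀, β, hb1, h01.symm] at this
  · rw [pvec_neg_at, h1]; abel

variable [Fintype F]

open Cfsg.Geo in
/-- The stabiliser of a tensor power of symplectic spaces is maximal in the derived group of an orthogonal group. -/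
theorem orth_tensorWreath_maximal {n : ℕ} (hn : 13 ≤ n) (Q : (Fin n → F) → F)
    (hQ : IsNondegenerateQuadraticForm Q) (ht : 2 ≤ t) (hqt : Odd (Fintype.card F) → Even t)
    (hex2 : ¬ (Fintype.card F = 3 ∧ k = 2)) (hex3 : ¬ Odd (Fintype.card F) → 6 ≤ k)
    (e : (Fin n) ≃ (Fin t → Fin k)) (P : GL (Fin n) F) (f₁ : (Fin k → F) → (Fin k → F) → F)
    (hf₁ : IsSymplecticForm f₁) (hT : IsTensorPowerFormStructure id (QuadraticMap.polar Q) f₁ e P)
    (hpure : ∀ xs : Fin t → (Fin k → F), Q (Matrix.mulVec (P : Matrix (Fin n) (Fin n) F)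
      ((fun a : Fin t → Fin k => ∏ i, xs i (a i)) ∘ e)) = 0) :
    IsMaximalIn (omegaGL Q) (tensorWreathSubgroup k t e P ⊓ omegaGL Q) := by
  classical
  obtain ⟨R, rfl, hR⟩ := Orth.exists_form hQ
  obtain ⟨l, rfl, C, r, hr, hC⟩ := exists_symp_frame hf₁
  have hcard : n = (l + l) ^ t := by simpa using Fintype.card_congr e
  have hl : 0 < l := by
    rcases Nat.eq_zero_or_pos l with rfl | h
    · rw [show (0 + 0) ^ t = 0 from zero_pow (by omega)] at hcard; omega
    · exact h
  haveI : NeZero (l + l) := ⟨by omega⟩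
  set Φ := sympFrame F l with hΦ
  obtain ⟨c, hc, hform⟩ := Frame.formIn_newFrame (Φ := Φ) (σ := id) (fun _ => rfl) hT C hr hC
  rw [← tensorWreath_newFrame e P C]
  have hpure' : ∀ h : Fin t → Fin (l + l) → F,
      R ((newFrame e P C : Matrix (Fin n) (Fin n) F) *ᵥ (pvec h ∘ e)) = 0 := fun h => by
    rw [newFrame_mulVec, show ((pureGL fun _ => C : GL (Fin t → Fin (l + l)) F) :
      Matrix (Fin t → Fin (l + l)) (Fin t → Fin (l + l)) F) = pureMat fun _ => (C : Matrix _ _ F) from rfl,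
      TensorPow.pureMat_mulVec]
    exact hpure _
  set P' := newFrame e P C with hP'
  clear_value P'
  clear hpure hT hQ
  let L₀ : ((Fin t → Fin (l + l)) → F) →ₗ[F] (Fin n → F) :=
    (Matrix.toLin' (P' : Matrix (Fin n) (Fin n) F)).comp (LinearMap.funLeft F F e)
  have hL₀ : ∀ x, L₀ x = (P' : Matrix (Fin n) (Fin n) F) *ᵥ (x ∘ e) := fun x => rfl
  let L : ((Fin t → Fin (l + l)) → F) ≃ₗ[F] (Fin n → F) := LinearEquiv.ofBijective L₀ ⟨fun x y h => by
      have h1 := congrArg (((P'⁻¹ : GL (Fin n) F) : Matrix (Fin n) (Fin n) F) *ᵥ ·) h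
      simp only [hL₀, mulVec_mulVec, Units.inv_mul, one_mulVec] at h1
      exact e.surjective.injective_comp_right h1,
    fun v => by
      obtain ⟨x, rfl⟩ := Frame.exists_coords e P' v
      exact ⟨x, rfl⟩⟩
  have hL : ∀ x, L x = (P' : Matrix (Fin n) (Fin n) F) *ᵥ (x ∘ e) := fun x => rfl
  let Q' : QuadraticForm F ((Fin t → Fin (l + l)) → F) := R.comp L.toLinearMap
  have hQ' : ∀ x, Q' x = R (L x) := fun x => rfl
  have h2even : ¬ Odd (Fintype.card F) → (2 : F) = 0 := fun h => by
    by_contra h2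
    exact h (by
      rw [Nat.odd_iff]
      exact FiniteField.odd_card_of_char_ne_two fun hch => h2 (by
        haveI : CharP F 2 := by rw [← hch]; exact ringChar.charP F
        exact CharTwo.two_eq_zero))
  have hepsT : Φ.eps ^ t = 1 := by
    show (-1 : F) ^ t = 1
    by_cases hodd : Odd (Fintype.card F)
    · exact (hqt hodd).neg_one_pow
    · rw [show (-1 : F) = 1 by linear_combination -(h2even hodd), one_pow]
  have hev : Even (l + l) := ⟨l, rfl⟩
  have hD : QData Φ Q' c :=
    { hc := hc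
      id := fun _ => rfl
      eps := rfl
      epsT := hepsT
      ne := fun x => ne_rev_of_even hev x
      pol := fun x y => by
        rw [← hform x y, ← hL, ← hL]
        simp only [QuadraticMap.polar, hQ', map_add]
      pure := hpure' }
  have hn5 : 5 ≤ (l + l) ^ t := by omega
  have hn5' : 5 ≤ Fintype.card (Fin n) := by rw [Fintype.card_fin]; omega
  have hact : ∀ (M : GL (Fin t → Fin (l + l)) F) x,
      ((frU e P' M : GL (Fin n) F) : Matrix (Fin n) (Fin n) F) *ᵥ L x =
        L ((M : Matrix (Fin t → Fin (l + l)) (Fin t → Fin (l + l)) F) *ᵥ x) := fun M x => by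
    rw [hL, hL, frU_mulVec]
  let Θ : quadIso Q' ≃* quadIso R :=
    { toFun := fun y => ⟨L.symm.trans (y.1.trans L), fun v => by
        show R (L (y.1 (L.symm v))) = R v
        rw [← hQ', y.2, hQ', L.apply_symm_apply]⟩
      invFun := fun x => ⟨L.trans (x.1.trans L.symm), fun v => by
        show R (L (L.symm (x.1 (L v)))) = R (L v)
        rw [L.apply_symm_apply, x.2]⟩
      left_inv := fun y => Subtype.ext (LinearEquiv.ext fun v => by
        show L.symm (L (y.1 (L.symm (L v)))) = y.1 v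
        rw [L.symm_apply_apply, L.symm_apply_apply])
      right_inv := fun x => Subtype.ext (LinearEquiv.ext fun v => by
        show L (L.symm (x.1 (L (L.symm v)))) = x.1 v
        rw [L.apply_symm_apply, L.apply_symm_apply])
      map_mul' := fun x y => Subtype.ext (LinearEquiv.ext fun v => by
        show L (x.1 (y.1 (L.symm v))) = L (x.1 (L.symm (L (y.1 (L.symm v)))))
        rw [L.symm_apply_apply]) }
  have hΩ : Cfsg.Geo.omegaGL ⇑R = (commutator (quadIso R)).map (toMat R) := by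
    rw [Orth.omegaGL_eq hR hn5', OmegaSimple.commutator_eq R hR
      (by rw [Module.finrank_fintype_fun_eq_card]; exact hn5')]
  have hΘc : ∀ y, y ∈ commutator (quadIso Q') ↔ Θ y ∈ commutator (quadIso R) := fun y => by
    have h : (commutator (quadIso Q')).map Θ.toMonoidHom = commutator (quadIso R) := by
      rw [_root_.commutator_def, _root_.commutator_def, Subgroup.map_commutator,
        Subgroup.map_top_of_surjective _ Θ.surjective]
    rw [← h]
    exact (Subgroup.mem_map_iff_mem Θ.injective).symm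
  have hmem : ∀ M, frU e P' M ∈ Cfsg.Geo.omegaGL ⇑R ↔ M ∈ DG Q' := by
    intro M
    rw [hΩ]
    constructor
    · rintro ⟨x, hx, hxM⟩
      refine ⟨Θ.symm x, (hΘc _).2 (by rwa [Θ.apply_symm_apply]), LinearEquiv.ext fun v => ?_⟩
      rw [linAut_apply]
      show L.symm (x.1 (L v)) = _
      rw [LinearEquiv.symm_apply_eq, ← hact, ← hxM, toMat_mulVec]
    · rintro ⟨y, hy, hyM⟩
      refine ⟨Θ y, (hΘc y).1 hy, Units.ext (Matrix.toLin'.injective (LinearMap.ext fun v => ?_))⟩
      obtain ⟨x, rfl⟩ := L.surjective v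
      rw [Matrix.toLin'_apply, Matrix.toLin'_apply, toMat_mulVec, hact, ← linAut_apply, ← hyM]
      show L (y.1 (L.symm (L x))) = L (y.1 x)
      rw [L.symm_apply_apply]
  have hstd : ∀ M, frU e P' M ∈ Cfsg.Geo.tensorWreathSubgroup (l + l) t e P' ↔ IsWr M := fun M => by
    rw [Cfsg.Geo.tensorWreathSubgroup, map_glReindex_conj]
    exact ⟨fun ⟨M', hM', h⟩ => (frU e P').injective h ▸ mem_std_iff.1 hM',
      fun h => ⟨M, mem_std_iff.2 h, rfl⟩⟩
  have hkt : 4 ≤ l + l ∨ 4 ≤ t := by
    by_contra h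
    push Not at h
    obtain rfl : l = 1 := by omega
    have : (1 + 1) ^ t ≤ (1 + 1) ^ 3 := Nat.pow_le_pow_right (by omega) (by omega)
    rw [← hcard] at this
    norm_num at this
    omega
  refine ⟨lt_of_le_of_ne inf_le_right fun h => ?_, fun G hG hGS => ?_⟩
  · obtain ⟨g, hg, hgW⟩ := hD.exists_notWr hn5 (by omega) ht (hkt.imp id fun h => by omega)
    exact hgW ((hstd g).1 (h.ge ((hmem g).2 hg)).1)
  by_cases hin : G ≤ Cfsg.Geo.tensorWreathSubgroup (l + l) t e P'
  · exact Or.inl (le_antisymm (le_inf hin hGS) hG)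
  refine Or.inr (le_antisymm hGS ?_)
  let K := G.comap (frU e P').toMonoidHom
  have hK : ∀ g : GL (Fin t → Fin (l + l)) F, IsWr g → g ∈ DG Q' → g ∈ K := fun g hg hd =>
    hG ⟨(hstd g).2 hg, (hmem g).2 hd⟩
  have hKD : ∀ g ∈ K, g ∈ DG Q' := fun g hg => (hmem g).1 (hGS hg)
  have hKQ : K ≤ OG Q' := fun g hg => DG_le (hKD g hg)
  set a : Fin (l + l) := ⟨0, by omega⟩ with ha0
  have ha : a ≠ a.rev := hD.ne a
  have hL1 : Φ.Lng 1 := hD.lng 1
  have finish : Φ.Transitive a → (Φ.Hyp K → K ≤ Cfsg.Geo.tensorWreathStandard (l + l) t F ∨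
      ∃ i, (∀ x, Mid a x → Φ.PointTools a) ∧
        (∀ Y : Fin (l + l) → Matrix (Fin t → Fin (l + l)) (Fin t → Fin (l + l)) F,
          (∀ v, Mid a v → ∀ X, Commute (Y v) (fa i X)) → IsRow K i a Y) ∧
        ∀ Y : Matrix (Fin t → Fin (l + l)) (Fin t → Fin (l + l)) F, (∀ X, Commute Y (fa i X)) →
          IsLong K i a (Y + Φ.adj Y)) → omegaGL ⇑R ≤ G := by
    intro hV halt
    have ht4 : t ≤ 2 ∨ 4 ≤ t ∨ (2 : F) = 0 := by
      by_cases hodd : Odd (Fintype.card F)
      · obtain ⟨s, hs⟩ := hqt hodd; omega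
      · exact Or.inr (Or.inr (h2even hodd))
    have hH : Φ.Hyp K :=
      ⟨fun g hg => hD.iso_of_DG (hKD g hg),
        fun i s hs => hK _ (isWr_fu i s) (fu_DG hD hn5 ht hV i hs.1), hD.moves hn5 ht4 hK⟩
    rcases halt hH with hwr | ⟨i, hT, hR', hA⟩
    · refine absurd (fun g hg => ?_) hin
      obtain ⟨M, rfl⟩ := (frU e P').surjective g
      exact (hstd M).2 (mem_std_iff.1 (hwr hg))
    have h3 : 3 ≤ (l + l) ^ (t - 1) := by
      rcases hkt with h | h
      · exact le_trans (by omega) (Nat.le_self_pow (by omega) (l + l))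
      · exact le_trans (by norm_num) (le_trans (Nat.pow_le_pow_left (show 2 ≤ l + l by omega) 2)
          (Nat.pow_le_pow_right (by omega) (show 2 ≤ t - 1 by omega)))
    intro g hg
    obtain ⟨M, rfl⟩ := (frU e P').surjective g
    exact hD.DG_le_of_full hn5 h3 hH hKQ hA hT hR' ((hmem M).1 hg)
  have hhd := hD.halfTrace
  rcases Nat.lt_or_ge (l + l) 4 with hk2 | hk
  · obtain rfl : l = 1 := by omega
    have hodd : Odd (Fintype.card F) := by
      by_contra h
      have := hex3 h
      omega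
    have h2 : (2 : F) ≠ 0 := by
      refine Ring.two_ne_zero fun h => ?_
      have := FiniteField.even_card_of_char_two h
      rw [Nat.odd_iff] at hodd
      omega
    have hq : 3 < Fintype.card F := by
      have h1 : 1 < Fintype.card F := Fintype.one_lt_card
      have h3 : Fintype.card F ≠ 3 := fun h => hex2 ⟨h, rfl⟩
      rw [Nat.odd_iff] at hodd
      omega
    obtain ⟨α, hα0, hα⟩ : ∃ α : F, α ≠ 0 ∧ α * α ≠ 1 := by
      by_contra hc'
      push Not at hc'
      have : Fintype.card F ≤ 3 := by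
        rw [← Finset.card_univ]
        refine (Finset.card_le_card (t := ({0, 1, -1} : Finset F)) fun x _ => ?_).trans Finset.card_le_three
        by_cases hx : x = 0
        · simp [hx]
        rcases mul_self_eq_one_iff.1 (hc' x hx) with h | h <;> simp [h]
      omega
    obtain ⟨d, hd', hdd⟩ := gl_two (!![α, 0; 0, α⁻¹] : Matrix (Fin 2) (Fin 2) F) (by simp [Matrix.det_fin_two, hα0])
    have hLall : ∀ c : F, Φ.Lng c := hD.lng
    have hpt : Φ.PointTools a := Φ.pointTools_of hhd one_ne_zero hL1 ha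
      (fun y hy => absurd hy (hD.ne y))
      (Or.inr ⟨d, si_two hLall hdd, fun p r hpr => by
        rw [hd']; fin_cases p <;> fin_cases r <;> simp at hpr ⊢, by
        rw [hd', show a = 0 from rfl, show (0 : Fin (1 + 1)).rev = 1 from rfl]
        simp
        intro h; exact hα (by nth_rw 2 [h]; rw [mul_inv_cancel₀ hα0])⟩)
    refine finish (Φ.transitive_of one_ne_zero hL1 hpt) fun hH => ?_
    have hV := Φ.transitive_of one_ne_zero hL1 hpt
    by_cases hS : ∀ i, ScalAt K i (0 : Fin 2)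
    · exact Or.inl (le_wreath_two h2 hq ht hLall hH hpt hV hS)
    push Not at hS
    obtain ⟨i, hi⟩ := hS
    have hperm : ∀ p q x y : Fin t, p ≠ q → x ≠ y →
        permGL 2 F (Equiv.swap p q * Equiv.swap x y) ∈ K := fun p q x y h h' =>
      hK _ ⟨1, _, by rw [pureGL_one, one_mul]⟩ (hD.two_swaps_DG h h')
    refine Or.inr ⟨i, fun x hx => (mid_two hx).elim,
      fun Y _ => (IsRow.zero K i a).congr fun v hv => (mid_two hv).elim, fun Y hY => ?_⟩
    exact all_long_two hH hLall h2 hperm hi (fun X => (hY X).add_left (Φ.adj_commute hY X)) (by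
      rw [Φ.adj_add, Φ.adj_adj, show Φ.eps = -1 from rfl, neg_one_smul]; abel)
  have hpt : ∀ x : Fin (l + l), x ≠ x.rev → Φ.PointTools x := fun x hx =>
    Φ.pointTools_of hhd one_ne_zero hL1 hx (fun y hy => absurd hy (hD.ne y)) (Or.inl hk)
  have hmode : (2 : F) ≠ 0 ∨ 6 ≤ l + l := by
    by_cases h : (2 : F) = 0
    · refine Or.inr (hex3 fun hodd => ?_)
      have h11 : ringChar F = 2 := by
        haveI := CharTwo.of_one_ne_zero_of_two_eq_zero (R := F) one_ne_zero h
        exact ringChar.eq F 2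
      have := FiniteField.even_card_of_char_two h11
      rw [Nat.odd_iff] at hodd
      omega
    · exact Or.inl h
  have hTools : Tools Φ a :=
    ⟨ha, hpt, Φ.transitive_of one_ne_zero hL1 (hpt a ha), ⟨fun h => by omega, fun h => by omega⟩,
      ⟨⟨1, one_ne_zero, hL1⟩, hmode.imp
        (fun h2 => ⟨⟨-1, by simp, by simp, fun h => h2 (by linear_combination -h)⟩, Or.inl hk⟩) Or.inl⟩⟩
  have hPat : PatTools Φ := Or.inr ⟨hev, hk, rfl, hmode⟩
  refine finish hTools.trans fun hH => ?_
  by_cases hS : ∀ i, ScalAt K i a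
  · exact Or.inl (le_wreath (by omega) ht hH hTools hS)
  push Not at hS
  obtain ⟨i, hi⟩ := hS
  have rows : ∀ Y : Fin (l + l) → Matrix (Fin t → Fin (l + l)) (Fin t → Fin (l + l)) F,
      (∀ v, Mid a v → ∀ X, Commute (Y v) (fa i X)) → IsRow K i a Y := fun Y hY =>
    all_rows (by omega) hH hTools hPat rfl one_ne_zero hL1 hi hY
  refine Or.inr ⟨i, fun x _ => hpt a ha, rows, fun Y hY => ?_⟩
  obtain ⟨v, hv⟩ : ∃ v, Mid a v := by
    obtain ⟨z, hz, -⟩ := exists_iso_notMem (s := {a, a.rev}) (k := l + l) (by rw [Finset.card_pair ha]; omega)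
    simp only [Finset.mem_insert, Finset.mem_singleton, not_or] at hz
    exact ⟨z, hz⟩
  have h := IsRow.comm_scalar hH (hpt a ha) (rows (Pi.single v Y) fun w hw X => by
    by_cases h : w = v
    · subst h; rw [Pi.single_eq_same]; exact hY X
    · rw [Pi.single_eq_of_ne h]; exact Commute.zero_left _) hv 1
  rw [Pi.single_eq_same, one_smul, map_one, mul_one, show Φ.eps = -1 from rfl, neg_one_smul, sub_neg_eq_add,
    add_comm (Φ.adj Y)] at h
  exact h

end CfsgLib.MaxSub.TensorForm
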