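import Cfsg.Agent.Lib.MaxSub.TensorForm.OrthSetup

/-!
Blocks of rank one at a point of a factor, and the long root elements as Eichler transformations.
-/

set_option autoImplicit false
set_option maxHeartbeats 1000000
set_option linter.unusedSectionVars false
set_option linter.unusedSimpArgs false

namespace CfsgLib.MaxSub.TensorForm

open Matrix QuadraticMap
open CfsgLib.Aschbacher CfsgLib.MaxSub.TensorPow

variable {F : Type*} [Field F] {k t : ℕ}

local notation "Mm" => Matrix (Fin k) (Fin k) F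
local notation "MT" => Matrix (Fin t → Fin k) (Fin t → Fin k) F
local notation "VT" => (Fin t → Fin k) → F
local notation "GT" => GL (Fin t → Fin k) F
local notation "E[" i "](" a "," b ")" => fa i (Matrix.single a b (1 : F))

/-- A block of rank one. -/
noncomputable def rk1 (i : Fin t) (a : Fin k) (b φ : (Fin t → Fin k) → F) :
    Matrix (Fin t → Fin k) (Fin t → Fin k) F := bl i (vecMulVec b φ) a a

/-- The vectors supported at a point of a factor. -/
noncomputable def atPt (i : Fin t) (a : Fin k) : Submodule F ((Fin t → Fin k) → F) :=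
  LinearMap.ker (Matrix.mulVecLin (fa i (Matrix.single a a (1 : F)) - 1))

variable {i : Fin t} {a : Fin k}

theorem mem_atPt {v : VT} : v ∈ atPt i a ↔ E[i](a, a) *ᵥ v = v := by
  rw [atPt, LinearMap.mem_ker, Matrix.mulVecLin_apply, Matrix.sub_mulVec, Matrix.one_mulVec, sub_eq_zero]

theorem rk1_commute (b φ : VT) (X : Mm) : Commute (rk1 i a b φ) (fa i X) := bl_commute i _ _ _ X

theorem rk1_vec (b : VT) (φ : VT) :
    rk1 i a b φ = rk1 i a (E[i](a, a) *ᵥ b) (φ ᵥ* E[i](a, a)) := by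
  rw [rk1, rk1, bl, bl]
  refine Finset.sum_congr rfl fun r _ => ?_
  rw [← Matrix.mul_vecMulVec, ← Matrix.vecMulVec_mul, ← mul_assoc, ← mul_assoc, fs_mul, if_pos rfl, mul_assoc,
    mul_assoc, fs_mul, if_pos rfl]
  simp [mul_assoc]

theorem rk1_mulVec {b φ v : VT} (hb : b ∈ atPt i a) (hv : v ∈ atPt i a) :
    rk1 i a b φ *ᵥ v = (φ ⬝ᵥ v) • b := by
  rw [mem_atPt] at hb hv
  rw [rk1, bl, Matrix.sum_mulVec, Finset.sum_eq_single a]
  · rw [← Matrix.mulVec_mulVec, ← Matrix.mulVec_mulVec, hv, Matrix.vecMulVec_mulVec, op_smul_eq_smul,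
      Matrix.mulVec_smul, hb]
  · intro r _ hr
    rw [← hv, ← Matrix.mulVec_mulVec, Matrix.mulVec_mulVec _ _ (E[i](a, a)), fs_mul, if_neg hr,
      Matrix.zero_mulVec, Matrix.mulVec_zero]
  · simp

theorem rk1_mul {b' : VT} (b φ φ' : VT) (hb' : b' ∈ atPt i a) :
    rk1 i a b φ * rk1 i a b' φ' = (φ ⬝ᵥ b') • rk1 i a b φ' := by
  rw [mem_atPt] at hb'
  rw [rk1, rk1, rk1, bl, bl, bl, Finset.smul_sum, Finset.sum_mul]
  refine Finset.sum_congr rfl fun r _ => ?_
  rw [Finset.mul_sum, Finset.sum_eq_single r]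
  · simp only [mul_assoc, fs_mul', if_true]
    rw [← mul_assoc (E[i](a, a)) (vecMulVec b' φ'), Matrix.mul_vecMulVec _ b', hb', ← mul_assoc (vecMulVec b φ),
      Matrix.vecMulVec_mul_vecMulVec]
    simp [vecMulVec_smul, Matrix.smul_mul, Matrix.mul_smul]
  · intro s _ hs; simp [mul_assoc, fs_mul', Ne.symm hs]
  · simp

theorem rk1_smul_left (μ : F) (b φ : VT) : rk1 i a (μ • b) φ = μ • rk1 i a b φ := by
  rw [rk1, rk1, smul_vecMulVec, bl_smul]

theorem mul_bl_mul (M : MT) (x y x' y' : Fin k) :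
    E[i](x', x) * M * E[i](y, y') = E[i](x', y') * bl i M x y := by
  rw [bl, Finset.mul_sum, Finset.sum_eq_single y']
  · rw [← mul_assoc, ← mul_assoc, fs_mul, if_pos rfl]
  · intro r _ hr; rw [← mul_assoc, ← mul_assoc, fs_mul, if_neg (Ne.symm hr), zero_mul, zero_mul]
  · simp

theorem atPt_sub (x y : Fin k) (v : VT) : E[i](x, y) *ᵥ v ∈ atPt i x := by
  rw [mem_atPt, Matrix.mulVec_mulVec, fs_mul, if_pos rfl]

variable {Q : QuadraticForm F ((Fin t → Fin k) → F)} {Φ : Frame F k} {c : F}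

/-- The vector of a functional at a point. -/
noncomputable def sharp (Φ : Frame F k) (i : Fin t) (a : Fin k) (φ : (Fin t → Fin k) → F) :
    (Fin t → Fin k) → F := fa i (Matrix.single a a.rev (1 : F)) *ᵥ Φ.qT φ

/-- The functional of a vector at a point. -/
noncomputable def flat (Φ : Frame F k) (i : Fin t) (a : Fin k) (b : (Fin t → Fin k) → F) :
    (Fin t → Fin k) → F := Φ.qT b ᵥ* fa i (Matrix.single a.rev a (1 : F))

namespace QData

variable (hD : QData Φ Q c)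
include hD

theorem adj_rk1 (b φ : VT) : Φ.adj (rk1 i a b φ) = rk1 i a (sharp Φ i a φ) (flat Φ i a b) := by
  have e : Φ.adj (rk1 i a b φ) = bl i (vecMulVec (Φ.qT φ) (Φ.qT b)) a.rev a.rev := by
    rw [← Φ.adj_vecMulVec, Φ.bl_adj, Fin.rev_rev, rk1, Φ.sg_sq, one_smul]
  rw [e, rk1, bl, bl]
  refine Finset.sum_congr rfl fun r _ => ?_
  rw [sharp, flat, ← Matrix.mul_vecMulVec, ← Matrix.vecMulVec_mul]
  simp only [← mul_assoc, fs_mul, if_true]
  simp only [mul_assoc, fs_mul, if_true]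

theorem sharp_mem (φ : VT) : sharp Φ i a φ ∈ atPt i a := atPt_sub _ _ _

/-- The alternating form on the vectors at a point. -/
theorem flat_self {p : VT} (hp : p ∈ atPt i a) : flat Φ i a p ⬝ᵥ p = 0 := by
  rw [flat, ← Matrix.dotProduct_mulVec]
  have ha := hD.ne a
  obtain ⟨s, hs, hsv⟩ := Φ.exists_long (a := a.rev) (c := (1 : F)) (hD.ne _) (by
    show (1 : F) + Φ.eps * Φ.σ 1 = 0
    rw [hD.eps, map_one]; ring)
  rw [Fin.rev_rev] at hsv
  have h1 := mem_OG.1 (hD.fu_mem_OG i hs.1) p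
  rw [fu_val, hsv, map_add, map_one, Matrix.add_mulVec, Matrix.one_mulVec, QuadraticMap.map_add Q,
    hD.zero_coord (mem_atPt.1 hp),
    hD.zero_coord (mem_atPt.1 (atPt_sub (i := i) a.rev a p)), zero_add, zero_add, hD.pol'] at h1
  exact (mul_eq_zero.1 h1).resolve_left hD.hc

theorem flat_anti (p q : VT) : flat Φ i a q ⬝ᵥ p = -(flat Φ i a p ⬝ᵥ q) := by
  rw [flat, flat, ← Matrix.dotProduct_mulVec, ← Matrix.dotProduct_mulVec, hD.dot_symm p, Φ.qT_mulVec, Φ.adj_fa]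
  have := Φ.adj1_long a.rev (1 : F)
  rw [Fin.rev_rev, map_one, mul_one, hD.eps, ← Matrix.single_neg] at this
  rw [this, map_neg, Matrix.vecMul_neg, neg_dotProduct, neg_neg, ← Matrix.dotProduct_mulVec]

theorem flat_sharp (φ : VT) : flat Φ i a (sharp Φ i a φ) = -(φ ᵥ* E[i](a, a)) := by
  rw [flat, sharp, Φ.qT_mulVec, Φ.adj_fa, Φ.adj1_long, map_one, mul_one, hD.eps, hD.qT_qT', ← Matrix.single_neg,
    map_neg, Matrix.vecMul_neg, Matrix.neg_vecMul, Matrix.vecMul_vecMul, fs_mul, if_pos rfl]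

theorem sharp_flat (b : VT) : sharp Φ i a (flat Φ i a b) = -(E[i](a, a) *ᵥ b) := by
  have := Φ.adj1_long a.rev (1 : F)
  rw [Fin.rev_rev, map_one, mul_one, hD.eps, ← Matrix.single_neg] at this
  have e : Φ.qT (Φ.qT b ᵥ* E[i](a.rev, a)) = -(E[i](a.rev, a) *ᵥ b) := by
    rw [← hD.qT_qT' (E[i](a.rev, a) *ᵥ b), Φ.qT_mulVec, Φ.adj_fa, this, map_neg, Matrix.vecMul_neg, Φ.qT_neg,
      neg_neg]
  rw [sharp, flat, e, Matrix.mulVec_neg, Matrix.mulVec_mulVec, fs_mul, if_pos rfl]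

theorem dot_atPt {φ v : VT} (hv : v ∈ atPt i a) : (φ ᵥ* E[i](a, a)) ⬝ᵥ v = φ ⬝ᵥ v := by
  rw [← Matrix.dotProduct_mulVec, mem_atPt.1 hv]

/-- The orientation of a pairing. -/
theorem flat_sharp_dot {φ v : VT} (hv : v ∈ atPt i a) : flat Φ i a v ⬝ᵥ sharp Φ i a φ = φ ⬝ᵥ v := by
  rw [hD.flat_anti (sharp Φ i a φ), hD.flat_sharp, neg_dotProduct, neg_neg, dot_atPt hD hv]

/-- A long root element as an Eichler transformation. -/
theorem long_eich {u w : VT} (hu : u ∈ atPt i a) (hw : w ∈ atPt i a) (x : VT) :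
    (1 + E[i](a, a.rev) * (c • (rk1 i a w (flat Φ i a u) + Φ.adj (rk1 i a w (flat Φ i a u))))) *ᵥ x =
      x + (polar Q u x • w + (-(polar Q w x) - Q w * polar Q u x) • u) := by
  have hu' := mem_atPt.1 hu
  have hw' := mem_atPt.1 hw
  rw [hD.adj_rk1, hD.sharp_flat, hu']
  have hq : ∀ p : VT, E[i](a, a) *ᵥ p = p → flat Φ i a p ᵥ* E[i](a, a.rev) = Φ.qT p := fun p hp => by
    rw [flat, Matrix.vecMul_vecMul, fs_mul, if_pos rfl]
    conv_rhs => rw [← hp, Φ.qT_mulVec, Φ.adj_fa, Φ.adj1_single, map_one, mul_one, Φ.sg_sq]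
  have hflat : flat Φ i a w = flat Φ i a w ᵥ* E[i](a, a) := by
    rw [flat, Matrix.vecMul_vecMul, fs_mul, if_pos rfl]
  have key : ∀ b φ : VT, E[i](a, a) *ᵥ b = b → E[i](a, a.rev) * rk1 i a b φ = vecMulVec b (φ ᵥ* E[i](a, a.rev)) :=
    fun b φ hb => by
      rw [rk1, ← mul_bl_mul, Matrix.mul_vecMulVec, Matrix.vecMulVec_mul, hb]
  rw [Matrix.mul_smul, mul_add, key w _ hw', key _ _ (show E[i](a, a) *ᵥ (-u) = -u by rw [Matrix.mulVec_neg, hu']),
    hq u hu', hq w hw', Matrix.add_mulVec, Matrix.one_mulVec, Matrix.smul_mulVec, Matrix.add_mulVec,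
    Matrix.vecMulVec_mulVec, Matrix.vecMulVec_mulVec, op_smul_eq_smul, op_smul_eq_smul, hD.pol', hD.pol',
    hD.zero_coord hw', zero_mul, sub_zero]
  module

theorem pol_atPt {u w : VT} (hu : u ∈ atPt i a) (hw : w ∈ atPt i a) : polar Q u w = 0 := by
  have h := (atPt i a).add_mem hu hw
  simp only [polar, hD.zero_coord (mem_atPt.1 h), hD.zero_coord (mem_atPt.1 hu), hD.zero_coord (mem_atPt.1 hw),
    sub_zero]

/-- A group contains a long root element if it contains the Eichler transformations. -/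
theorem long_of_KE {K : Subgroup (GL (Fin t → Fin k) F)} [Fintype F] (hn : 5 ≤ k ^ t)
    (hK : ∀ u w, u ∈ atPt i a → w ∈ atPt i a → KE Q K u w) (b φ : VT) :
    IsLong K i a (rk1 i a b φ + Φ.adj (rk1 i a b φ)) := by
  set u : VT := -sharp Φ i a φ with hu0
  have hu : u ∈ atPt i a := Submodule.neg_mem _ (hD.sharp_mem φ)
  set w : VT := c⁻¹ • (E[i](a, a) *ᵥ b) with hw0
  have hw : w ∈ atPt i a := (atPt i a).smul_mem _ (atPt_sub _ _ _)
  have hfu : flat Φ i a u = φ ᵥ* E[i](a, a) := by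
    rw [hu0, flat, Φ.qT_neg, Matrix.neg_vecMul, ← flat, hD.flat_sharp, neg_neg]
  have e : c • (rk1 i a w (flat Φ i a u) + Φ.adj (rk1 i a w (flat Φ i a u))) =
      rk1 i a b φ + Φ.adj (rk1 i a b φ) := by
    rw [hfu, hw0, rk1_smul_left, ← rk1_vec, Φ.adj_smul, hD.id, ← smul_add, smul_smul, mul_inv_cancel₀ hD.hc, one_smul]
  refine ⟨fun X => (rk1_commute _ _ X).add_left (Φ.adj_commute (fun X => rk1_commute _ _ X) X), ?_⟩
  obtain ⟨g, -, hgv⟩ := hD.eich_DG hn (hD.zero_coord (mem_atPt.1 hu)) (hD.pol_atPt hu hw)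
  refine ⟨g, hK u w hu hw g hgv, Matrix.ext_of_mulVec_single fun p => ?_⟩
  rw [hgv, ← e, hD.long_eich hu hw]

end QData

end CfsgLib.MaxSub.TensorForm
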