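import Cfsg.Agent.Lib.MaxSub.TensorForm.FrameForm
import Cfsg.Agent.Lib.MaxSub.SubspaceMaximal
import Cfsg.Agent.Lib.MaxSub.TensorWreathSympFrame

/-!
The stabiliser of an odd tensor power of symplectic spaces of dimension at least four is maximal.
-/

set_option autoImplicit false
set_option maxHeartbeats 1000000
set_option linter.unusedSectionVars false
set_option linter.unusedSimpArgs false

namespace CfsgLib.MaxSub.TensorForm

open Matrix
open CfsgLib.Aschbacher CfsgLib.MaxSub.TensorPow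

variable {F : Type*} [Field F] {k t m : ℕ}

local notation "Mm" => Matrix (Fin k) (Fin k) F
local notation "MT" => Matrix (Fin t → Fin k) (Fin t → Fin k) F

/-- The symplectic frame. -/
def sympFrame (F : Type*) [Field F] (l : ℕ) : Frame F (l + l) where
  σ := RingHom.id F
  invol _ := rfl
  sg x := if (x : ℕ) < l then -1 else 1
  sg_sq x := by split <;> simp
  eps := -1
  eps_sq := by simp
  sg_rev x := by
    rw [Fin.val_rev]
    by_cases h : (x : ℕ) < l
    · rw [if_pos h, if_neg (by omega)]; simp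
    · rw [if_neg h, if_pos (by omega)]; simp

/-- A standard basis for an alternating form. -/
theorem exists_symp_frame {f : (Fin k → F) → (Fin k → F) → F} (hf : Cfsg.Geo.IsSymplecticForm f) :
    ∃ (l : ℕ) (h : k = l + l), ∃ (C : GL (Fin k) F) (r : F), r ≠ 0 ∧
      (C : Mm)ᵀ * Cfsg.Geo.gramMatrix f * (C : Mm).map (RingHom.id F) =
        r • (h ▸ (sympFrame F l).gram : Matrix (Fin k) (Fin k) F) := by
  have hskew : (Cfsg.Geo.gramMatrix f)ᵀ = -Cfsg.Geo.gramMatrix f := by
    ext a b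
    exact hf.skew _ _
  obtain ⟨l, hl, P, P', s, hP, hP', hs⟩ :=
    PSLnGraph.exists_symp hskew (fun i => hf.alternating _) (TensorSymp.gram_det_ne_zero hf)
  rw [Fintype.card_fin] at hl
  subst hl
  refine ⟨l, rfl, ?_⟩
  let φ : Fin (l + l) ≃ Fin l ⊕ Fin l :=
    finSumFinEquiv.symm.trans (Equiv.sumCongr (Equiv.refl _) Fin.revPerm)
  have hJ : (Matrix.J (Fin l) F).submatrix φ φ = (sympFrame F l).gram := by
    ext x y
    obtain ⟨u, rfl⟩ := (finSumFinEquiv (m := l) (n := l)).surjective x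
    obtain ⟨v, rfl⟩ := (finSumFinEquiv (m := l) (n := l)).surjective y
    simp only [Matrix.submatrix_apply, φ, Equiv.trans_apply, Equiv.symm_apply_apply, Equiv.sumCongr_apply,
      Equiv.coe_refl, Frame.gram, Matrix.of_apply, sympFrame]
    rcases u with i | i <;> rcases v with j | j <;>
      simp only [Sum.map_inl, Sum.map_inr, id_eq, Fin.revPerm_apply, finSumFinEquiv_apply_left,
        finSumFinEquiv_apply_right, Fin.coe_castAdd, Fin.coe_natAdd, Fin.ext_iff, Fin.val_rev, Matrix.J,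
        Matrix.fromBlocks_apply₁₁, Matrix.fromBlocks_apply₁₂, Matrix.fromBlocks_apply₂₁, Matrix.fromBlocks_apply₂₂,
        Matrix.zero_apply, Matrix.neg_apply, Matrix.one_apply] <;>
      split_ifs <;> first | rfl | omega | simp
  let C : Matrix (Fin (l + l)) (Fin (l + l)) F := P.submatrix id φ
  have hu : IsUnit C := by
    have h : P'.submatrix φ id * C = 1 := by
      rw [Matrix.submatrix_mul _ _ _ id _ Function.bijective_id |>.symm, hP', Matrix.submatrix_one_equiv]
    exact IsUnit.of_mul_eq_one_right _ h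
  refine ⟨hu.unit, _, (s⁻¹).ne_zero, ?_⟩
  rw [← hJ, ← hs]
  ext i j
  simp [C, Matrix.mul_apply]

variable [Fintype F]

open Cfsg.Geo in
/-- The stabiliser of an odd tensor power of symplectic spaces is maximal. -/
theorem symp_tensorWreath_maximal (hodd : Odd (Fintype.card F)) (hk : 4 ≤ k) (ht : Odd t) (ht2 : 2 ≤ t)
    (e : (Fin m ⊕ Fin m) ≃ (Fin t → Fin k)) (P : GL (Fin m ⊕ Fin m) F) (f₁ : (Fin k → F) → (Fin k → F) → F)
    (hf₁ : IsSymplecticForm f₁) (hT : IsTensorPowerFormStructure id (Cfsg.sympForm m F) f₁ e P) :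
    IsMaximalIn (Cfsg.spGL m F) (tensorWreathSubgroup k t e P ⊓ Cfsg.spGL m F) := by
  classical
  obtain ⟨l, rfl, C, r, hr, hC⟩ := exists_symp_frame hf₁
  haveI : NeZero (l + l) := ⟨by omega⟩
  set Φ := sympFrame F l with hΦ
  obtain ⟨c, hc, hform⟩ := Frame.formIn_newFrame (Φ := Φ) (σ := id) (fun _ => rfl) hT C hr hC
  rw [← tensorWreath_newFrame e P C]
  set P' := newFrame e P C with hP'
  clear_value P'
  have h2 : (2 : F) ≠ 0 := by
    refine Ring.two_ne_zero fun h => ?_
    have := FiniteField.even_card_of_char_two h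
    rw [Nat.odd_iff] at hodd
    omega
  have hL : Φ.Lng 1 := by show (1 : F) + -1 * 1 = 0; ring
  have hcc : (2⁻¹ : F) + Φ.σ (2⁻¹) = 1 := by
    show (2⁻¹ : F) + 2⁻¹ = 1
    field_simp; norm_num
  have hd := Φ.halfTrace_of hcc
  have hev : Even (l + l) := ⟨l, rfl⟩
  set a : Fin (l + l) := ⟨0, by omega⟩ with ha0
  have hpt : ∀ x : Fin (l + l), x ≠ x.rev → Φ.PointTools x := fun x hx =>
    Φ.pointTools_of hd one_ne_zero hL hx (fun y hy => absurd hy (ne_rev_of_even hev y)) (Or.inl hk)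
  have ha : a ≠ a.rev := ne_rev_of_even hev a
  have hTools : Tools Φ a :=
    ⟨ha, hpt, Φ.transitive_of one_ne_zero hL (hpt a ha), ⟨fun h => by omega, fun h => by omega⟩,
      ⟨⟨1, one_ne_zero, hL⟩, Or.inl ⟨⟨-1, by simp, by simp, fun h => h2 (by linear_combination -h)⟩, Or.inl hk⟩⟩⟩
  have hPat : PatTools Φ := Or.inr ⟨hev, hk, rfl, Or.inl h2⟩
  have hiso : ∀ g, frU e P' g ∈ Cfsg.spGL m F ↔ Φ.Iso g := fun g => hform.iso_iff hc g
  have heps : Φ.eps ^ t = -1 := ht.neg_one_pow
  refine ⟨lt_of_le_of_ne inf_le_right fun h => ?_, fun G hG hGS => ?_⟩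
  · have hne : (fun _ : Fin t => a) ≠ fun _ : Fin t => a.rev := fun e => ha (congrFun e ⟨0, by omega⟩)
    let g : GL (Fin t → Fin (l + l)) F :=
      one_add (Matrix.single (fun _ => a) (fun _ => a.rev) 1) (Matrix.single_mul_single_of_ne _ _ _ _ (Ne.symm hne) _)
    have hgi : Φ.Iso g := by
      show Φ.adj (1 + _) * (1 + _) = (1 : Matrix (Fin t → Fin (l + l)) (Fin t → Fin (l + l)) F)
      rw [Φ.adj_add, Φ.adj_one, Φ.adj_single]
      have e1 : (Fin.rev ∘ fun _ : Fin t => a.rev) = fun _ => a := funext fun _ => Fin.rev_rev a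
      have e2 : (Fin.rev ∘ fun _ : Fin t => a) = fun _ => a.rev := rfl
      rw [e1, e2, map_one, mul_one]
      have hs : Φ.sgT (fun _ : Fin t => a) * Φ.sgT (fun _ : Fin t => a.rev) = -1 := by
        rw [← e2, Φ.sgT_rev, heps]
        linear_combination -Φ.sgT_sq (fun _ : Fin t => a)
      rw [hs, ← Matrix.single_neg]
      simp [add_mul, mul_add, Matrix.single_mul_single_of_ne _ _ _ _ (Ne.symm hne)]
    have hmem : frU e P' g ∈ tensorWreathSubgroup (l + l) t e P' := by
      have : frU e P' g ∈ Cfsg.spGL m F := (hiso g).2 hgi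
      rw [← h] at this
      exact this.1
    rw [tensorWreathSubgroup, map_glReindex_conj] at hmem
    obtain ⟨g', hg', he⟩ := hmem
    rw [(frU e P').injective he] at hg'
    exact not_isWr_transvection ht2 ha one_ne_zero (g := g) rfl (mem_std_iff.1 hg')
  by_cases hin : G ≤ tensorWreathSubgroup (l + l) t e P'
  · exact Or.inl (le_antisymm (le_inf hin hGS) hG)
  refine Or.inr (le_antisymm hGS ?_)
  rw [tensorWreathSubgroup, map_glReindex_conj] at hG hin
  let K := G.comap (frU e P').toMonoidHom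
  have hK : ∀ g : GL (Fin t → Fin (l + l)) F, IsWr g → Φ.Iso g → g ∈ K := fun g hg hi =>
    hG ⟨⟨g, mem_std_iff.2 hg, rfl⟩, (hiso g).2 hi⟩
  have hperm : ∀ π : Equiv.Perm (Fin t), pureGL 1 * permGL (l + l) F π ∈ K := fun π =>
    hK _ ⟨1, π, rfl⟩ (by rw [pureGL_one, one_mul]; exact Φ.iso_perm π)
  have hH : Φ.Hyp K :=
    ⟨fun g hg => (hiso g).1 (hGS hg), fun i s hs => hK _ (isWr_fu i s) (Φ.iso_fu i hs.1),
      ⟨fun i j z _ hzi hzj => ⟨1, _, Equiv.swap_apply_left i j,
          fun x hxi hxj _ => Equiv.swap_apply_of_ne_of_ne hxi hxj, hperm _⟩,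
        fun i j z hji hzi => ⟨1, _, Equiv.swap_apply_of_ne_of_ne hji.symm hzi.symm, Equiv.swap_apply_left j z,
          hperm _⟩⟩⟩
  rcases wr_or_transvections (by omega) ht2 hH hTools hPat rfl one_ne_zero hL hcc with h | h
  · refine absurd (fun g hg => ?_) hin
    exact ⟨(frU e P').symm g, h (show frU e P' ((frU e P').symm g) ∈ G by rwa [MulEquiv.apply_symm_apply]),
      MulEquiv.apply_symm_apply _ _⟩
  refine spGL_le_of_centre fun v d => ?_
  obtain ⟨x, rfl⟩ := Frame.exists_coords e P' v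
  have hiso0 : Φ.qT x ⬝ᵥ x = 0 := by
    have h1 := sympForm_alt (F := F) m ((P' : Matrix (Fin m ⊕ Fin m) (Fin m ⊕ Fin m) F) *ᵥ (x ∘ e))
    rw [hform] at h1
    exact (mul_eq_zero.1 h1).resolve_left hc
  obtain ⟨g₀, hg₀, hg₀v⟩ := h x hiso0 (d * c) (by
    rw [heps]
    show d * c + -1 * (d * c) = 0
    ring)
  suffices sT ((P' : Matrix (Fin m ⊕ Fin m) (Fin m ⊕ Fin m) F) *ᵥ (x ∘ e)) d = frU e P' g₀ by
    rw [this]; exact hg₀
  refine Units.ext (Matrix.ext_of_mulVec_single fun p => ?_)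
  obtain ⟨y, hy⟩ := Frame.exists_coords e P' (Pi.single p 1)
  rw [sT_mulVec, hy, frU_mulVec, hform, hg₀v, Matrix.add_mulVec, Matrix.one_mulVec, Matrix.smul_mulVec,
    Matrix.vecMulVec_mulVec, op_smul_eq_smul, smul_smul, show (y + (d * c * (Φ.qT x ⬝ᵥ y)) • x) ∘ e =
      y ∘ e + (d * c * (Φ.qT x ⬝ᵥ y)) • (x ∘ e) from rfl, Matrix.mulVec_add, Matrix.mulVec_smul, mul_assoc d c]

end CfsgLib.MaxSub.TensorForm
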