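import Cfsg.Agent.Lib.MaxSub.TensorForm.OrthBlocks
import Cfsg.Agent.Lib.MaxSub.TensorForm.Symp
import Cfsg.Agent.Lib.MaxSub.TensorForm.Hyper

/-!
The factor groups and the permutations of the factors in the derived group of the isometry group.
-/

set_option autoImplicit false
set_option maxHeartbeats 1000000
set_option linter.unusedSectionVars false
set_option linter.unusedSimpArgs false

namespace CfsgLib.MaxSub.TensorForm

open Matrix QuadraticMap
open CfsgLib.Aschbacher CfsgLib.MaxSub.TensorPow

variable {F : Type*} [Field F] {k t : ℕ}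

local notation "Mm" => Matrix (Fin k) (Fin k) F
local notation "MT" => Matrix (Fin t → Fin k) (Fin t → Fin k) F
local notation "VT" => (Fin t → Fin k) → F
local notation "GT" => GL (Fin t → Fin k) F
local notation "E[" i "](" a "," b ")" => fa i (Matrix.single a b (1 : F))

variable {Q : QuadraticForm F ((Fin t → Fin k) → F)} {Φ : Frame F k} {c : F} {i : Fin t} {a : Fin k}

namespace QData

variable (hD : QData Φ Q c)
include hD

theorem lng (d : F) : Φ.Lng d := by
  show d + Φ.eps * Φ.σ d = 0
  rw [hD.eps, hD.id]; ring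

theorem bl_self {M : MT} (hM : ∀ X, Commute M (fa i X)) : bl i M a a = M := by
  conv_lhs => rw [← one_mul M, ← map_one (fa (F := F) (m := k) i), bl_fa_mul i _ hM, Matrix.one_apply_eq, one_smul]

/-- All alternating blocks are long root blocks. -/
theorem alt_long [Fintype F] (hn : 5 ≤ k ^ t) {K : Subgroup (GL (Fin t → Fin k) F)}
    (hK : ∀ u w, u ∈ atPt i a → w ∈ atPt i a → KE Q K u w) {Y : MT} (hY : ∀ X, Commute Y (fa i X)) :
    IsLong K i a (Y + Φ.adj Y) := by
  have ha := hD.ne a
  have e : Y = ∑ x, ∑ y, rk1 i a (Pi.single x (Y x y)) (Pi.single y 1) := by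
    conv_lhs => rw [← hD.bl_self (a := a) hY, Matrix.matrix_eq_sum_single Y]
    simp only [bl, Finset.sum_mul, Finset.mul_sum, rk1, ← single_eq_single_vecMulVec_single]
    rw [Finset.sum_comm]
    refine Finset.sum_congr rfl fun x _ => ?_
    rw [Finset.sum_comm]
    refine Finset.sum_congr rfl fun y _ => ?_
    refine Finset.sum_congr rfl fun r _ => ?_
    congr 2
    ext p q
    simp [vecMulVec_apply, Matrix.single_apply, Pi.single_apply, and_comm, eq_comm]
    split_ifs <;> simp_all
  rw [e, Φ.adj_sum, ← Finset.sum_add_distrib]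
  refine AddSubgroup.sum_mem (longGroup K i ha) fun x _ => ?_
  rw [Φ.adj_sum, ← Finset.sum_add_distrib]
  exact AddSubgroup.sum_mem (longGroup K i ha) fun y _ => hD.long_of_KE hn hK _ _

/-- Scalars are sums of a block and its adjoint. -/
theorem scalar_split (ht : 2 ≤ t) (i : Fin t) (d : F) :
    ∃ Y : MT, (∀ X, Commute Y (fa i X)) ∧ Y + Φ.adj Y = d • (1 : MT) := by
  obtain ⟨j, hj⟩ : ∃ j : Fin t, j ≠ i := Fintype.exists_ne_of_one_lt_card (by simpa using by omega) i
  set D : Mm := Matrix.diagonal fun x => if x < x.rev then d else 0 with hDdef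
  refine ⟨fa j D, fun X => fa_commute hj _ _, ?_⟩
  rw [Φ.adj_fa, ← map_add, ← map_one (fa (F := F) (m := k) j), ← map_smul]
  congr 1
  ext x y
  rw [Matrix.add_apply, Φ.adj1_apply, hD.id, hDdef]
  by_cases h : x = y
  · subst h
    rw [Matrix.diagonal_apply_eq, Matrix.diagonal_apply_eq, Φ.sg_sq, one_mul, Matrix.smul_apply, Matrix.one_apply_eq,
      Fin.rev_rev, smul_eq_mul, mul_one]
    rcases lt_or_gt_of_ne (hD.ne x) with h | h
    · rw [if_pos h, if_neg (not_lt.2 h.le), add_zero]
    · rw [if_neg (not_lt.2 h.le), if_pos h, zero_add]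
  · simp [Matrix.diagonal_apply_ne _ h, Fin.rev_inj, Ne.symm h, Matrix.one_apply_ne h]

/-- The long root elements of the factor groups are in the derived group. -/
theorem long_fu_DG [Fintype F] (hn : 5 ≤ k ^ t) (ht : 2 ≤ t) (i : Fin t) (a : Fin k) (d : F)
    {s : GL (Fin k) F} (hs : (s : Mm) = 1 + Matrix.single a a.rev d) : fu i s ∈ DG Q := by
  obtain ⟨Y, hY, hYd⟩ := hD.scalar_split ht i d
  obtain ⟨-, g, hg, hgv⟩ := hD.alt_long hn (K := DG Q) (i := i) (a := a)
    (fun u w hu hw => hD.KE_DG hn (hD.zero_coord (mem_atPt.1 hu)) (hD.pol_atPt hu hw)) hY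
  convert hg using 1
  refine Units.ext ?_
  rw [fu_val, hgv, hYd, hs, map_add, map_one, Matrix.mul_smul, mul_one, ← map_smul, Matrix.smul_single, smul_eq_mul,
    mul_one]

/-- A double transposition of a basis is an Eichler transformation in characteristic two. -/
theorem double_swap_DG [Fintype F] (h2 : (2 : F) = 0) (hn : 5 ≤ k ^ t) {p q : Fin t → Fin k} (hpq : p ≠ q)
    (hpq' : q ≠ Fin.rev ∘ p) {g : GT}
    (hg : (g : MT) = (Equiv.swap p q * Equiv.swap (Fin.rev ∘ p) (Fin.rev ∘ q)).permMatrix F) : g ∈ DG Q := by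
  classical
  have h11 : (-1 : F) = 1 := by linear_combination -h2
  have hone : ∀ z : Fin t → Fin k, Φ.sgT z = 1 := fun z => by
    rcases mul_self_eq_one_iff.1 (Φ.sgT_sq z) with h | h
    · exact h
    · rw [h, h11]
  have hqT : ∀ (z : Fin t → Fin k) (d : F), Φ.qT (Pi.single z d) = Pi.single (Fin.rev ∘ z) d := fun z d => by
    funext y
    rw [Frame.qT, hone, one_mul, hD.id]
    by_cases h : y = Fin.rev ∘ z
    · subst h; rw [Pi.single_eq_same, show Fin.rev ∘ (Fin.rev ∘ z) = z from Frame.revT_inv z, Pi.single_eq_same]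
    · rw [Pi.single_eq_of_ne h, Pi.single_eq_of_ne]
      intro e
      exact h (by rw [← e]; exact (Frame.revT_inv y).symm)
  set p' : Fin t → Fin k := Fin.rev ∘ p with hp'
  set q' : Fin t → Fin k := Fin.rev ∘ q with hq'
  have hpp : Fin.rev ∘ p' = p := Frame.revT_inv p
  have hqq : Fin.rev ∘ q' = q := Frame.revT_inv q
  have t0 : ∃ i : Fin t, True := by
    rcases Nat.eq_zero_or_pos t with h0 | h0
    · subst h0; exact absurd (Subsingleton.elim p q) hpq
    · exact ⟨⟨0, h0⟩, trivial⟩
  obtain ⟨i₀, -⟩ := t0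
  have nr : ∀ z : Fin t → Fin k, z ≠ Fin.rev ∘ z := fun z e => hD.ne (z i₀) (congrFun e i₀)
  have d1 : p ≠ p' := nr p
  have d2 : q ≠ q' := nr q
  have d3 : p ≠ q' := fun e => hpq' (by rw [hp', e]; exact hqq.symm)
  have d4 : p' ≠ q' := fun e => hpq (by rw [← hpp, e, hqq])
  set u : VT := Pi.single p 1 + Pi.single q 1 with hu
  set w : VT := c⁻¹ • (Pi.single p' 1 + Pi.single q' 1) with hw
  have hQu : Q u = 0 := by
    refine hD.zero_on u fun x y hx hy e => ?_
    have hs : ∀ z, u z ≠ 0 → z = p ∨ z = q := fun z hz => by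
      by_contra hc
      push Not at hc
      exact hz (by simp [u, hc.1, hc.2])
    rcases hs x hx with rfl | rfl <;> rcases hs y hy with rfl | rfl
    · exact nr _ e
    · exact hpq' e
    · exact d3 e
    · exact nr _ e
  have hQw : Q w = 0 := by
    refine hD.zero_on w fun x y hx hy e => ?_
    have hs : ∀ z, w z ≠ 0 → z = p' ∨ z = q' := fun z hz => by
      by_contra hc
      push Not at hc
      exact hz (by simp [w, hc.1, hc.2])
    rcases hs x hx with rfl | rfl <;> rcases hs y hy with rfl | rfl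
    · exact nr _ e
    · exact d3 (e.trans hpp).symm
    · exact hpq' (by rw [show p' = q from e.trans hqq])
    · exact nr _ e
  have hqu : Φ.qT u = Pi.single p' 1 + Pi.single q' 1 := by rw [hu, Φ.qT_add, hqT, hqT]
  have hqw : Φ.qT w = c⁻¹ • (Pi.single p 1 + Pi.single q 1) := by
    rw [hw, Φ.qT_smul, hD.id, Φ.qT_add, hqT, hqT, hpp, hqq]
  have huw : polar Q u w = 0 := by
    rw [hD.pol', hqu, hw]
    simp only [dotProduct_smul, add_dotProduct, dotProduct_add, single_one_dotProduct, Pi.single_eq_same,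
      Pi.single_eq_of_ne d4, Pi.single_eq_of_ne d4.symm, add_zero, zero_add, smul_eq_mul]
    linear_combination c * c⁻¹ * h2
  refine hD.KE_DG hn hQu huw g fun x => ?_
  rw [hg, hQw, zero_mul, sub_zero, hD.pol', hD.pol', hqu, hqw, hu, hw]
  funext z
  have hz : ((Equiv.swap p q * Equiv.swap p' q').permMatrix F *ᵥ x) z =
      x ((Equiv.swap p q * Equiv.swap p' q') z) := by
    rw [Matrix.permMatrix_mulVec]; rfl
  rw [hz]
  simp only [add_dotProduct, smul_dotProduct, single_one_dotProduct, Pi.add_apply, Pi.smul_apply, smul_eq_mul,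
    Equiv.Perm.mul_apply]
  have hc := hD.hc
  by_cases z1 : z = p
  · subst z1
    rw [Equiv.swap_apply_of_ne_of_ne d1 d3, Equiv.swap_apply_left]
    simp [hpq, d1, d3]
    field_simp
    linear_combination (x q) * h2
  by_cases z2 : z = q
  · subst z2
    rw [Equiv.swap_apply_of_ne_of_ne hpq' d2, Equiv.swap_apply_right]
    simp [Ne.symm hpq, hpq', d2]
    field_simp
    linear_combination (x p) * h2
  by_cases z3 : z = p'
  · subst z3
    rw [Equiv.swap_apply_left, Equiv.swap_apply_of_ne_of_ne d3.symm d2.symm]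
    simp [z1, z2, d4]
    field_simp
    linear_combination -(x p') * h2
  by_cases z4 : z = q'
  · subst z4
    rw [Equiv.swap_apply_right, Equiv.swap_apply_of_ne_of_ne d1.symm (Ne.symm hpq')]
    simp [z1, z2, z3]
    field_simp
    linear_combination -(x q') * h2
  rw [Equiv.swap_apply_of_ne_of_ne z3 z4, Equiv.swap_apply_of_ne_of_ne z1 z2]
  simp [z1, z2, z3, z4]

/-- The permutation matrices of involutions respecting the reversal are in the derived group. -/
theorem invol_DG [Fintype F] (h2 : (2 : F) = 0) (hn : 5 ≤ k ^ t) :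
    ∀ π : Equiv.Perm (Fin t → Fin k), π * π = 1 → (∀ z, π (Fin.rev ∘ z) = Fin.rev ∘ π z) →
      (∀ z, π z ≠ Fin.rev ∘ z) → ∀ g : GT, (g : MT) = π.permMatrix F → g ∈ DG Q := by
  intro π
  induction hs : π.support.card using Nat.strong_induction_on generalizing π with
  | _ n ih =>
    intro hπ hrev hne g hg
    by_cases hone : π = 1
    · subst hone
      rw [Matrix.permMatrix_one] at hg
      rw [show g = 1 from Units.ext (by rw [hg]; rfl)]
      exact one_mem _
    obtain ⟨p, hp⟩ : ∃ p, π p ≠ p := by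
      by_contra h
      push Not at h
      exact hone (Equiv.ext h)
    set q := π p with hq
    have hqp : π q = p := by
      have := Equiv.ext_iff.1 hπ p
      simpa using this
    set d := Equiv.swap p q * Equiv.swap (Fin.rev ∘ p) (Fin.rev ∘ q) with hd
    set π' := d * π with hπ'
    have hp' : π (Fin.rev ∘ p) = Fin.rev ∘ q := by rw [hrev]
    have hq' : π (Fin.rev ∘ q) = Fin.rev ∘ p := by rw [hrev, hqp]
    have n1 : q ≠ Fin.rev ∘ p := hne p
    have n2 : p ≠ Fin.rev ∘ q := by
      intro e; exact hne q (by rw [hqp]; exact e)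
    have n3 : Fin.rev ∘ p ≠ Fin.rev ∘ q := fun e => hp (Frame.revT_inv.injective e).symm
    have nr : ∀ x : Fin t → Fin k, x ≠ Fin.rev ∘ x := fun x e => by
      rcases Nat.eq_zero_or_pos t with h0 | h0
      · subst h0; exact hp (Subsingleton.elim _ _)
      · exact hD.ne _ (congrFun e ⟨0, h0⟩)
    have ev : ∀ z, π' z = if z = p then p else if z = q then q else if z = Fin.rev ∘ p then Fin.rev ∘ p else
        if z = Fin.rev ∘ q then Fin.rev ∘ q else π z := by
      intro z
      rw [hπ', hd, Equiv.Perm.mul_apply, Equiv.Perm.mul_apply]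
      split_ifs with h1 h2 h3 h4
      · subst h1; rw [← hq, Equiv.swap_apply_of_ne_of_ne n1 (nr q), Equiv.swap_apply_right]
      · subst h2; rw [hqp, Equiv.swap_apply_of_ne_of_ne (nr p) n2, Equiv.swap_apply_left]
      · subst h3; rw [hp', Equiv.swap_apply_right, Equiv.swap_apply_of_ne_of_ne h1 h2]
      · subst h4; rw [hq', Equiv.swap_apply_left, Equiv.swap_apply_of_ne_of_ne h1 h2]
      · have e1 : π z ≠ Fin.rev ∘ p := fun e => h4 (π.injective (e.trans hq'.symm))
        have e2 : π z ≠ Fin.rev ∘ q := fun e => h3 (π.injective (e.trans hp'.symm))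
        have e3 : π z ≠ p := fun e => h2 (π.injective (e.trans hqp.symm))
        have e4 : π z ≠ q := fun e => h1 (π.injective (e.trans hq))
        rw [Equiv.swap_apply_of_ne_of_ne e1 e2, Equiv.swap_apply_of_ne_of_ne e3 e4]
    have hcomm : Equiv.swap p q * Equiv.swap (Fin.rev ∘ p) (Fin.rev ∘ q) =
        Equiv.swap (Fin.rev ∘ p) (Fin.rev ∘ q) * Equiv.swap p q := by
      refine Equiv.Perm.Disjoint.commute fun z => ?_
      by_cases h1 : z = p
      · subst h1; exact Or.inr (Equiv.swap_apply_of_ne_of_ne (nr _) n2)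
      by_cases h2 : z = q
      · subst h2; exact Or.inr (Equiv.swap_apply_of_ne_of_ne n1 (nr _))
      exact Or.inl (Equiv.swap_apply_of_ne_of_ne h1 h2)
    have hsub : π'.support ⊆ π.support.erase p := by
      intro z hz
      rw [Equiv.Perm.mem_support, ev] at hz
      split_ifs at hz with h1 h2 h3 h4
      · exact absurd h1.symm hz
      · exact absurd h2.symm hz
      · exact absurd h3.symm hz
      · exact absurd h4.symm hz
      · exact Finset.mem_erase.2 ⟨h1, Equiv.Perm.mem_support.2 hz⟩
    have hlt : π'.support.card < n := by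
      refine hs ▸ (Finset.card_le_card hsub).trans_lt (Finset.card_erase_lt_of_mem (Equiv.Perm.mem_support.2 hp))
    have hπ'2 : π' * π' = 1 := Equiv.ext fun z => by
      rw [Equiv.Perm.mul_apply, Equiv.Perm.one_apply, ev z]
      split_ifs with h1 h2 h3 h4
      · rw [ev, if_pos rfl, h1]
      · rw [ev, if_neg fun e => hp e, if_pos rfl, h2]
      · subst h3; rw [ev, if_neg h1, if_neg h2, if_pos rfl]
      · subst h4; rw [ev, if_neg h1, if_neg h2, if_neg h3, if_pos rfl]
      · rw [ev, if_neg (fun e => h2 (π.injective (e.trans hqp.symm))), if_neg (fun e => h1 (π.injective (e.trans hq))),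
          if_neg (fun e => h4 (π.injective (e.trans hq'.symm))), if_neg (fun e => h3 (π.injective (e.trans hp'.symm)))]
        have := Equiv.ext_iff.1 hπ z
        simpa using this
    have hrev' : ∀ z, π' (Fin.rev ∘ z) = Fin.rev ∘ π' z := fun z => by
      have hs : ∀ u v w : Fin t → Fin k, Equiv.swap (Fin.rev ∘ u) (Fin.rev ∘ v) (Fin.rev ∘ w) =
          Fin.rev ∘ Equiv.swap u v w := fun u v w => by
        by_cases h1 : w = u
        · subst h1; rw [Equiv.swap_apply_left, Equiv.swap_apply_left]
        by_cases h2 : w = v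
        · subst h2; rw [Equiv.swap_apply_right, Equiv.swap_apply_right]
        rw [Equiv.swap_apply_of_ne_of_ne h1 h2,
          Equiv.swap_apply_of_ne_of_ne (Frame.revT_inv.injective.ne h1) (Frame.revT_inv.injective.ne h2)]
      have hd' : ∀ y, d (Fin.rev ∘ y) = Fin.rev ∘ d y := fun y => by
        rw [hd, Equiv.Perm.mul_apply, hs]
        nth_rw 1 [← show Fin.rev ∘ (Fin.rev ∘ p) = p from Frame.revT_inv p,
          ← show Fin.rev ∘ (Fin.rev ∘ q) = q from Frame.revT_inv q]
        rw [hs, ← Equiv.Perm.mul_apply, ← hcomm]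
      show d (π (Fin.rev ∘ z)) = Fin.rev ∘ d (π z)
      rw [hrev, hd']
    have hne' : ∀ z, π' z ≠ Fin.rev ∘ z := fun z => by
      rw [ev]
      split_ifs with h1 h2 h3 h4
      · subst h1; exact nr _
      · subst h2; exact nr _
      · subst h3; exact nr _
      · subst h4; exact nr _
      · exact hne z
    have hdet : ∀ σ : Equiv.Perm (Fin t → Fin k), IsUnit (σ.permMatrix F).det := fun σ => by
      rw [Matrix.det_permutation]
      exact (Units.map (Int.castRingHom F).toMonoidHom (Equiv.Perm.sign σ)).isUnit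
    let g₁ : GT := Matrix.GeneralLinearGroup.mkOfDetNeZero _ (hdet d).ne_zero
    let g₂ : GT := Matrix.GeneralLinearGroup.mkOfDetNeZero _ (hdet π').ne_zero
    have h1 : g₁ ∈ DG Q := hD.double_swap_DG h2 hn (Ne.symm hp) n1 (g := g₁) rfl
    have h3 : g₂ ∈ DG Q := ih _ hlt π' rfl hπ'2 hrev' hne' g₂ rfl
    have hdd : d * d = 1 := by
      rw [hd]
      nth_rw 2 [hcomm]
      rw [mul_assoc, ← mul_assoc (Equiv.swap (Fin.rev ∘ p) (Fin.rev ∘ q)), Equiv.swap_mul_self, one_mul,
        Equiv.swap_mul_self]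
    have e : g = g₂ * g₁ := Units.ext (by
      show (g : MT) = (Equiv.Perm.permMatrix F π') * (Equiv.Perm.permMatrix F d)
      rw [hg, ← Matrix.permMatrix_mul, hπ', ← mul_assoc, hdd, one_mul])
    rw [e]
    exact mul_mem h3 h1

end QData

end CfsgLib.MaxSub.TensorForm
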