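import Cfsg.Agent.Lib.MaxSub.TensorForm.OrthDG

/-!
The generators of the stabiliser of the decomposition inside the derived group of the isometry group.
-/

set_option autoImplicit false
set_option maxHeartbeats 1000000
set_option linter.unusedSectionVars false
set_option linter.unusedSimpArgs false

namespace CfsgLib.MaxSub.TensorForm

open Matrix QuadraticMap
open CfsgLib.Aschbacher CfsgLib.MaxSub.TensorPow

variable {F : Type*} [Field F] {k t : ℕ}

local notation "Mm" => Matrix (Fin k) (Fin k) F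
local notation "MT" => Matrix (Fin t → Fin k) (Fin t → Fin k) F
local notation "VT" => (Fin t → Fin k) → F
local notation "GT" => GL (Fin t → Fin k) F

variable {Q : QuadraticForm F ((Fin t → Fin k) → F)} {Φ : Frame F k} {c : F}

namespace QData

variable (hD : QData Φ Q c)
include hD

/-- Every vector of a factor is isotropic. -/
theorem qv_self (v : Fin k → F) : Φ.qv v ⬝ᵥ v = 0 := by
  refine Finset.sum_involution (fun y _ => y.rev) (fun y _ => ?_) (fun y _ _ => (hD.ne y).symm)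
    (fun y _ => Finset.mem_univ _) fun y _ => Fin.rev_rev y
  simp only [Frame.qv, Fin.rev_rev, Φ.sg_rev, hD.eps, hD.id]
  ring

/-- Half traces need no invertibility of two. -/
theorem halfTrace : Φ.HalfTrace := fun Y sgn _ => ⟨0, by rw [dotProduct_comm, hD.qv_self]; simp⟩

/-- All transvections of a factor are in the derived group. -/
theorem transvection_fu_DG [Fintype F] (hn : 5 ≤ k ^ t) (ht : 2 ≤ t) {a : Fin k} (hV : Φ.Transitive a) (i : Fin t)
    (v : Fin k → F) (d : F) {s : GL (Fin k) F} (hs : (s : Mm) = 1 + d • vecMulVec v (Φ.qv v)) :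
    fu i s ∈ DG Q := by
  rcases eq_or_ne v 0 with rfl | hv
  · have : s = 1 := Units.ext (by rw [hs]; simp)
    rw [this, map_one]; exact one_mem _
  obtain ⟨s₀, μ, hμ, hs₀, hsv⟩ := hV v hv (hD.qv_self v)
  set d' : F := d * (Φ.sg a.rev * μ * μ)⁻¹ with hd'
  obtain ⟨l, -, hl⟩ := Φ.exists_long (hD.ne a) (hD.lng d')
  have e : s = s₀ * l * s₀⁻¹ := Units.ext (by
    rw [Units.val_mul, Units.val_mul, hl, mul_add, add_mul, mul_one, Units.mul_inv,
      show Matrix.single a a.rev d' = d' • Matrix.single a a.rev (1 : F) by simp, Matrix.mul_smul, Matrix.smul_mul,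
      Φ.conj_long hs₀.1, hsv, Φ.qv_smul, hD.id, smul_vecMulVec, vecMulVec_smul, smul_smul, smul_smul, smul_smul, hs]
    congr 2
    have := Φ.sg_ne a.rev
    rw [hd']
    field_simp)
  rw [e, map_mul, map_mul, map_inv]
  exact conj_mem_DG (hD.fu_mem_OG i hs₀.1) (hD.long_fu_DG hn ht i a d' hl)

theorem permGL_val (π : Equiv.Perm (Fin t)) :
    (permGL k F π : MT) = (idxPerm k π).permMatrix F := by
  ext x y
  show (if y = x ∘ π then (1 : F) else 0) = _
  simp [idxPerm, Equiv.Perm.permMatrix, PEquiv.toMatrix_apply, Equiv.toPEquiv_apply, eq_comm,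
    Equiv.arrowCongr_apply]
  rfl

/-- Products of two transpositions of the factors are in the derived group. -/
theorem two_swaps_DG {a b x y : Fin t} (hab : a ≠ b) (hxy : x ≠ y) :
    permGL k F (Equiv.swap a b * Equiv.swap x y) ∈ DG Q := by
  obtain ⟨π, hπ⟩ : ∃ π : Equiv.Perm (Fin t), π * Equiv.swap a b * π⁻¹ = Equiv.swap x y :=
    isConj_iff.1 (Equiv.Perm.isConj_swap hab hxy)
  have h := comm_mem_DG (hD.perm_mem_OG (Equiv.swap a b)) (hD.perm_mem_OG π)
  rwa [permGL_inv, permGL_inv, Equiv.swap_inv, permGL_mul, permGL_mul, permGL_mul,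
    show Equiv.swap a b * π * Equiv.swap a b * π⁻¹ = Equiv.swap a b * (π * Equiv.swap a b * π⁻¹) by
      simp only [mul_assoc], hπ] at h

/-- Transpositions of the factors in characteristic two. -/
theorem swap_DG [Fintype F] (h2 : (2 : F) = 0) (hn : 5 ≤ k ^ t) {a b x : Fin t} (hxa : x ≠ a) (hxb : x ≠ b) :
    permGL k F (Equiv.swap a b) ∈ DG Q := by
  have ev : ∀ z, idxPerm k (Equiv.swap a b) z = z ∘ Equiv.swap a b := fun z => rfl
  refine hD.invol_DG h2 hn (idxPerm k (Equiv.swap a b)) (Equiv.ext fun z => funext fun i => ?_) (fun z => rfl)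
    (fun z e => ?_) _ (hD.permGL_val _)
  · rw [Equiv.Perm.mul_apply, ev, ev]
    simp
  · have h := congrFun e x
    rw [ev, Function.comp_apply, Equiv.swap_apply_of_ne_of_ne hxa hxb] at h
    exact hD.ne (z x) h

/-- The moves of the factors. -/
theorem moves [Fintype F] [NeZero k] (hn : 5 ≤ k ^ t) (ht : t ≤ 2 ∨ 4 ≤ t ∨ (2 : F) = 0)
    {K : Subgroup (GL (Fin t → Fin k) F)} (hK : ∀ g, IsWr g → g ∈ DG Q → g ∈ K) : Moves K := by
  have hwr : ∀ π : Equiv.Perm (Fin t), permGL k F π ∈ DG Q → pureGL 1 * permGL k F π ∈ K := fun π h => by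
    rw [pureGL_one, one_mul]
    exact hK _ ⟨1, π, by rw [pureGL_one, one_mul]⟩ h
  refine ⟨fun i j l hij hli hlj => ⟨1, Equiv.swap i j * Equiv.swap j l, ?_, fun x hxi hxj hxl => ?_,
    hwr _ (hD.two_swaps_DG hij (Ne.symm hlj))⟩, fun i j l hji hli => ?_⟩
  · rw [Equiv.Perm.mul_apply, Equiv.swap_apply_of_ne_of_ne hij hli.symm, Equiv.swap_apply_left]
  · rw [Equiv.Perm.mul_apply, Equiv.swap_apply_of_ne_of_ne hxj hxl, Equiv.swap_apply_of_ne_of_ne hxi hxj]
  by_cases hjl : j = l
  · exact ⟨1, 1, rfl, hjl, by rw [pureGL_one, permGL_one, one_mul]; exact one_mem K⟩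
  rcases ht with h22 | h4 | h2
  · exfalso
    have := i.isLt; have := j.isLt; have := l.isLt
    have : (i : ℕ) ≠ j := fun e => hji (Fin.ext e).symm
    have : (l : ℕ) ≠ i := fun e => hli (Fin.ext e)
    have : (j : ℕ) ≠ l := fun e => hjl (Fin.ext e)
    omega
  · obtain ⟨x, hx⟩ : ∃ x, x ∈ (Finset.univ : Finset (Fin t)) \ {i, j, l} := Finset.card_pos.1 (by
      rw [Finset.card_sdiff, Finset.inter_univ, Finset.card_univ, Fintype.card_fin]
      have := Finset.card_le_three (a := i) (b := j) (c := l)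
      omega)
    simp only [Finset.mem_sdiff, Finset.mem_univ, true_and, Finset.mem_insert, Finset.mem_singleton, not_or] at hx
    refine ⟨1, Equiv.swap j l * Equiv.swap l x, ?_, ?_, hwr _ (hD.two_swaps_DG hjl (Ne.symm hx.2.2))⟩
    · rw [Equiv.Perm.mul_apply, Equiv.swap_apply_of_ne_of_ne hli.symm (Ne.symm hx.1),
        Equiv.swap_apply_of_ne_of_ne hji.symm hli.symm]
    · rw [Equiv.Perm.mul_apply, Equiv.swap_apply_of_ne_of_ne hjl (Ne.symm hx.2.1), Equiv.swap_apply_left]
  · exact ⟨1, Equiv.swap j l, Equiv.swap_apply_of_ne_of_ne hji.symm hli.symm, Equiv.swap_apply_left j l,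
      hwr _ (hD.swap_DG h2 hn hji.symm hli.symm)⟩

end QData

/-- The factor groups are in the derived group. -/
theorem fu_DG [Fintype F] {l : ℕ} {Q : QuadraticForm F ((Fin t → Fin (l + l)) → F)} {c : F}
    (hD : QData (sympFrame F l) Q c) (hn : 5 ≤ (l + l) ^ t) (ht : 2 ≤ t) {a : Fin (l + l)}
    (hV : (sympFrame F l).Transitive a) (i : Fin t) {s : GL (Fin (l + l)) F} (hs : (sympFrame F l).Iso1 s) :
    fu i s ∈ DG Q := by
  classical
  set Φ := sympFrame F l
  let φ : Fin (l + l) ≃ Fin l ⊕ Fin l :=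
    finSumFinEquiv.symm.trans (Equiv.sumCongr (Equiv.refl _) Fin.revPerm)
  have hJ : (Matrix.J (Fin l) F).submatrix φ φ = Φ.gram := by
    ext x y
    obtain ⟨u, rfl⟩ := (finSumFinEquiv (m := l) (n := l)).surjective x
    obtain ⟨v, rfl⟩ := (finSumFinEquiv (m := l) (n := l)).surjective y
    simp only [Matrix.submatrix_apply, φ, Equiv.trans_apply, Equiv.symm_apply_apply, Equiv.sumCongr_apply,
      Equiv.coe_refl, Frame.gram, Matrix.of_apply, Φ, sympFrame]
    rcases u with i | i <;> rcases v with j | j <;>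
      simp only [Sum.map_inl, Sum.map_inr, id_eq, Fin.revPerm_apply, finSumFinEquiv_apply_left,
        finSumFinEquiv_apply_right, Fin.coe_castAdd, Fin.coe_natAdd, Fin.ext_iff, Fin.val_rev, Matrix.J,
        Matrix.fromBlocks_apply₁₁, Matrix.fromBlocks_apply₁₂, Matrix.fromBlocks_apply₂₁, Matrix.fromBlocks_apply₂₂,
        Matrix.zero_apply, Matrix.neg_apply, Matrix.one_apply] <;>
      split_ifs <;> first | rfl | omega | simp
  have hB : ∀ u v : Fin (l + l) → F, Cfsg.sympForm l F (u ∘ φ.symm) (v ∘ φ.symm) = Φ.qv v ⬝ᵥ u := by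
    intro u v
    have e : Φ.gram *ᵥ v = (Matrix.J (Fin l) F *ᵥ (v ∘ φ.symm)) ∘ φ := by
      rw [← hJ, Matrix.submatrix_mulVec_equiv]
    have e2 : Φ.gram *ᵥ v = Φ.qv v := by
      funext x
      show ∑ y, (if y = x.rev then Φ.sg x else 0) * v y = _
      rw [Finset.sum_eq_single x.rev (fun y _ hy => by rw [if_neg hy, zero_mul]) (by simp), if_pos rfl]
      rfl
    rw [e2] at e
    rw [Cfsg.sympForm, e, dotProduct_comm _ u]
    exact comp_equiv_symm_dotProduct u _ φ
  let θ : GL (Fin (l + l)) F ≃* GL (Fin l ⊕ Fin l) F := Cfsg.Geo.glReindex φ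
  have hθ : ∀ (g : GL (Fin (l + l)) F) (x : Fin (l + l) → F),
      (θ g : Matrix (Fin l ⊕ Fin l) (Fin l ⊕ Fin l) F) *ᵥ (x ∘ φ.symm) =
        ((g : Matrix (Fin (l + l)) (Fin (l + l)) F) *ᵥ x) ∘ φ.symm := fun g x => by
    show Matrix.reindexAlgEquiv F F φ _ *ᵥ _ = _
    rw [Matrix.reindexAlgEquiv_apply, Matrix.reindex_apply, Matrix.submatrix_mulVec_equiv]
    congr 2
    funext p; simp
  have hsur : ∀ w : Fin l ⊕ Fin l → F, ∃ x, w = x ∘ φ.symm := fun w => ⟨w ∘ φ, by funext p; simp⟩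
  let K : Subgroup (GL (Fin l ⊕ Fin l) F) := ((DG Q).comap (fu i)).comap θ.symm.toMonoidHom
  have hle : Cfsg.spGL l F ≤ K := by
    refine CfsgLib.MaxSub.spGL_le_of_centre fun v d => ?_
    obtain ⟨v', rfl⟩ := hsur v
    refine hD.transvection_fu_DG hn ht hV i v' d (Matrix.ext_of_mulVec_single fun p => ?_)
    have e1 : (Pi.single p 1 : Fin (l + l) → F) ∘ φ.symm = Pi.single (φ p) 1 := by
      funext q
      simp [Pi.single_apply, Equiv.symm_apply_eq]
    refine funext fun q => ?_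
    have h := congrFun (hθ (θ.symm (sT (v' ∘ φ.symm) d)) (Pi.single p 1)) (φ q)
    rw [MulEquiv.apply_symm_apply, sT_mulVec, hB] at h
    simp only [Function.comp_apply, Equiv.symm_apply_apply, Pi.add_apply, Pi.smul_apply, smul_eq_mul] at h
    rw [show (θ.symm.toMonoidHom (sT (v' ∘ φ.symm) d)) = θ.symm (sT (v' ∘ φ.symm) d) from rfl, ← h, Matrix.add_mulVec, Matrix.one_mulVec,
      Matrix.smul_mulVec, Matrix.vecMulVec_mulVec, op_smul_eq_smul, Pi.add_apply, Pi.smul_apply, Pi.smul_apply,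
      smul_eq_mul, smul_eq_mul, mul_assoc]
  have hmem : θ s ∈ Cfsg.spGL l F := by
    intro u v
    obtain ⟨x, rfl⟩ := hsur u
    obtain ⟨y, rfl⟩ := hsur v
    simp only [Units.coeHom_apply]
    rw [hθ, hθ, hB, hB, Φ.qv_mulVec, ← Matrix.dotProduct_mulVec, Matrix.mulVec_mulVec, hs, Matrix.one_mulVec]
  have h := hle hmem
  rwa [Subgroup.mem_comap, MulEquiv.coe_toMonoidHom, MulEquiv.symm_apply_apply, Subgroup.mem_comap] at h

end CfsgLib.MaxSub.TensorForm
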