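import Cfsg.Agent.Lib.MaxSub.TensorForm.Builders
import Cfsg.Agent.Lib.MaxSub.TensorPow.RankTools

/-!
Two-dimensional factors in odd characteristic: without non-scalar long root blocks the group lies in the wreath
product.
-/

set_option autoImplicit false
set_option maxHeartbeats 1000000
set_option linter.unusedSectionVars false
set_option linter.unusedSimpArgs false

namespace CfsgLib.MaxSub.TensorForm

open Matrix
open CfsgLib.Aschbacher CfsgLib.MaxSub.TensorPow

variable {F : Type*} [Field F] {m t : ℕ}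

local notation "MT" => Matrix (Fin t → Fin m) (Fin t → Fin m) F
local notation "M2" => Matrix (Fin 2) (Fin 2) F
local notation "MT2" => Matrix (Fin t → Fin 2) (Fin t → Fin 2) F

/-- The pairing of pure tensors. -/
theorem pvec_dot (f g : Fin t → Fin m → F) : pvec f ⬝ᵥ pvec g = ∏ i, f i ⬝ᵥ g i := by
  simp only [pvec, dotProduct, ← Finset.prod_mul_distrib]
  exact (Fintype.prod_sum fun i z => f i z * g i z).symm

/-- A functional not vanishing on two vectors. -/
theorem exists_dot_two {x y : Fin m → F} (hx : x ≠ 0) (hy : y ≠ 0) :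
    ∃ f : Fin m → F, f ⬝ᵥ x ≠ 0 ∧ f ⬝ᵥ y ≠ 0 := by
  obtain ⟨p, hp⟩ := Function.ne_iff.1 hx
  obtain ⟨q, hq⟩ := Function.ne_iff.1 hy
  by_cases h1 : y p = 0
  swap
  · exact ⟨Pi.single p 1, by simpa using hp, by simpa using h1⟩
  by_cases h2 : x q = 0
  swap
  · exact ⟨Pi.single q 1, by simpa using h2, by simpa using hq⟩
  exact ⟨Pi.single p 1 + Pi.single q 1, by simpa [add_dotProduct, h2] using hp,
    by simpa [add_dotProduct, h1] using hq⟩

/-- A vector avoiding two lines. -/
theorem exists_avoid (hm : 2 ≤ m) (x y : Fin m → F) :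
    ∃ z : Fin m → F, z ∉ Submodule.span F {x} ∧ z ∉ Submodule.span F {y} := by
  have one : ∀ x : Fin m → F, ∃ p, p ∉ Submodule.span F {x} := by
    intro x
    by_contra hc
    push Not at hc
    obtain ⟨c, hc0⟩ := Submodule.mem_span_singleton.1 (hc (Pi.single ⟨0, by omega⟩ 1))
    obtain ⟨d, hd0⟩ := Submodule.mem_span_singleton.1 (hc (Pi.single ⟨1, by omega⟩ 1))
    have a := congrFun hc0 ⟨0, by omega⟩
    have b := congrFun hc0 ⟨1, by omega⟩
    have b' := congrFun hd0 ⟨1, by omega⟩
    simp [Fin.ext_iff] at a b b'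
    rcases b with h | h
    · simp [h] at a
    · simp [h] at b'
  obtain ⟨p, hp⟩ := one x
  obtain ⟨q, hq⟩ := one y
  by_cases h1 : p ∈ Submodule.span F {y}
  swap
  · exact ⟨p, hp, h1⟩
  by_cases h2 : q ∈ Submodule.span F {x}
  swap
  · exact ⟨q, h2, hq⟩
  exact ⟨p + q, fun h => hp ((Submodule.add_mem_iff_left _ h2).1 h),
    fun h => hq ((Submodule.add_mem_iff_right _ h1).1 h)⟩

/-- Two decomposable tensors with independent sides do not add up to a decomposable one. -/
theorem no_sum_pair {x x' y y' z z' : Fin m → F} {L K M : F} (hx0 : x ≠ 0) (hx' : x' ≠ 0)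
    (hxy : y ∉ Submodule.span F {x}) (hxy' : y' ∉ Submodule.span F {x'}) (hL : L ≠ 0) (hK : K ≠ 0)
    (h : ∀ r s, L * (x r * x' s) + K * (y r * y' s) = M * (z r * z' s)) : False := by
  obtain ⟨g, hgy, hg⟩ := exists_dot hxy
  have hgx := hg x (Submodule.mem_span_singleton_self x)
  have hx : x ∉ Submodule.span F {y} := by
    intro hm'
    obtain ⟨c, rfl⟩ := Submodule.mem_span_singleton.1 hm'
    rcases eq_or_ne c 0 with rfl | hc
    · exact hx0 (zero_smul F y)
    · exact hxy (Submodule.mem_span_singleton.2 ⟨c⁻¹, by rw [inv_smul_smul₀ hc]⟩)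
  obtain ⟨f, hfx, hf⟩ := exists_dot hx
  have hfy := hf y (Submodule.mem_span_singleton_self y)
  have contr : ∀ (f : Fin m → F) (s : Fin m),
      L * (f ⬝ᵥ x) * x' s + K * (f ⬝ᵥ y) * y' s = M * (f ⬝ᵥ z) * z' s := fun f s => by
    simp only [dotProduct, Finset.mul_sum, Finset.sum_mul, ← Finset.sum_add_distrib]
    exact Finset.sum_congr rfl fun r _ => by linear_combination (f r) * h r s
  have e1 : L • x' = (M * (f ⬝ᵥ z)) • z' := funext fun s => by
    have := contr f s
    rw [hfx, hfy] at this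
    simpa using this
  have e2 : K • y' = (M * (g ⬝ᵥ z)) • z' := funext fun s => by
    have := contr g s
    rw [hgx, hgy] at this
    simpa using this
  have hMf : M * (f ⬝ᵥ z) ≠ 0 := fun h0 => by
    rw [h0, zero_smul] at e1
    exact hx' ((smul_eq_zero.1 e1).resolve_left hL)
  refine hxy' (Submodule.mem_span_singleton.2 ⟨K⁻¹ * (M * (g ⬝ᵥ z)) * ((M * (f ⬝ᵥ z))⁻¹ * L), ?_⟩)
  rw [mul_smul, mul_smul _ L x', e1, inv_smul_smul₀ hMf, mul_smul, ← e2, inv_smul_smul₀ hK]

/-- Two pure tensors adding up to a multiple of a third one differ from it in one factor at most. -/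
theorem pure_pair {α β γ : Fin t → Fin m → F} {a b : Fin t} (hab : a ≠ b) {c : F} (hc : c ≠ 0)
    (hα : ∀ i, α i ≠ 0) (hβ : ∀ i, β i ≠ 0) (ha : β a ∉ Submodule.span F {α a})
    (hb : β b ∉ Submodule.span F {α b}) (h : pvec α + pvec γ = c • pvec β) : False := by
  choose f hfα hfβ using fun i => exists_dot_two (hα i) (hβ i)
  let P : (Fin t → Fin m → F) → F := fun g => ∏ i ∈ (Finset.univ.erase a).erase b, f i ⬝ᵥ g i
  have hsplit : ∀ (g : Fin t → Fin m → F) (r s : Fin m),
      pvec (Function.update (Function.update f a (Pi.single r 1)) b (Pi.single s 1)) ⬝ᵥ pvec g =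
        g a r * g b s * P g := fun g r s => by
    rw [pvec_dot, ← Finset.mul_prod_erase _ _ (Finset.mem_univ a),
      ← Finset.mul_prod_erase _ _ (Finset.mem_erase.2 ⟨hab.symm, Finset.mem_univ b⟩)]
    simp only [Function.update_self, Function.update_of_ne hab, single_one_dotProduct]
    rw [← mul_assoc]
    congr 1
    refine Finset.prod_congr rfl fun i hi => ?_
    simp only [Finset.mem_erase] at hi
    rw [Function.update_of_ne hi.1, Function.update_of_ne hi.2.1]
  refine no_sum_pair (x := α a) (x' := α b) (y := β a) (y' := β b) (z := γ a) (z' := γ b)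
    (L := P α) (K := -(c * P β)) (M := -P γ) (hα a) (hα b) ha hb
    (Finset.prod_ne_zero_iff.2 fun i _ => hfα i)
    (neg_ne_zero.2 (mul_ne_zero hc (Finset.prod_ne_zero_iff.2 fun i _ => hfβ i))) fun r s => ?_
  have h1 := congrArg (pvec (Function.update (Function.update f a (Pi.single r 1)) b (Pi.single s 1)) ⬝ᵥ ·) h
  simp only [dotProduct_add, dotProduct_smul, hsplit, smul_eq_mul] at h1
  linear_combination h1

theorem wr_mulVec_pvec (A : Fin t → GL (Fin m) F) (σ : Equiv.Perm (Fin t)) (u : Fin t → Fin m → F) :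
    ((pureGL A * permGL m F σ : GL (Fin t → Fin m) F) : MT) *ᵥ pvec u =
      pvec fun i => (A i : Matrix (Fin m) (Fin m) F) *ᵥ u (σ.symm i) := by
  rw [Units.val_mul, ← Matrix.mulVec_mulVec]
  have e : (permGL m F σ : MT) *ᵥ pvec u = pvec (u ∘ σ.symm) := by
    funext x
    show ∑ y, permMat m F σ x y * pvec u y = _
    rw [Finset.sum_eq_single (x ∘ σ)]
    · simp [permMat, pvec]
      exact Fintype.prod_equiv σ _ _ fun i => by simp
    · intro y _ hy
      simp [permMat, hy]
    · simp
  rw [e]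
  exact pureMat_mulVec _ _

theorem mulVec_ne_zero {u : GL (Fin m) F} {v : Fin m → F} (hv : v ≠ 0) :
    (u : Matrix (Fin m) (Fin m) F) *ᵥ v ≠ 0 := fun h => hv (by
  have := congrArg (((u⁻¹ : GL (Fin m) F) : Matrix (Fin m) (Fin m) F) *ᵥ ·) h
  simpa [Matrix.mulVec_mulVec] using this)

/-- In odd characteristic an element of the wreath product with logarithm of square zero lies in a factor. -/
theorem shape_odd (hm : 2 ≤ m) (ht : 0 < t) (h2 : (2 : F) ≠ 0) {w : GL (Fin t → Fin m) F} (hw : IsWr w)
    (hsq : ((w : MT) - 1) * ((w : MT) - 1) = 0) :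
    ∃ (j : Fin t) (X : Matrix (Fin m) (Fin m) F), (w : MT) = fa j X := by
  classical
  haveI : NeZero m := ⟨by omega⟩
  obtain ⟨A', σ', hinv⟩ := isWr_inv hw
  have hsum : (w : MT) + ((w⁻¹ : GL (Fin t → Fin m) F) : MT) = (2 : F) • 1 := by
    have h1 := congrArg (fun M => M * ((w⁻¹ : GL (Fin t → Fin m) F) : MT)) hsq
    simp only [sub_mul, mul_sub, one_mul, mul_one, mul_assoc, Units.mul_inv, zero_mul] at h1
    rw [two_smul]
    linear_combination (norm := abel) h1
  obtain ⟨A, σ, rfl⟩ := hw
  have key : ∀ (u : Fin t → Fin m → F) (a b : Fin t), a ≠ b → (∀ i, u i ≠ 0) →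
      u a ∉ Submodule.span F {(A a : Matrix (Fin m) (Fin m) F) *ᵥ u (σ.symm a)} →
      u b ∉ Submodule.span F {(A b : Matrix (Fin m) (Fin m) F) *ᵥ u (σ.symm b)} → False := by
    intro u a b hab hu hua hub
    have h1 := congrArg (fun M => M *ᵥ pvec u) hsum
    simp only [Matrix.add_mulVec, Matrix.smul_mulVec, Matrix.one_mulVec, hinv, wr_mulVec_pvec] at h1
    exact pure_pair hab h2 (fun i => mulVec_ne_zero (hu _)) hu hua hub h1
  have h0 : (Pi.single (⟨0, by omega⟩ : Fin m) (1 : F) : Fin m → F) ≠ 0 := by simp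
  set e₀ : Fin m → F := Pi.single ⟨0, by omega⟩ 1
  have hσ : σ = 1 := by
    by_contra hσ
    obtain ⟨a, hab⟩ : ∃ a, σ a ≠ a := by
      by_contra hc
      push Not at hc
      exact hσ (Equiv.ext hc)
    set b := σ a with hb
    have hsb : σ.symm b = a := σ.symm_apply_apply a
    set c := σ.symm a with hc
    have hca : c ≠ a := fun h => hab (by rw [hb]; nth_rw 1 [← h]; exact σ.apply_symm_apply a)
    have nz : ∀ {z x : Fin m → F}, z ∉ Submodule.span F {x} → z ≠ 0 := fun hz h => hz (h ▸ zero_mem _)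
    by_cases hcb : c = b
    · obtain ⟨ub, h1, h2'⟩ := exists_avoid hm ((A b : Matrix (Fin m) (Fin m) F) *ᵥ e₀)
        ((((A a)⁻¹ : GL (Fin m) F) : Matrix (Fin m) (Fin m) F) *ᵥ e₀)
      refine key (Function.update (fun _ => e₀) b ub) a b (Ne.symm hab) (fun i => ?_) ?_ ?_
      · by_cases h : i = b
        · subst h; rw [Function.update_self]; exact nz h1
        · rw [Function.update_of_ne h]; exact h0
      · rw [← hc, hcb, Function.update_self, Function.update_of_ne (Ne.symm hab)]
        intro hmem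
        obtain ⟨r, hr⟩ := Submodule.mem_span_singleton.1 hmem
        have hr0 : r ≠ 0 := fun h => h0 (by rw [← hr, h, zero_smul])
        refine h2' (Submodule.mem_span_singleton.2 ⟨r⁻¹, ?_⟩)
        conv_lhs => rw [← hr]
        rw [Matrix.mulVec_smul, Matrix.mulVec_mulVec, Units.inv_mul, Matrix.one_mulVec, inv_smul_smul₀ hr0]
      · rw [hsb, Function.update_self, Function.update_of_ne (Ne.symm hab)]; exact h1
    · obtain ⟨ua, h1, -⟩ := exists_avoid hm ((A a : Matrix (Fin m) (Fin m) F) *ᵥ e₀) e₀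
      obtain ⟨ub, h3, -⟩ := exists_avoid hm ((A b : Matrix (Fin m) (Fin m) F) *ᵥ ua) e₀
      refine key (Function.update (Function.update (fun _ => e₀) a ua) b ub) a b (Ne.symm hab) (fun i => ?_) ?_ ?_
      · by_cases h : i = b
        · subst h; rw [Function.update_self]; exact nz h3
        · rw [Function.update_of_ne h]
          by_cases h' : i = a
          · subst h'; rw [Function.update_self]; exact nz h1
          · rw [Function.update_of_ne h']; exact h0
      · rw [← hc, Function.update_of_ne hcb, Function.update_of_ne hca, Function.update_of_ne (Ne.symm hab),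
          Function.update_self]
        exact h1
      · rw [hsb, Function.update_self, Function.update_of_ne (Ne.symm hab), Function.update_self]
        exact h3
  subst hσ
  obtain ⟨j, hj⟩ : ∃ j : Fin t, ∀ i ≠ j, ∃ c : F, (A i : Matrix (Fin m) (Fin m) F) = c • 1 := by
    by_contra hc
    push Not at hc
    obtain ⟨p, -, hp⟩ := hc ⟨0, ht⟩
    obtain ⟨j, hjp, hj⟩ := hc p
    have moved : ∀ {X : Matrix (Fin m) (Fin m) F}, (∀ c : F, X ≠ c • 1) →
        ∃ h : Fin m → F, h ≠ 0 ∧ h ∉ Submodule.span F {X *ᵥ h} := fun {X} hX => by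
      obtain ⟨h, hh⟩ := exists_moved hX
      have hne : h ≠ 0 := fun e => hh (by rw [e, Matrix.mulVec_zero]; exact zero_mem _)
      refine ⟨h, hne, fun hmem => ?_⟩
      obtain ⟨r, hr⟩ := Submodule.mem_span_singleton.1 hmem
      rcases eq_or_ne r 0 with rfl | hr0
      · exact hne (by rw [← hr, zero_smul])
      · exact hh (Submodule.mem_span_singleton.2 ⟨r⁻¹, by
          conv_lhs => rw [← hr]
          rw [inv_smul_smul₀ hr0]⟩)
    obtain ⟨up, hup0, hup⟩ := moved hp
    obtain ⟨uj, huj0, huj⟩ := moved hj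
    refine key (Function.update (Function.update (fun _ => e₀) p up) j uj) j p hjp (fun i => ?_) ?_ ?_
    · by_cases h : i = j
      · subst h; rw [Function.update_self]; exact huj0
      · rw [Function.update_of_ne h]
        by_cases h' : i = p
        · subst h'; rw [Function.update_self]; exact hup0
        · rw [Function.update_of_ne h']; exact h0
    · rw [Equiv.Perm.one_symm, Equiv.Perm.one_apply, Function.update_self]; exact huj
    · rw [Equiv.Perm.one_symm, Equiv.Perm.one_apply, Function.update_of_ne (Ne.symm hjp), Function.update_self]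
      exact hup
  obtain ⟨X, hX⟩ := pureMat_eq_fa hj
  exact ⟨j, X, by rw [permGL_one, mul_one, hX]⟩

/-- A nilpotent two by two matrix. -/
theorem two_nilpotent {Y : M2} (h : Y * Y = 0) :
    ∃ v φ : Fin 2 → F, φ ⬝ᵥ v = 0 ∧ Y = vecMulVec v φ := by
  have h00 := congrFun (congrFun h 0) 0
  have h01 := congrFun (congrFun h 0) 1
  have h11 := congrFun (congrFun h 1) 1
  simp [Matrix.mul_apply, Fin.sum_univ_two] at h00 h01 h11
  by_cases hq : Y 0 1 = 0
  · have hp : Y 0 0 = 0 := by rw [hq, zero_mul, add_zero] at h00; exact mul_self_eq_zero.1 h00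
    have hs : Y 1 1 = 0 := by rw [hq, mul_zero, zero_add] at h11; exact mul_self_eq_zero.1 h11
    refine ⟨![0, 1], ![Y 1 0, 0], by simp, ?_⟩
    ext x y
    fin_cases x <;> fin_cases y <;> simp [vecMulVec_apply, hp, hq, hs]
  · have hs : Y 1 1 = -Y 0 0 := by
      have : Y 0 1 * (Y 0 0 + Y 1 1) = 0 := by linear_combination h01
      linear_combination (mul_eq_zero.1 this).resolve_left hq
    refine ⟨![Y 0 1, -Y 0 0], ![Y 0 0 / Y 0 1, 1], ?_, ?_⟩
    · simp [dotProduct, Fin.sum_univ_two]; field_simp; ring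
    · ext x y
      fin_cases x <;> fin_cases y <;> simp [vecMulVec_apply, hq, hs]
      all_goals field_simp
      linear_combination h00

/-- A two by two matrix as a combination of units. -/
theorem two_units (X : M2) : X = X 0 0 • Matrix.single 0 0 (1 : F) + X 0 1 • Matrix.single 0 1 (1 : F) +
    X 1 0 • Matrix.single 1 0 (1 : F) + X 1 1 • Matrix.single 1 1 (1 : F) := by
  ext x y; fin_cases x <;> fin_cases y <;> simp

/-- A subspace stable under brackets with traceless matrices, containing the brackets of a non-scalar matrix,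
contains the traceless matrices. -/
theorem traceless_le_two (h2 : (2 : F) ≠ 0) (S : Submodule F M2)
    (hS : ∀ X ∈ S, ∀ Z : M2, Z.trace = 0 → br X Z ∈ S) {Y : M2} (hY : ∀ c : F, Y ≠ c • 1)
    (hYS : ∀ Z : M2, Z.trace = 0 → br Y Z ∈ S) {Z : M2} (hZ : Z.trace = 0) : Z ∈ S := by
  set e : M2 := Matrix.single 0 1 1 with he
  set f : M2 := Matrix.single 1 0 1 with hf
  set h : M2 := Matrix.single 0 0 1 - Matrix.single 1 1 1 with hh
  have te : e.trace = 0 := by simp [e, Matrix.trace, Fin.sum_univ_two]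
  have tf : f.trace = 0 := by simp [f, Matrix.trace, Fin.sum_univ_two]
  have th : h.trace = 0 := by simp [h, Matrix.trace, Fin.sum_univ_two]
  have get : ∀ {M N : M2} (c : F), M ∈ S → c ≠ 0 → M = c • N → N ∈ S := fun {M N} c hM hc hMN => by
    have := S.smul_mem c⁻¹ hM
    rwa [hMN, inv_smul_smul₀ hc] at this
  have calc1 : br (br Y e) e = (-(2 * Y 1 0)) • e := by
    ext x y; fin_cases x <;> fin_cases y <;>
      simp [br, e, Matrix.mul_apply, Fin.sum_univ_two] <;> ring
  have calc2 : br (br Y f) f = (-(2 * Y 0 1)) • f := by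
    ext x y; fin_cases x <;> fin_cases y <;>
      simp [br, f, Matrix.mul_apply, Fin.sum_univ_two] <;> ring
  have hef : e ∈ S → h ∈ S ∧ f ∈ S := fun hm => by
    have h1 : h ∈ S := by
      have := hS _ hm _ tf
      rwa [show br e f = h by
        ext x y; fin_cases x <;> fin_cases y <;> simp [br, e, f, h, Matrix.mul_apply, Fin.sum_univ_two]] at this
    refine ⟨h1, get (-2) (hS _ h1 _ tf) (neg_ne_zero.2 h2) ?_⟩
    ext x y; fin_cases x <;> fin_cases y <;> simp [br, f, h, Matrix.mul_apply, Fin.sum_univ_two] <;> ring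
  have hfe : f ∈ S → e ∈ S := fun hm => by
    have h1 := hS _ (hS _ hm _ te) _ te
    refine get (-2) h1 (neg_ne_zero.2 h2) ?_
    ext x y; fin_cases x <;> fin_cases y <;> simp [br, e, f, Matrix.mul_apply, Fin.sum_univ_two] <;> ring
  have hE : e ∈ S := by
    by_cases h10 : Y 1 0 = 0
    swap
    · exact get _ (hS _ (hYS _ te) _ te) (neg_ne_zero.2 (mul_ne_zero h2 h10)) calc1
    by_cases h01 : Y 0 1 = 0
    swap
    · exact hfe (get _ (hS _ (hYS _ tf) _ tf) (neg_ne_zero.2 (mul_ne_zero h2 h01)) calc2)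
    have hne : Y 0 0 - Y 1 1 ≠ 0 := fun h0 => hY (Y 0 0) (by
      ext x y; fin_cases x <;> fin_cases y <;> simp [h10, h01]
      linear_combination -h0)
    refine get _ (hYS _ te) hne ?_
    ext x y; fin_cases x <;> fin_cases y <;>
      simp [br, e, Matrix.mul_apply, Fin.sum_univ_two, h10, h01]
  obtain ⟨hH, hF⟩ := hef hE
  have hZ' : Z 1 1 = -Z 0 0 := by
    simp [Matrix.trace, Fin.sum_univ_two] at hZ
    linear_combination hZ
  have : Z = Z 0 0 • h + Z 0 1 • e + Z 1 0 • f := by
    ext x y; fin_cases x <;> fin_cases y <;> simp [h, e, f, hZ']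
  rw [this]
  exact S.add_mem (S.add_mem (S.smul_mem _ hH) (S.smul_mem _ hE)) (S.smul_mem _ hF)

end CfsgLib.MaxSub.TensorForm
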