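import Cfsg.Agent.Lib.MaxSub.TensorForm.FrameForm
import Cfsg.Agent.Lib.MaxSub.TensorForm.Two
import Cfsg.Agent.Lib.OmegaSimple

/-!
A quadratic form vanishing on pure tensors, whose polar form is the tensor power of a symplectic form: its
isometries and the derived group in the frame.
-/

set_option autoImplicit false
set_option maxHeartbeats 1000000
set_option linter.unusedSectionVars false
set_option linter.unusedSimpArgs false

namespace CfsgLib.MaxSub.TensorForm

open Matrix QuadraticMap Module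
open CfsgLib.Aschbacher CfsgLib.MaxSub.TensorPow
open CfsgLib.WittExtension (quadIso)
open CfsgLib.Eichler (IsEich exists_eich eich_add eich_unique)
open scoped commutatorElement

variable {F : Type*} [Field F] {k t : ℕ}

local notation "Mm" => Matrix (Fin k) (Fin k) F
local notation "MT" => Matrix (Fin t → Fin k) (Fin t → Fin k) F
local notation "VT" => (Fin t → Fin k) → F
local notation "GT" => GL (Fin t → Fin k) F
local notation "E[" i "](" a "," b ")" => fa i (Matrix.single a b (1 : F))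

/-- An invertible matrix as a linear automorphism. -/
def linAut : GT →* (VT ≃ₗ[F] VT) :=
  ((Matrix.GeneralLinearGroup.toLin).trans
    (LinearMap.GeneralLinearGroup.generalLinearEquiv F VT)).toMonoidHom

theorem linAut_apply (g : GT) (x : VT) : linAut g x = (g : MT) *ᵥ x := rfl

theorem exists_linAut (f : VT ≃ₗ[F] VT) : ∃ g : GT, linAut g = f :=
  ⟨Matrix.GeneralLinearGroup.toLin.symm
    ((LinearMap.GeneralLinearGroup.generalLinearEquiv F _).symm f), by simp [linAut]⟩

theorem gl_ext {g h : GT} (e : ∀ x, (g : MT) *ᵥ x = (h : MT) *ᵥ x) : g = h :=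
  Units.ext (Matrix.ext_of_mulVec_single fun p => e _)

/-- The form in the frame. -/
structure QData (Φ : Frame F k) (Q : QuadraticForm F ((Fin t → Fin k) → F)) (c : F) : Prop where
  hc : c ≠ 0
  id : ∀ x, Φ.σ x = x
  eps : Φ.eps = -1
  epsT : Φ.eps ^ t = 1
  ne : ∀ x : Fin k, x ≠ x.rev
  pol : ∀ x y, polar Q x y = c * (Φ.qT y ⬝ᵥ x)
  pure : ∀ h : Fin t → Fin k → F, Q (pvec h) = 0

theorem pvec_single (z : Fin t → Fin k) :
    pvec (fun l => (Pi.single (z l) 1 : Fin k → F)) = Pi.single z 1 := by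
  funext x
  by_cases h : x = z
  · subst h; simp [pvec]
  · rw [Pi.single_eq_of_ne h, pvec]
    obtain ⟨l, hl⟩ := Function.ne_iff.1 h
    exact Finset.prod_eq_zero (Finset.mem_univ l) (Pi.single_eq_of_ne hl _)

variable (Q : QuadraticForm F ((Fin t → Fin k) → F))

/-- The isometries of the quadratic form. -/
def OG : Subgroup (GL (Fin t → Fin k) F) := (quadIso Q).comap linAut

/-- The derived group of the isometry group. -/
def DG : Subgroup (GL (Fin t → Fin k) F) :=
  ((commutator (quadIso Q)).map (quadIso Q).subtype).comap linAut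

variable {Q}

theorem mem_OG {g : GT} : g ∈ OG Q ↔ ∀ x, Q ((g : MT) *ᵥ x) = Q x := Iff.rfl

theorem mem_DG {g : GT} : g ∈ DG Q ↔ ∃ y ∈ commutator (quadIso Q), y.1 = linAut g := Iff.rfl

theorem DG_le : DG Q ≤ OG Q := by
  rintro g ⟨y, -, hy⟩
  show linAut g ∈ quadIso Q
  rw [← hy]; exact y.2

theorem comm_mem_DG {g h : GT} (hg : g ∈ OG Q) (hh : h ∈ OG Q) : g * h * g⁻¹ * h⁻¹ ∈ DG Q := by
  refine ⟨⁅(⟨linAut g, hg⟩ : quadIso Q), ⟨linAut h, hh⟩⁆, ?_, ?_⟩
  · rw [_root_.commutator_def]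
    exact Subgroup.commutator_mem_commutator (Subgroup.mem_top _) (Subgroup.mem_top _)
  · simp [commutatorElement_def]

theorem conj_mem_DG {g h : GT} (hg : g ∈ OG Q) (hh : h ∈ DG Q) : g * h * g⁻¹ ∈ DG Q := by
  obtain ⟨y, hy, e⟩ := hh
  refine ⟨(⟨linAut g, hg⟩ : quadIso Q) * y * (⟨linAut g, hg⟩ : quadIso Q)⁻¹,
    Subgroup.Normal.conj_mem inferInstance y hy _, ?_⟩
  simp only [Subgroup.subtype_apply] at e
  simp [e]

variable (Q)

/-- The Eichler transformations of a pair in a group. -/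
def KE (K : Subgroup (GL (Fin t → Fin k) F)) (u w : (Fin t → Fin k) → F) : Prop :=
  ∀ g : GL (Fin t → Fin k) F, (∀ x, (g : Matrix (Fin t → Fin k) (Fin t → Fin k) F) *ᵥ x =
    x + (polar Q u x • w + (-(polar Q w x) - Q w * polar Q u x) • u)) → g ∈ K

variable {Q} {Φ : Frame F k} {c : F}

namespace QData

variable (hD : QData Φ Q c)
include hD

theorem qT_qT' (v : VT) : Φ.qT (Φ.qT v) = v := by rw [Φ.qT_qT, hD.epsT, one_smul]

theorem dot_symm (v w : VT) : Φ.qT v ⬝ᵥ w = Φ.qT w ⬝ᵥ v := by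
  rw [Φ.qT_dot, hD.epsT, one_mul, hD.id]

theorem pol' (x y : VT) : polar Q x y = c * (Φ.qT x ⬝ᵥ y) := by rw [hD.pol, hD.dot_symm]

theorem nondeg : (polarBilin Q).Nondegenerate := by
  have h : ∀ x : VT, (∀ y, polar Q x y = 0) → x = 0 := fun x hx => funext fun z => by
    have h1 := hx (Pi.single (Fin.rev ∘ z) 1)
    rw [hD.pol, Φ.qT_single, single_dotProduct] at h1
    exact (mul_eq_zero.1 ((mul_eq_zero.1 h1).resolve_left hD.hc)).resolve_left
      (left_ne_zero_of_mul_eq_one (Φ.sgT_sq z))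
  exact ⟨h, fun y hy => h y fun x => by rw [polar_comm]; exact hy x⟩

theorem basis (z : Fin t → Fin k) : Q (Pi.single z 1) = 0 := by rw [← pvec_single z]; exact hD.pure _

/-- The form vanishes on a totally isotropic coordinate subspace. -/
theorem zero_on (v : VT) (hv : ∀ x y, v x ≠ 0 → v y ≠ 0 → y ≠ Fin.rev ∘ x) : Q v = 0 := by
  classical
  suffices h : ∀ s : Finset (Fin t → Fin k), Q (∑ z ∈ s, v z • Pi.single z 1) = 0 by
    have e : v = ∑ z, v z • Pi.single z 1 := pi_eq_sum_univ' v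
    rw [e]; exact h _
  intro s
  induction s using Finset.induction_on with
  | empty => simp
  | insert a s ha ih =>
    rw [Finset.sum_insert ha, QuadraticMap.map_add Q, ih, QuadraticMap.map_smul, hD.basis, smul_zero, zero_add,
      zero_add, polar_smul_left, hD.pol', dotProduct_sum]
    rcases eq_or_ne (v a) 0 with h0 | h0
    · rw [h0, zero_smul]
    rw [Finset.sum_eq_zero, mul_zero, smul_zero]
    intro z _
    rcases eq_or_ne (v z) 0 with hz | hz
    · rw [hz, zero_smul, dotProduct_zero]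
    rw [dotProduct_smul, dotProduct_single, mul_one, Frame.qT, Pi.single_eq_of_ne, map_zero, mul_zero, smul_zero]
    intro e
    exact hv a z h0 hz (by rw [← e]; exact (Frame.revT_inv z).symm)

/-- The form vanishes on a coordinate space of a factor. -/
theorem zero_coord {i : Fin t} {x : Fin k} {v : VT} (hv : E[i](x, x) *ᵥ v = v) : Q v = 0 := by
  have hs : ∀ z, v z ≠ 0 → z i = x := by
    intro z hz
    by_contra h
    refine hz ?_
    rw [← hv]
    show ∑ y, (E[i](x, x) : MT) z y * v y = 0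
    refine Finset.sum_eq_zero fun y _ => ?_
    rw [fa_apply]
    split <;> simp [Matrix.single_apply, Ne.symm h]
  refine hD.zero_on v fun p q hp hq e => hD.ne x ?_
  have := hs q hq
  rw [e] at this
  simp only [Function.comp_apply, hs p hp] at this
  exact this.symm

/-- The isometries. -/
theorem mem_OG_iff {g : GT} (hg : Φ.Iso g) :
    g ∈ OG Q ↔ ∀ z, Q ((g : MT) *ᵥ Pi.single z 1) = 0 := by
  refine ⟨fun h z => by rw [mem_OG.1 h, hD.basis], fun h => mem_OG.2 fun v => ?_⟩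
  have hp : ∀ x y, polar Q ((g : MT) *ᵥ x) ((g : MT) *ᵥ y) = polar Q x y := fun x y => by
    rw [hD.pol, hD.pol, Φ.qT_mulVec, ← Matrix.dotProduct_mulVec, Matrix.mulVec_mulVec, hg, Matrix.one_mulVec]
  suffices hs : ∀ s : Finset (Fin t → Fin k),
      Q ((g : MT) *ᵥ ∑ z ∈ s, v z • Pi.single z 1) = Q (∑ z ∈ s, v z • Pi.single z 1) by
    rw [pi_eq_sum_univ' v]; exact hs _
  intro s
  classical
  induction s using Finset.induction_on with
  | empty => simp
  | insert a s ha ih =>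
    rw [Finset.sum_insert ha, Matrix.mulVec_add, QuadraticMap.map_add Q, QuadraticMap.map_add Q (v a • _), ih, hp,
      Matrix.mulVec_smul, QuadraticMap.map_smul, h, QuadraticMap.map_smul, hD.basis]

theorem iso_of_OG {g : GT} (hg : g ∈ OG Q) : Φ.Iso g := by
  refine Matrix.ext_of_mulVec_single fun x => funext fun z => ?_
  have h1 : ∀ y, Φ.qT ((g : MT) *ᵥ y) ⬝ᵥ ((g : MT) *ᵥ Pi.single x 1) = Φ.qT y ⬝ᵥ Pi.single x 1 := fun y => by
    refine mul_left_cancel₀ hD.hc ?_
    rw [← hD.pol, ← hD.pol]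
    simp only [polar, ← Matrix.mulVec_add, mem_OG.1 hg]
  have h2 := h1 (Pi.single (Fin.rev ∘ z) 1)
  rw [Φ.qT_mulVec, ← Matrix.dotProduct_mulVec, Matrix.mulVec_mulVec, Φ.qT_single, single_dotProduct,
    single_dotProduct] at h2
  rw [Matrix.one_mulVec]
  exact mul_left_cancel₀ (left_ne_zero_of_mul_eq_one (Φ.sgT_sq z)) h2

theorem iso_of_DG {g : GT} (hg : g ∈ DG Q) : Φ.Iso g := hD.iso_of_OG (DG_le hg)

theorem iso_zero {g : GT} (hg : g ∈ OG Q) {x y : VT} :
    polar Q ((g : MT) *ᵥ x) ((g : MT) *ᵥ y) = polar Q x y := by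
  simp only [polar, ← Matrix.mulVec_add, mem_OG.1 hg]

/-- Isometries in the wreath product preserve the form. -/
theorem wr_mem_OG {g : GT} (hw : IsWr g) (hg : Φ.Iso g) : g ∈ OG Q := by
  refine (hD.mem_OG_iff hg).2 fun z => ?_
  obtain ⟨A, σ, rfl⟩ := hw
  rw [← pvec_single z, wr_mulVec_pvec]
  exact hD.pure _

theorem fu_mem_OG (i : Fin t) {s : GL (Fin k) F} (hs : Φ.Iso1 s) : fu i s ∈ OG Q :=
  hD.wr_mem_OG (isWr_fu i s) (Φ.iso_fu i hs)

theorem perm_mem_OG (π : Equiv.Perm (Fin t)) : permGL k F π ∈ OG Q :=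
  hD.wr_mem_OG ⟨1, π, by rw [pureGL_one, one_mul]⟩ (Φ.iso_perm π)

theorem finrank_VT : finrank F ((Fin t → Fin k) → F) = k ^ t := by
  rw [Module.finrank_fintype_fun_eq_card]; simp

/-- The Eichler transformations are in the derived group. -/
theorem eich_DG [Fintype F] (hn : 5 ≤ k ^ t) {u w : VT} (hu : Q u = 0) (huw : polar Q u w = 0) :
    ∃ g : GT, g ∈ DG Q ∧ ∀ x, (g : MT) *ᵥ x =
      x + (polar Q u x • w + (-(polar Q w x) - Q w * polar Q u x) • u) := by
  obtain ⟨y, hy⟩ := exists_eich Q hu huw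
  obtain ⟨g, hg⟩ := exists_linAut y.1
  refine ⟨g, ?_, fun x => by rw [← linAut_apply, hg]; exact hy x⟩
  rcases eq_or_ne u 0 with rfl | hu0
  · have : g = 1 := gl_ext fun x => by
      rw [← linAut_apply, hg, hy x, Units.val_one, Matrix.one_mulVec, QuadraticMap.polar_zero_left]
      simp
    rw [this]; exact one_mem _
  have hfin : 5 ≤ finrank F ((Fin t → Fin k) → F) := by rw [hD.finrank_VT]; exact hn
  refine ⟨y, ?_, hg.symm⟩
  rw [OmegaSimple.commutator_eq Q hD.nondeg hfin]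
  exact OmegaSimple.eich_mem Q hD.nondeg hfin hu0 hu huw hy

theorem KE_DG [Fintype F] (hn : 5 ≤ k ^ t) {u w : VT} (hu : Q u = 0) (huw : polar Q u w = 0) :
    KE Q (DG Q) u w := fun g hg => by
  obtain ⟨g', hg', he⟩ := hD.eich_DG hn hu huw
  rwa [gl_ext (g := g) (h := g') fun x => by rw [hg, he]]

theorem KE_add [Fintype F] (hn : 5 ≤ k ^ t) {K : Subgroup (GL (Fin t → Fin k) F)} {u w₁ w₂ : VT}
    (hu : Q u = 0) (h1 : polar Q u w₁ = 0) (h2 : polar Q u w₂ = 0) (k1 : KE Q K u w₁) (k2 : KE Q K u w₂) :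
    KE Q K u (w₁ + w₂) := fun g hg => by
  obtain ⟨y₁, hy₁⟩ := exists_eich Q hu h1
  obtain ⟨y₂, hy₂⟩ := exists_eich Q hu h2
  obtain ⟨g₁, hg₁⟩ := exists_linAut y₁.1
  obtain ⟨g₂, hg₂⟩ := exists_linAut y₂.1
  have e : g = g₁ * g₂ := gl_ext fun x => by
    rw [hg, Units.val_mul, ← Matrix.mulVec_mulVec, ← linAut_apply g₂, ← linAut_apply g₁, hg₁, hg₂]
    exact (eich_add Q hu h1 h2 hy₁ hy₂ x).symm
  rw [e]
  exact mul_mem (k1 g₁ fun x => by rw [← linAut_apply, hg₁]; exact hy₁ x)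
    (k2 g₂ fun x => by rw [← linAut_apply, hg₂]; exact hy₂ x)

/-- Transport of the Eichler transformations by the group. -/
theorem KE_conj {K : Subgroup (GL (Fin t → Fin k) F)} {h : GT} (hh : h ∈ OG Q) (hK : h ∈ K) {u w : VT}
    (k1 : KE Q K u w) : KE Q K ((h : MT) *ᵥ u) ((h : MT) *ᵥ w) := fun g hg => by
  have h0 : h⁻¹ * g * h ∈ K := by
    refine k1 _ fun x => ?_
    have hinv : ∀ z, ((h⁻¹ : GT) : MT) *ᵥ ((h : MT) *ᵥ z) = z := fun z => by
      rw [Matrix.mulVec_mulVec, Units.inv_mul, Matrix.one_mulVec]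
    rw [Units.val_mul, Units.val_mul, ← Matrix.mulVec_mulVec, ← Matrix.mulVec_mulVec, hg, hD.iso_zero hh,
      hD.iso_zero hh, mem_OG.1 hh]
    simp only [Matrix.mulVec_add, Matrix.mulVec_smul, hinv]
  have := mul_mem (mul_mem hK h0) (inv_mem hK)
  simpa [mul_assoc] using this

end QData

end CfsgLib.MaxSub.TensorForm
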