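import Cfsg.Agent.Lib.MaxSub.TensorForm.Endgame

/-!
Short root and Weyl elements of a factor, and the pieces of the invariant patterns.
-/

set_option autoImplicit false
set_option maxHeartbeats 400000
set_option linter.unusedSectionVars false
set_option linter.unusedSimpArgs false

namespace CfsgLib.MaxSub.TensorForm

open Matrix
open CfsgLib.Aschbacher CfsgLib.MaxSub.TensorPow

variable {F : Type*} [Field F] {k t : ℕ}

local notation "Mm" => Matrix (Fin k) (Fin k) F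

namespace Frame

variable {Φ : Frame F k}

theorem Lng.inv {e : F} (he : Φ.Lng e) : Φ.Lng e⁻¹ := by
  by_cases he0 : e = 0
  · rw [he0, _root_.inv_zero]; simp [Frame.Lng]
  unfold Frame.Lng at he ⊢
  have hσe : Φ.σ e ≠ 0 := by simpa using he0
  rw [map_inv₀]
  field_simp
  linear_combination Φ.eps * he - Φ.σ e * Φ.eps_sq

theorem Lng.neg {e : F} (he : Φ.Lng e) : Φ.Lng (-e) := by
  unfold Frame.Lng at he ⊢
  rw [map_neg]
  linear_combination -he

theorem SI.inv_eq {s : GL (Fin k) F} (h : Φ.SI s) : ((s⁻¹ : GL (Fin k) F) : Mm) = Φ.adj1 (s : Mm) :=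
  Units.inv_eq_of_mul_eq_one_left h.1

/-- A short root element with prescribed row. -/
theorem exists_short {x : Fin k} (hT : Φ.PointTools x) (y : Fin k → F) :
    ∃ s : GL (Fin k) F, Φ.SI s ∧ InRad1 x (s : Mm) ∧ (∀ v, Mid x v → (s : Mm) x v = y v) ∧
      ∀ w, Mid x w → (s : Mm) w x.rev = -(Φ.sg w * Φ.sg x.rev * Φ.σ (y w.rev)) := by
  obtain ⟨s, hs, hsr, hsv⟩ := hT.short y
  refine ⟨s, hs, hsr, hsv, fun w hw => ?_⟩
  have hx := hT.ne
  have hinv := SI.inv_eq hs
  have h1 := congrFun (congrFun (Units.inv_mul s) w) x.rev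
  rw [Matrix.mul_apply, Matrix.one_apply_ne hw.2, Finset.sum_eq_add w x.rev hw.2, hinv, adj1_apply,
    adj1_apply, hsr _ _ (show OffRad x w.rev w.rev from ⟨fun h => h, fun h => h⟩),
    hsr x.rev x.rev ⟨fun h => h, fun h => h⟩, Fin.rev_rev, hsv _ hw.rev] at h1
  · simp only [Matrix.one_apply_eq, map_one, mul_one, Φ.sg_sq, one_mul] at h1
    exact eq_neg_of_add_eq_zero_left h1
  · intro z _ hz
    rw [hinv, adj1_apply, hsr _ _ (show OffRad x z.rev w.rev from
      ⟨fun e => absurd (by rw [← e, Fin.rev_rev]) hz.2, fun e => absurd e hw.rev.2⟩),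
      Matrix.one_apply_ne (fun e => hz.1 (Fin.rev_injective e)), map_zero, mul_zero, zero_mul]
  · simp
  · simp

/-- The Weyl element of a hyperbolic pair. -/
theorem exists_weyl {x : Fin k} (hx : x ≠ x.rev) {γ : F} (hγ : γ ≠ 0) (hL : Φ.Lng γ) :
    ∃ W : GL (Fin k) F, Φ.SI W ∧
      (W : Mm) *ᵥ Pi.single x 1 = Pi.single x.rev (-γ⁻¹) ∧
      (W : Mm) *ᵥ Pi.single x.rev 1 = Pi.single x γ ∧
      (∀ m, Mid x m → (W : Mm) *ᵥ Pi.single m 1 = Pi.single m 1) ∧
      Pi.single x 1 ᵥ* ((W⁻¹ : GL (Fin k) F) : Mm) = Pi.single x.rev (-γ) ∧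
      Pi.single x.rev 1 ᵥ* ((W⁻¹ : GL (Fin k) F) : Mm) = Pi.single x γ⁻¹ ∧
      (∀ m, Mid x m → Pi.single m 1 ᵥ* ((W⁻¹ : GL (Fin k) F) : Mm) = Pi.single m 1) := by
  obtain ⟨u, hu, huv⟩ := Φ.exists_long hx hL
  obtain ⟨l, hl, hlv⟩ := Φ.exists_long (a := x.rev) (by rw [Fin.rev_rev]; exact Ne.symm hx) hL.inv.neg
  rw [Fin.rev_rev] at hlv
  have hui : ((u⁻¹ : GL (Fin k) F) : Mm) = 1 - Matrix.single x x.rev γ := by
    have e : u = one_add _ (single_sq hx γ) := Units.ext huv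
    rw [e]; rfl
  have hli : ((l⁻¹ : GL (Fin k) F) : Mm) = 1 - Matrix.single x.rev x (-γ⁻¹) := by
    have e : l = one_add _ (single_sq (Ne.symm hx) (-γ⁻¹)) := Units.ext hlv
    rw [e]; rfl
  have mv : ∀ (p q : Fin k) (c : F) (v : Fin k → F),
      (1 + Matrix.single p q c : Mm) *ᵥ v = v + Pi.single p (c * v q) := fun p q c v => by
    rw [Matrix.add_mulVec, Matrix.one_mulVec]
    congr 1
    funext r
    simp [Matrix.mulVec, dotProduct, Matrix.single_apply, Pi.single_apply, ite_and, eq_comm]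
  have vm : ∀ (p q : Fin k) (c : F) (v : Fin k → F),
      v ᵥ* (1 - Matrix.single p q c : Mm) = v - Pi.single q (v p * c) := fun p q c v => by
    rw [Matrix.vecMul_sub, Matrix.vecMul_one]
    congr 1
    funext r
    simp [Matrix.vecMul, dotProduct, Matrix.single_apply, Pi.single_apply, ite_and, eq_comm]
  refine ⟨u * l * u, SI.mul Φ (SI.mul Φ hu hl) hu, ?_, ?_, fun m hm => ?_, ?_, ?_, fun m hm => ?_⟩
  all_goals simp only [_root_.mul_inv_rev, Units.val_mul, huv, hlv, hui, hli, mul_assoc, ← Matrix.mulVec_mulVec,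
    ← Matrix.vecMul_vecMul, mv, vm]
  all_goals funext r
  all_goals simp only [Pi.add_apply, Pi.sub_apply, Pi.single_apply]
  all_goals rcases cases3 x r with rfl | rfl | hr
  any_goals simp [hx, Ne.symm hx, hγ]
  any_goals simp [hx, Ne.symm hx, hγ, hm.1, hm.2, Ne.symm hm.1, Ne.symm hm.2]
  any_goals simp [hx, Ne.symm hx, hγ, hr.1, hr.2]

end Frame

end CfsgLib.MaxSub.TensorForm
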