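import Cfsg.Agent.Lib.MaxSub.TensorForm.Fixed
import Cfsg.Agent.Lib.MaxSub.TensorForm.Roots

/-!
An invariant additive group with a non-scalar element contains a pure tensor of pieces of square zero.
-/

set_option autoImplicit false
set_option maxHeartbeats 1000000
set_option linter.unusedSectionVars false
set_option linter.unusedSimpArgs false

namespace CfsgLib.MaxSub.TensorForm

open Matrix
open CfsgLib.Aschbacher CfsgLib.MaxSub.TensorPow

variable {F : Type*} [Field F] {k t : ℕ}

local notation "Mm" => Matrix (Fin k) (Fin k) F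
local notation "MT" => Matrix (Fin t → Fin k) (Fin t → Fin k) F
local notation "E[" i "](" a "," b ")" => fa i (Matrix.single a b (1 : F))

/-- The diagonal part of a piece times its opposite. -/
structure Piece (Φ : Frame F k) (a : Fin k) (X : Matrix (Fin k) (Fin k) F) : Prop where
  sq : X * X = 0
  adj : (∀ c, Φ.σ c = c) → ∃ d : F, Φ.adj1 X = d • X
  opp : ∃ (s r : GL (Fin k) F) (κ : F), Φ.SI s ∧ Φ.SI r ∧ κ ≠ 0 ∧
    (X * ((s : Matrix (Fin k) (Fin k) F) * X * ((s⁻¹ : GL (Fin k) F) : Matrix (Fin k) (Fin k) F))) *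
        ((r : Matrix (Fin k) (Fin k) F) *
          (X * ((s : Matrix (Fin k) (Fin k) F) * X * ((s⁻¹ : GL (Fin k) F) : Matrix (Fin k) (Fin k) F))) *
          ((r⁻¹ : GL (Fin k) F) : Matrix (Fin k) (Fin k) F)) = κ • Matrix.single a a 1 ∧
    (X * ((s : Matrix (Fin k) (Fin k) F) * X * ((s⁻¹ : GL (Fin k) F) : Matrix (Fin k) (Fin k) F))) a a ≠ 0 ∧
    (((s : Matrix (Fin k) (Fin k) F) * X * ((s⁻¹ : GL (Fin k) F) : Matrix (Fin k) (Fin k) F)) * X) a a = 0 ∧
    ((∃ m, (X * ((s : Matrix (Fin k) (Fin k) F) * X * ((s⁻¹ : GL (Fin k) F) : Matrix (Fin k) (Fin k) F))) m m = 0 ∧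
      (((s : Matrix (Fin k) (Fin k) F) * X * ((s⁻¹ : GL (Fin k) F) : Matrix (Fin k) (Fin k) F)) * X) m m = 0) ∨
      (Φ.adj1 X = X ∧ ¬ 6 ≤ k))

variable {Φ : Frame F k} {a : Fin k}

theorem conj_single (s : GL (Fin k) F) (p q : Fin k) :
    (s : Mm) * Matrix.single p q 1 * ((s⁻¹ : GL (Fin k) F) : Mm) =
      vecMulVec ((s : Mm) *ᵥ Pi.single p 1) (Pi.single q 1 ᵥ* ((s⁻¹ : GL (Fin k) F) : Mm)) := by
  rw [single_eq_single_vecMulVec_single, mul_vecMulVec, vecMulVec_mul]

theorem vmv_single (p q : Fin k) (c d : F) :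
    vecMulVec (Pi.single p c) (Pi.single q d) = (c * d) • Matrix.single p q (1 : F) := by
  ext x y
  simp [vecMulVec_apply, Pi.single_apply, Matrix.single_apply]
  by_cases h1 : x = p <;> by_cases h2 : y = q <;> simp [h1, h2, Ne.symm]

/-- A long root matrix plus a commuting one is a piece. -/
theorem piece_lin (ha : a ≠ a.rev) {γ : F} (hγ : γ ≠ 0) (hL : Φ.Lng γ) {m : Fin k} (hm : Mid a m)
    {c d : F} (hc : c ≠ 0) (hmd : m ≠ m.rev ∨ d = 0) :
    Piece Φ a (c • Matrix.single a a.rev 1 + d • Matrix.single m m.rev 1) := by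
  obtain ⟨W, hW, h1, h2, h3, h4, h5, h6⟩ := Φ.exists_weyl ha hγ hL
  set X : Mm := c • Matrix.single a a.rev 1 + d • Matrix.single m m.rev 1 with hX
  have hdd : (d * d) • ((Matrix.single m m.rev (1 : F) : Mm) * Matrix.single m m.rev 1) = 0 := by
    rcases hmd with h | h
    · rw [Matrix.single_mul_single_of_ne _ _ _ _ (Ne.symm h), smul_zero]
    · rw [h, mul_zero, zero_smul]
  have e : (W : Mm) * X * ((W⁻¹ : GL (Fin k) F) : Mm) =
      (c * (-(γ⁻¹) * γ⁻¹)) • Matrix.single a.rev a 1 + d • Matrix.single m m.rev 1 := by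
    rw [hX, mul_add, add_mul, Matrix.mul_smul, Matrix.mul_smul, Matrix.smul_mul, Matrix.smul_mul, conj_single,
      conj_single, h1, h5, h3 m hm, h6 _ hm.rev, vmv_single, vmv_single, smul_smul, mul_one, one_smul]
  have hQ : X * ((W : Mm) * X * ((W⁻¹ : GL (Fin k) F) : Mm)) =
      (c * (c * (-(γ⁻¹) * γ⁻¹))) • Matrix.single a a 1 := by
    rw [e, hX]
    simp only [add_mul, mul_add, Matrix.smul_mul, Matrix.mul_smul, smul_smul,
      Matrix.single_mul_single_same, Matrix.single_mul_single_of_ne _ _ _ _ (Ne.symm hm.2),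
      Matrix.single_mul_single_of_ne _ _ _ _ hm.rev.2, mul_one, smul_zero, add_zero, zero_add, mul_comm d c, hdd]
    rw [mul_comm (c * (-γ⁻¹ * γ⁻¹)) c]
  have hQ' : (W : Mm) * X * ((W⁻¹ : GL (Fin k) F) : Mm) * X =
      ((c * (-(γ⁻¹) * γ⁻¹)) * c) • Matrix.single a.rev a.rev 1 := by
    rw [e, hX]
    simp only [add_mul, mul_add, Matrix.smul_mul, Matrix.mul_smul, smul_smul,
      Matrix.single_mul_single_same, Matrix.single_mul_single_of_ne _ _ _ _ hm.1.symm,
      Matrix.single_mul_single_of_ne _ _ _ _ hm.rev.1, mul_one, smul_zero, add_zero, zero_add, hdd]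
    rw [mul_comm c (c * (-γ⁻¹ * γ⁻¹))]
  refine ⟨?_, fun hσ => ⟨Φ.eps, ?_⟩, W, 1, (c * (c * (-(γ⁻¹) * γ⁻¹))) * (c * (c * (-(γ⁻¹) * γ⁻¹))), hW,
    Φ.si_one, ?_, ?_, ?_, ?_, Or.inl ⟨m, ?_, ?_⟩⟩
  · rw [hX]
    simp only [add_mul, mul_add, Matrix.smul_mul, Matrix.mul_smul, smul_smul,
      Matrix.single_mul_single_of_ne _ _ _ _ (Ne.symm ha), Matrix.single_mul_single_of_ne _ _ _ _ (Ne.symm hm.2),
      Matrix.single_mul_single_of_ne _ _ _ _ hm.rev.1, smul_zero, add_zero, zero_add, hdd]
  · rw [hX, Φ.adj1_add, Φ.adj1_smul, Φ.adj1_smul, Φ.adj1_long, Φ.adj1_long, hσ, hσ, hσ, mul_one, smul_add,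
      smul_smul, smul_smul,
      show Matrix.single a a.rev Φ.eps = Φ.eps • Matrix.single a a.rev (1 : F) by simp,
      show Matrix.single m m.rev Φ.eps = Φ.eps • Matrix.single m m.rev (1 : F) by simp, smul_smul, smul_smul,
      mul_comm c, mul_comm d]
  · simp [hc, hγ]
  · rw [hQ]; simp [Matrix.smul_mul, Matrix.mul_smul, smul_smul]
  · rw [hQ]; simp [hc, hγ]
  · rw [hQ']; simp [Ne.symm ha]
  · rw [hQ]; simp [Matrix.single_apply, hm.1.symm]
  · rw [hQ']; simp [Matrix.single_apply, hm.2.symm]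

/-- The piece of the second kind. -/
theorem piece_short (hk : 4 ≤ k) (ha : (a : ℕ) = 0) {γ : F} (hγ : γ ≠ 0) (hL : Φ.Lng γ)
    (hσ : ∀ c, Φ.σ c = c) {o : Fin k} (ho : (o : ℕ) = 1) {c : F} (hc : c ≠ 0) :
    Piece Φ a (c • ((-(Φ.sg o.rev * Φ.sg a.rev)) • Matrix.single o.rev a.rev 1 - Matrix.single a o 1)) := by
  have hab : a ≠ a.rev := fun e => by have := congrArg Fin.val e; rw [Fin.val_rev] at this; omega
  have hoo : o ≠ o.rev := fun e => by have := congrArg Fin.val e; rw [Fin.val_rev] at this; omega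
  have hom : Mid a o := ⟨fun e => by have := congrArg Fin.val e; omega,
    fun e => by have := congrArg Fin.val e; rw [Fin.val_rev] at this; omega⟩
  have ham : Mid o a := ⟨Ne.symm hom.1, fun e => hom.rev.1 e.symm⟩
  obtain ⟨W, hW, h1, h2, h3, h4, h5, h6⟩ := Φ.exists_weyl hab hγ hL
  obtain ⟨V, hV, g1, g2, g3, g4, g5, g6⟩ := Φ.exists_weyl hoo hγ hL
  set κ := -(Φ.sg o.rev * Φ.sg a.rev) with hκdef
  have hκ : κ ≠ 0 := neg_ne_zero.2 (mul_ne_zero (Φ.sg_ne _) (Φ.sg_ne _))
  have hκ2 : κ * κ = 1 := by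
    rw [hκdef]; linear_combination (Φ.sg a.rev * Φ.sg a.rev) * Φ.sg_sq o.rev + Φ.sg_sq a.rev
  set X0 : Mm := κ • Matrix.single o.rev a.rev 1 - Matrix.single a o 1 with hX0
  set S := W * V with hS
  have hSI : Φ.SI S := Frame.SI.mul Φ hW hV
  have e0 : (S : Mm) * X0 * ((S⁻¹ : GL (Fin k) F) : Mm) = κ • Matrix.single o a 1 - Matrix.single a.rev o.rev 1 := by
    have c1 : (S : Mm) * Matrix.single o.rev a.rev 1 * ((S⁻¹ : GL (Fin k) F) : Mm) = Matrix.single o a 1 := by
      rw [conj_single, hS, Units.val_mul, _root_.mul_inv_rev, Units.val_mul, ← Matrix.mulVec_mulVec,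
        ← Matrix.vecMul_vecMul, g2, g6 _ ham.rev, h5, show Pi.single o γ = γ • Pi.single o (1 : F) by
          rw [← Pi.single_smul']; simp,
        Matrix.mulVec_smul, h3 o hom, smul_vecMulVec, vmv_single]
      simp [smul_smul, hγ]
    have c2 : (S : Mm) * Matrix.single a o 1 * ((S⁻¹ : GL (Fin k) F) : Mm) = Matrix.single a.rev o.rev 1 := by
      rw [conj_single, hS, Units.val_mul, _root_.mul_inv_rev, Units.val_mul, ← Matrix.mulVec_mulVec,
        ← Matrix.vecMul_vecMul, g3 a ham, g4, h1, show Pi.single o.rev (-γ) = (-γ) • Pi.single o.rev (1 : F) by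
          rw [← Pi.single_smul']; simp,
        Matrix.smul_vecMul, h6 _ hom.rev, vecMulVec_smul, vmv_single]
      simp [smul_smul, hγ]
    rw [hX0, mul_sub, sub_mul, Matrix.mul_smul, Matrix.smul_mul, c1, c2]
  have hQ : X0 * ((S : Mm) * X0 * ((S⁻¹ : GL (Fin k) F) : Mm)) =
      (-κ) • (Matrix.single o.rev o.rev 1 + Matrix.single a a 1) := by
    rw [e0, hX0]
    simp only [sub_mul, mul_sub, Matrix.smul_mul, Matrix.mul_smul, smul_smul, Matrix.single_mul_single_same,
      Matrix.single_mul_single_of_ne _ _ _ _ (Ne.symm hom.2), Matrix.single_mul_single_of_ne _ _ _ _ hom.2,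
      mul_one, smul_zero, sub_zero, zero_sub]
    module
  have hQ' : (S : Mm) * X0 * ((S⁻¹ : GL (Fin k) F) : Mm) * X0 =
      (-κ) • (Matrix.single o o 1 + Matrix.single a.rev a.rev 1) := by
    rw [e0, hX0]
    simp only [sub_mul, mul_sub, Matrix.smul_mul, Matrix.mul_smul, smul_smul, Matrix.single_mul_single_same,
      Matrix.single_mul_single_of_ne _ _ _ _ hom.rev.1.symm, Matrix.single_mul_single_of_ne _ _ _ _ hom.rev.1,
      mul_one, smul_zero, sub_zero, zero_sub]
    module
  have hrv : (V : Mm) * (Matrix.single o.rev o.rev 1 + Matrix.single a a 1) * ((V⁻¹ : GL (Fin k) F) : Mm) =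
      Matrix.single o o 1 + Matrix.single a a 1 := by
    rw [mul_add, add_mul, conj_single, conj_single, g2, g5, g3 a ham, g6 a ham, vmv_single, vmv_single]
    simp [hγ]
  have sc : ∀ (s : GL (Fin k) F), (s : Mm) * (c • X0) * ((s⁻¹ : GL (Fin k) F) : Mm) =
      c • ((s : Mm) * X0 * ((s⁻¹ : GL (Fin k) F) : Mm)) := fun s => by
    rw [Matrix.mul_smul, Matrix.smul_mul]
  have hadj : Φ.adj1 (c • X0) = c • X0 := by
    rw [hX0, smul_sub, smul_smul, sub_eq_add_neg, ← neg_smul, Φ.adj1_add, Φ.adj1_smul, Φ.adj1_smul,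
      Φ.adj1_single, Φ.adj1_single]
    simp only [Fin.rev_rev, hσ, map_one, mul_one, Φ.sg_rev]
    have e : ∀ (p q : Fin k) (d : F), Matrix.single p q d = d • Matrix.single p q (1 : F) := fun p q d => by simp
    rw [e a o (Φ.sg a * Φ.sg o), e o.rev a.rev (Φ.eps * Φ.sg o * (Φ.eps * Φ.sg a)), smul_smul, smul_smul, add_comm]
    congr 2
    · rw [hκdef, Φ.sg_rev, Φ.sg_rev]; ring
    · rw [hκdef, Φ.sg_rev, Φ.sg_rev]
      linear_combination (-c * Φ.sg o * Φ.sg o * Φ.sg a * Φ.sg a) * Φ.eps_sq -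
        c * (Φ.sg a * Φ.sg a) * Φ.sg_sq o - c * Φ.sg_sq a
  refine ⟨?_, fun _ => ⟨1, by rw [hadj, one_smul]⟩, S, V, (c * c * κ) * (c * c * κ), hSI, hV, ?_, ?_, ?_, ?_, ?_⟩
  · rw [hX0]
    simp only [sub_mul, mul_sub, Matrix.smul_mul, Matrix.mul_smul, smul_smul,
      Matrix.single_mul_single_of_ne _ _ _ _ hom.rev.2.symm, Matrix.single_mul_single_of_ne _ _ _ _ (Ne.symm hab),
      Matrix.single_mul_single_of_ne _ _ _ _ hoo, Matrix.single_mul_single_of_ne _ _ _ _ hom.1, smul_zero,
      sub_zero]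
  · simp [hc, hκ]
  · rw [sc, Matrix.smul_mul, Matrix.mul_smul, smul_smul, hQ, smul_smul]
    simp only [Matrix.mul_smul, Matrix.smul_mul]
    rw [hrv, smul_smul]
    simp only [add_mul, mul_add, Matrix.single_mul_single_same,
      Matrix.single_mul_single_of_ne _ _ _ _ (Ne.symm hoo), Matrix.single_mul_single_of_ne _ _ _ _ hom.rev.1,
      Matrix.single_mul_single_of_ne _ _ _ _ hom.1.symm, mul_one, add_zero, zero_add]
    rw [show c * c * -κ * (c * c * -κ) = c * c * κ * (c * c * κ) by ring]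
  · rw [sc, Matrix.smul_mul, Matrix.mul_smul, smul_smul, hQ]
    simp [Matrix.single_apply, hom.rev.1, hc, hκ]
  · rw [sc, Matrix.smul_mul, Matrix.mul_smul, smul_smul, hQ']
    simp [Matrix.single_apply, hom.1, Ne.symm hab]
  · by_cases h6 : 6 ≤ k
    · refine Or.inl ⟨⟨2, by omega⟩, ?_, ?_⟩
      all_goals
        have n1 : (⟨2, by omega⟩ : Fin k) ≠ a := fun e => by have := congrArg Fin.val e; simp at this; omega
        have n2 : (⟨2, by omega⟩ : Fin k) ≠ a.rev := fun e => by
          have := congrArg Fin.val e; rw [Fin.val_rev] at this; simp at this; omega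
        have n3 : (⟨2, by omega⟩ : Fin k) ≠ o := fun e => by have := congrArg Fin.val e; simp at this; omega
        have n4 : (⟨2, by omega⟩ : Fin k) ≠ o.rev := fun e => by
          have := congrArg Fin.val e; rw [Fin.val_rev] at this; simp at this; omega
      · rw [sc, Matrix.smul_mul, Matrix.mul_smul, smul_smul, hQ]
        simp [Matrix.single_apply, Ne.symm n4, Ne.symm n1]
      · rw [sc, Matrix.smul_mul, Matrix.mul_smul, smul_smul, hQ']
        simp [Matrix.single_apply, Ne.symm n3, Ne.symm n2]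
    · exact Or.inr ⟨hadj, h6⟩

/-- A conjugation turning a long root matrix into a piece. -/
theorem exists_flip (hk : 3 ≤ k) (hT : Tools Φ a) :
    ∃ s : GL (Fin k) F, Φ.SI s ∧
      Piece Φ a ((s : Mm) * Matrix.single a a.rev 1 * ((s⁻¹ : GL (Fin k) F) : Mm) - Matrix.single a a.rev 1) := by
  have ha := hT.ne
  obtain ⟨γ, hγ, hL⟩ := hT.ending.line
  rcases (hT.point a ha).top with ⟨s, hs, hsl, hne⟩ | ⟨m, -, -, -, hm, hmm, -, -, -, -⟩
  · obtain ⟨m, hma, hmb⟩ := third hk a a.rev
    refine ⟨s, hs, ?_⟩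
    have hb := congrFun (congrFun (Units.mul_inv s) a.rev) a.rev
    rw [Matrix.mul_apply, Matrix.one_apply_eq, Finset.sum_eq_single a.rev
      (fun z _ hz => by rw [hsl _ z (fun h => hz (h.2.1 rfl)), zero_mul]) (by simp)] at hb
    have e : (s : Mm) * Matrix.single a a.rev 1 * ((s⁻¹ : GL (Fin k) F) : Mm) - Matrix.single a a.rev 1 =
        ((s : Mm) a a * ((s⁻¹ : GL (Fin k) F) : Mm) a.rev a.rev - 1) • Matrix.single a a.rev 1 +
          (0 : F) • Matrix.single m m.rev 1 := by
      have h1 : (s : Mm) *ᵥ Pi.single a 1 = Pi.single a ((s : Mm) a a) := funext fun r => by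
        rw [Matrix.mulVec_single_one, Matrix.col_apply, Pi.single_apply]
        split
        · subst r; rfl
        · rename_i hr; exact hsl r a (fun h => hr (h.1.2 rfl))
      have h2 : Pi.single a.rev 1 ᵥ* ((s⁻¹ : GL (Fin k) F) : Mm) =
          Pi.single a.rev (((s⁻¹ : GL (Fin k) F) : Mm) a.rev a.rev) := funext fun r => by
        rw [Matrix.single_one_vecMul, Matrix.row_apply, Pi.single_apply]
        split
        · subst r; rfl
        · rename_i hr; exact Frame.SI.levi_inv hs hsl a.rev r (fun h => hr (h.2.1 rfl))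
      rw [conj_single, h1, h2, vmv_single, sub_smul, one_smul, zero_smul, add_zero]
    rw [e]
    refine piece_lin ha hγ hL ⟨hma.symm, hmb.symm⟩ (sub_ne_zero.2 fun h1 => hne ?_) (Or.inr rfl)
    exact mul_right_cancel₀ (right_ne_zero_of_mul_eq_one h1) (h1.trans hb.symm)
  · obtain ⟨s, μ, hμ, hs, hsv⟩ := hT.trans (Pi.single m 1) (by simp) (Φ.qv_single hmm)
    refine ⟨s, hs, ?_⟩
    have hq : Φ.qv (Pi.single m (1 : F)) = Pi.single m.rev (Φ.sg m.rev) := funext fun y => by
      rw [Frame.qv_single_apply, Pi.single_apply]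
      by_cases h : y = m.rev
      · subst h; simp
      · rw [if_neg h, if_neg (fun e => h (by rw [← e, Fin.rev_rev]))]
    have hp := piece_lin (Φ := Φ) ha hγ hL hm (c := -1) (d := Φ.sg a.rev * (μ * Φ.σ μ * Φ.sg m.rev))
      (neg_ne_zero.2 one_ne_zero) (Or.inl hmm)
    convert hp using 1
    rw [Φ.conj_long hs.1, hsv, Φ.qv_smul, hq, smul_vecMulVec, vecMulVec_smul, vmv_single, smul_smul, smul_smul,
      smul_smul, neg_one_smul, one_mul, sub_eq_add_neg, add_comm]
    congr 2
    ring

/-- What the patterns need from the form and the field. -/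
def PatTools (Φ : Frame F k) : Prop :=
  (∃ ω : F, Φ.σ ω ≠ ω) ∨ (Even k ∧ 4 ≤ k ∧ Φ.eps = -1 ∧ ((2 : F) ≠ 0 ∨ 6 ≤ k))

variable [NeZero k]

/-- The blocks of a matrix commuting with another factor commute with it. -/
theorem bl_commute_other {j l : Fin t} (h : l ≠ j) {Y : MT} {M : Mm} (hY : Commute Y (fa l M)) (x y : Fin k) :
    Commute (bl j Y x y) (fa l M) :=
  Commute.sum_left _ _ _ fun r _ => ((fa_commute h.symm _ M).mul_left hY).mul_left (fa_commute h.symm _ M)

/-- The matrices fixed modulo scalars by the unipotent upper triangular group of a factor. -/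
theorem fixed_form (hk : 3 ≤ k) (hT : Tools Φ a) (hP : PatTools Φ) (ha0 : (a : ℕ) = 0) {j : Fin t} {Y : MT}
    (hfix : ∀ u : GL (Fin k) F, Φ.SI u → Uni (u : Mm) → ∃ c : F, Ad (fu j u) Y - Y = c • 1) :
    (∀ u : GL (Fin k) F, Φ.SI u → Uni (u : Mm) → Commute Y (fa j (u : Mm))) ∧
    ∀ o : Fin k, (o : ℕ) = 1 →
      Y = bl j Y a a + E[j](a, a.rev) * bl j Y a a.rev +
        fa j (Matrix.single a o.rev 1 + (-(Φ.sg o.rev * Φ.sg a.rev)) • Matrix.single o a.rev 1) *
          bl j Y a o.rev ∧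
      (bl j Y a o.rev ≠ 0 → 4 ≤ k ∧ ∀ c, Φ.σ c = c) := by
  classical
  have ha := hT.ne
  obtain ⟨γ, hγ, hL⟩ := hT.ending.line
  have hlt : ∀ x : Fin k, x ≠ a → a < x := fun x hx => Fin.lt_def.2 (by
    have : (x : ℕ) ≠ a := fun h => hx (Fin.ext h)
    omega)
  have htop : ∀ x : Fin k, x ≠ a.rev → x < a.rev := fun x hx => Fin.lt_def.2 (by
    have h1 : (x : ℕ) ≠ (a.rev : Fin k) := fun h => hx (Fin.ext h)
    have h2 := x.isLt
    rw [Fin.val_rev] at *
    omega)
  -- blocks of a commutator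
  have eqn : ∀ (u : GL (Fin k) F) (c : F), Ad (fu j u) Y - Y = c • 1 → ∀ x y,
      ∑ z, (u : Mm) x z • bl j Y z y - ∑ z, (u : Mm) z y • bl j Y x z = (c * (u : Mm) x y) • (1 : MT) := by
    intro u c h x y
    have h1 := congrArg (fun M => bl j (M * fa j (u : Mm)) x y) h
    simp only [sub_mul, Ad_apply, Matrix.smul_mul, one_mul, bl_sub, bl_smul, bl_fa, smul_smul] at h1
    rw [mul_assoc (((fu j u : GL (Fin t → Fin k) F) : MT) * Y), ← fu_val j u, Units.inv_mul, mul_one, fu_val,
      bl_fa_left, bl_fa_right] at h1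
    exact h1
  have hcent : ∀ u : GL (Fin k) F, Ad (fu j u) Y - Y = (0 : F) • 1 → Commute Y (fa j (u : Mm)) := by
    intro u h
    rw [zero_smul, sub_eq_zero] at h
    have h1 := congrArg (fun M => M * fa j (u : Mm)) h
    simp only [Ad_apply] at h1
    rw [mul_assoc (((fu j u : GL (Fin t → Fin k) F) : MT) * Y), ← fu_val j u, Units.inv_mul, mul_one] at h1
    exact h1.symm
  -- long roots are fixed
  have diagm : ∀ (u : GL (Fin k) F) (m : Fin k), (∀ z, (u : Mm) m z = (1 : Mm) m z) →
      (∀ z, (u : Mm) z m = (1 : Mm) z m) → ∀ c : F, Ad (fu j u) Y - Y = c • 1 → c = 0 := by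
    intro u m h1 h2 c h
    have h3 := eqn u c h m m
    simp only [h1, h2, Matrix.one_apply, ite_smul, one_smul, zero_smul, Finset.sum_ite_eq, Finset.sum_ite_eq',
      Finset.mem_univ, if_true, sub_self, mul_one] at h3
    by_contra hc
    exact one_ne_zero ((smul_eq_zero.1 h3.symm).resolve_left hc)
  have long : ∀ x : Fin k, x < x.rev →
      (∀ p, p ≠ x → bl j Y p x = 0) ∧ (∀ q, q ≠ x.rev → bl j Y x.rev q = 0) ∧
        bl j Y x x = bl j Y x.rev x.rev := by
    intro x hx
    obtain ⟨u, hu, huv⟩ := Φ.exists_long hx.ne hL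
    have huu : Uni (u : Mm) := fun p q hqp => by
      rw [huv, Matrix.add_apply, Matrix.single_apply, if_neg, add_zero]
      rintro ⟨rfl, rfl⟩
      exact absurd hqp (not_le.2 hx)
    obtain ⟨c, hc⟩ := hfix u hu huu
    obtain ⟨m, hmx, hmx'⟩ := third hk x x.rev
    have hc0 : c = 0 := diagm u m
      (fun z => by rw [huv, Matrix.add_apply, Matrix.single_apply, if_neg (fun h => hmx h.1), add_zero])
      (fun z => by rw [huv, Matrix.add_apply, Matrix.single_apply, if_neg (fun h => hmx' h.2), add_zero]) c hc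
    have h4 : ∀ p q, (if p = x then γ • bl j Y x.rev q else 0) = if q = x.rev then γ • bl j Y p x else 0 := by
      intro p q
      have h3 := eqn u c hc p q
      simp only [huv, hc0, Matrix.add_apply, Matrix.single_apply, add_smul, Finset.sum_add_distrib,
        Matrix.one_apply, ite_smul, one_smul, zero_smul, Finset.sum_ite_eq, Finset.sum_ite_eq',
        Finset.mem_univ, if_true, zero_mul, ite_and] at h3
      rw [add_sub_add_left_eq_sub, sub_eq_zero] at h3
      simpa [eq_comm] using h3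
    refine ⟨fun p hp => ?_, fun q hq => ?_, ?_⟩
    · have := h4 p x.rev
      rw [if_neg hp, if_pos rfl] at this
      exact (smul_eq_zero.1 this.symm).resolve_left hγ
    · have := h4 x q
      rw [if_pos rfl, if_neg hq] at this
      exact (smul_eq_zero.1 this).resolve_left hγ
    · have := h4 x x.rev
      rw [if_pos rfl, if_pos rfl] at this
      exact (smul_right_injective MT hγ this).symm
  obtain ⟨hcolA, hrowB, hYaa⟩ := long a (hlt _ ha.symm)
  -- all unipotent elements are fixed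
  have hall : ∀ u : GL (Fin k) F, Φ.SI u → Uni (u : Mm) → Commute Y (fa j (u : Mm)) := by
    intro u hu huu
    obtain ⟨c, hc⟩ := hfix u hu huu
    have h1 : (u : Mm) a a = 1 := by rw [huu a a le_rfl, Matrix.one_apply_eq]
    have h3 := eqn u c hc a a
    rw [h1, mul_one, Finset.sum_eq_single a, Finset.sum_eq_single a, h1, sub_self] at h3
    · refine hcent u ?_
      rw [hc, ← h3, zero_smul]
    · intro z _ hz; rw [huu z a (hlt z hz).le, Matrix.one_apply_ne hz, zero_smul]
    · simp
    · intro z _ hz; rw [hcolA z hz, smul_zero]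
    · simp
  refine ⟨hall, ?_⟩
  have key : ∀ (u : GL (Fin k) F), Φ.SI u → Uni (u : Mm) → ∀ x y,
      ∑ z, (u : Mm) x z • bl j Y z y = ∑ z, (u : Mm) z y • bl j Y x z := fun u hu huu x y => by
    have h := congrArg (fun M => bl j M x y) (hall u hu huu).eq
    simp only [bl_fa_left, bl_fa_right] at h
    exact h.symm
  have uni_short : ∀ (x : Fin k) (s : GL (Fin k) F), InRad1 x (s : Mm) → x < x.rev →
      (∀ v, Mid x v → v < x → (s : Mm) x v = 0) → (∀ w, Mid x w → x.rev < w → (s : Mm) w x.rev = 0) →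
      Uni (s : Mm) := by
    intro x s hs hx h1 h2 p q hqp
    by_cases hpq : OffRad x p q
    · exact hs p q hpq
    rcases lt_or_eq_of_le hqp with hqp | rfl
    swap
    · exact absurd ⟨fun h => h, fun h => h⟩ hpq
    rw [Matrix.one_apply_ne hqp.ne']
    by_cases hp : p = x
    · subst hp
      exact h1 q ⟨hqp.ne, (hqp.trans hx).ne⟩ hqp
    · have hq : q = x.rev := by
        by_contra hq; exact hpq ⟨fun e => absurd e hp, fun e => absurd e hq⟩
      subst hq
      exact h2 p ⟨hp, hqp.ne'⟩ hqp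
  have zmid : ∀ z : Fin k, Mid a z → ∀ μ : F, ∃ u : GL (Fin k) F, Φ.SI u ∧ Uni (u : Mm) ∧
      InRad1 a (u : Mm) ∧ (∀ v, Mid a v → (u : Mm) a v = if v = z then μ else 0) ∧
      ∀ w, Mid a w → (u : Mm) w a.rev = if w = z.rev then -(Φ.sg w * Φ.sg a.rev * Φ.σ μ) else 0 := by
    intro z hz μ
    obtain ⟨s, hs, hsr, hsv, hsc⟩ := Frame.exists_short (hT.point a ha) (Pi.single z μ)
    refine ⟨s, hs, uni_short a s hsr (hlt _ ha.symm) (fun v hv h => absurd (hlt v hv.1) (asymm h))
      (fun w hw h => absurd (htop w hw.2) (asymm h)), hsr, fun v hv => by rw [hsv v hv, Pi.single_apply],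
      fun w hw => ?_⟩
    rw [hsc w hw, Pi.single_apply]
    by_cases h : w = z.rev
    · subst h; simp
    · rw [if_neg h, if_neg (fun e => h (by rw [← e, Fin.rev_rev])), map_zero, mul_zero, neg_zero]
  -- the middle is scalar
  have hmid : ∀ x z : Fin k, Mid a x → Mid a z → bl j Y x z = if x = z then bl j Y a a else 0 := by
    intro x z hx hz
    obtain ⟨u, hu, huu, hur, hurow, hucol⟩ := zmid z.rev hz.rev 1
    have h := key u hu huu x a.rev
    rw [Finset.sum_eq_add x a.rev hx.2, Finset.sum_eq_add z a.rev hz.2,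
      hur x x ⟨fun e => e, fun e => e⟩, hur a.rev a.rev ⟨fun e => e, fun e => e⟩, hucol z hz, hucol x hx,
      Matrix.one_apply_eq, Matrix.one_apply_eq, one_smul, Fin.rev_rev, if_pos rfl, ← hYaa] at h
    · simp only [map_one, mul_one] at h
      have hne : -(Φ.sg z * Φ.sg a.rev) ≠ 0 := neg_ne_zero.2 (mul_ne_zero (Φ.sg_ne _) (Φ.sg_ne _))
      by_cases hxz : x = z
      · subst hxz
        rw [if_pos rfl] at h ⊢
        rw [add_comm, add_left_inj] at h
        exact (smul_right_injective MT hne h).symm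
      · rw [if_neg hxz, zero_smul, add_zero] at h
        rw [if_neg hxz]
        have h' : -(Φ.sg z * Φ.sg a.rev) • bl j Y x z = 0 := add_eq_right.1 h.symm
        exact (smul_eq_zero.1 h').resolve_left hne
    · intro w _ hw
      rcases cases3 a w with h' | h' | h'
      · subst h'; rw [hcolA x hx.1, smul_zero]
      · exact absurd h' hw.2
      · rw [hucol w h', Fin.rev_rev, if_neg hw.1, zero_smul]
    · simp
    · simp
    · intro w _ hw
      rcases cases3 a w with h' | h' | h'
      · subst h'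
        rw [hur x w ⟨fun e => absurd e hx.1, fun e => absurd e ha⟩, Matrix.one_apply_ne hx.1, zero_smul]
      · exact absurd h' hw.2
      · rw [hur x w ⟨fun e => absurd e hx.1, fun e => absurd e h'.2⟩, Matrix.one_apply_ne (Ne.symm hw.1),
          zero_smul]
    · simp
    · simp
  -- the corner relation
  have hrel : ∀ z : Fin k, Mid a z → ∀ μ : F,
      μ • bl j Y z a.rev = (-(Φ.sg z.rev * Φ.sg a.rev * Φ.σ μ)) • bl j Y a z.rev := by
    intro z hz μ
    obtain ⟨u, hu, huu, hur, hurow, hucol⟩ := zmid z hz μ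
    have h := key u hu huu a a.rev
    have e1 : ∑ w, (u : Mm) a w • bl j Y w a.rev =
        (bl j Y a a.rev + (u : Mm) a a.rev • bl j Y a a) + μ • bl j Y z a.rev := by
      rw [← Finset.sum_erase_add _ _ (Finset.mem_univ z), hurow z hz, if_pos rfl,
        Finset.sum_eq_add a a.rev ha, hur a a ⟨fun e => e, fun e => absurd e ha⟩, Matrix.one_apply_eq, one_smul,
        ← hYaa]
      · intro w hw hw'
        rcases cases3 a w with h' | h' | h'
        · exact absurd h' hw'.1
        · exact absurd h' hw'.2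
        · rw [hurow w h', if_neg (Finset.mem_erase.1 hw).1, zero_smul]
      · simp [hz.1.symm]
      · simp [hz.2.symm]
    have e2 : ∑ w, (u : Mm) w a.rev • bl j Y a w =
        ((u : Mm) a a.rev • bl j Y a a + bl j Y a a.rev) +
          (-(Φ.sg z.rev * Φ.sg a.rev * Φ.σ μ)) • bl j Y a z.rev := by
      rw [← Finset.sum_erase_add _ _ (Finset.mem_univ z.rev), hucol z.rev hz.rev, if_pos rfl,
        Finset.sum_eq_add a a.rev ha, hur a.rev a.rev ⟨fun e => e, fun e => e⟩, Matrix.one_apply_eq, one_smul]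
      · intro w hw hw'
        rcases cases3 a w with h' | h' | h'
        · exact absurd h' hw'.1
        · exact absurd h' hw'.2
        · rw [hucol w h', if_neg (Finset.mem_erase.1 hw).1, zero_smul]
      · simp [hz.rev.1.symm]
      · simp [hz.rev.2.symm]
    rw [e1, e2, add_comm ((u : Mm) a a.rev • bl j Y a a)] at h
    exact add_left_cancel h
  -- the top row
  have hω : (∃ ω : F, Φ.σ ω ≠ ω) → ∀ z, Mid a z → bl j Y a z = 0 := by
    rintro ⟨ω, hω⟩ z hz
    have h1 := hrel z.rev hz.rev 1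
    have h2 := hrel z.rev hz.rev ω
    rw [one_smul, map_one, mul_one, Fin.rev_rev] at h1
    rw [h1, smul_smul, Fin.rev_rev, ← sub_eq_zero, ← sub_smul] at h2
    refine (smul_eq_zero.1 h2).resolve_left ?_
    rw [show ω * -(Φ.sg z * Φ.sg a.rev) - -(Φ.sg z * Φ.sg a.rev * Φ.σ ω) =
      (Φ.σ ω - ω) * (Φ.sg z * Φ.sg a.rev) by ring]
    exact mul_ne_zero (sub_ne_zero.2 hω) (mul_ne_zero (Φ.sg_ne _) (Φ.sg_ne _))
  have hrow : ∀ o : Fin k, (o : ℕ) = 1 → ∀ z, Mid a z → z ≠ o.rev → bl j Y a z = 0 := by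
    intro o ho z hz hzo
    rcases hP with h | ⟨hev, hk4, -, -⟩
    · exact hω h z hz
    rcases lt_or_gt_of_ne (ne_rev_of_even hev z) with h | h
    · exact (long z h).1 a hz.1.symm
    have hzv : (z : ℕ) ≠ k - 2 := fun e => hzo (Fin.ext (by rw [Fin.val_rev, ho]; omega))
    have ho' : o < o.rev := Fin.lt_def.2 (by rw [Fin.val_rev, ho]; omega)
    have hgt : (z.rev : ℕ) < z := Fin.lt_def.1 h
    have hz1 : (z : ℕ) ≠ k - 1 := fun e => hz.2 (Fin.ext (by rw [Fin.val_rev, ha0]; omega))
    have hzlt : (z : ℕ) < k - 2 := by have := z.isLt; omega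
    have hzr : 1 < (z.rev : ℕ) := by rw [Fin.val_rev]; omega
    have hmo : Mid o z.rev := ⟨fun e => by have := congrArg Fin.val e; omega,
      fun e => by have := congrArg Fin.val (Fin.rev_injective e); omega⟩
    have hmz : Mid o z := by simpa using hmo.rev
    have hoa : Mid o a := ⟨fun e => by have := congrArg Fin.val e; omega,
      fun e => by have := congrArg Fin.val e; rw [Fin.val_rev] at this; omega⟩
    obtain ⟨u, hu, hur, hurow, hucol⟩ := Frame.exists_short (hT.point o ho'.ne) (Pi.single z.rev 1)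
    have huu : Uni (u : Mm) := by
      refine uni_short o u hur ho' (fun v hv hlt' => ?_) (fun w hw hlt' => ?_)
      · rw [hurow v hv, Pi.single_eq_of_ne]
        intro e
        have h1 := congrArg Fin.val e
        have h2 := Fin.lt_def.1 hlt'
        omega
      · rw [hucol w hw, Pi.single_eq_of_ne, map_zero, mul_zero, neg_zero]
        intro e
        have h1 := congrArg Fin.val (Fin.rev_injective e)
        have h2 := Fin.lt_def.1 hlt'
        rw [Fin.val_rev, ho] at h2
        omega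
    have hua : ∀ q, (u : Mm) a q = (1 : Mm) a q := by
      intro q
      by_cases hq : q = o.rev
      · subst hq
        rw [hucol a hoa, Pi.single_eq_of_ne (fun e => hz.1 (Fin.rev_injective e).symm), map_zero, mul_zero,
          neg_zero, Matrix.one_apply_ne hoa.2]
      · exact hur a q ⟨fun e => absurd e hoa.1, fun e => absurd e hq⟩
    have h := key u hu huu a o.rev
    simp only [hua, Matrix.one_apply, ite_smul, one_smul, zero_smul, Finset.sum_ite_eq, Finset.mem_univ,
      if_true] at h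
    rw [← Finset.sum_erase_add _ _ (Finset.mem_univ o.rev), hur o.rev o.rev ⟨fun e => e, fun e => e⟩,
      Matrix.one_apply_eq, one_smul, right_eq_add,
      Finset.sum_eq_single_of_mem z (Finset.mem_erase.2 ⟨hzo, Finset.mem_univ _⟩)] at h
    · rw [hucol z hmz, Pi.single_eq_same, map_one, mul_one] at h
      exact (smul_eq_zero.1 h).resolve_left (neg_ne_zero.2 (mul_ne_zero (Φ.sg_ne _) (Φ.sg_ne _)))
    · intro q hq hqz
      rcases cases3 o q with h' | h' | h'
      · subst h'
        rw [(long q ho').1 a hoa.1, smul_zero]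
      · exact absurd h' (Finset.mem_erase.1 hq).1
      · rw [hucol q h', Pi.single_eq_of_ne (fun e => hqz (Fin.rev_injective e)), map_zero, mul_zero, neg_zero,
          zero_smul]
  intro o ho
  constructor
  · have hom : Mid a o := ⟨fun e => by have := congrArg Fin.val e; omega,
      fun e => by have := congrArg Fin.val e; rw [Fin.val_rev] at this; omega⟩
    refine bl_ext j fun x y => ?_
    rw [bl_add, bl_add, bl_fa_mul j _ (bl_commute j _ _ _), bl_fa_mul j _ (bl_commute j _ _ _),
      show bl j Y a a = fa j (1 : Mm) * bl j Y a a by rw [map_one, one_mul],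
      bl_fa_mul j _ (bl_commute j _ _ _)]
    simp only [Matrix.add_apply, Matrix.smul_apply, Matrix.single_apply, Matrix.one_apply, smul_eq_mul, mul_ite,
      mul_one, mul_zero]
    rcases cases3 a x with hx | hx | hx
    · rw [hx]
      rcases cases3 a y with hy | hy | hy
      · rw [hy]
        simp [ha, Ne.symm ha, hom.rev.1, hom.1]
      · rw [hy]
        simp [ha, Ne.symm ha, hom.1, hom.rev.2]
      · simp only [hy.1.symm, hy.2.symm, hom.1, if_false, zero_smul, zero_add, and_false, false_and, add_zero,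
          true_and]
        by_cases hyo : y = o.rev
        · subst hyo; simp
        · rw [hrow o ho y hy hyo, if_neg (Ne.symm hyo), zero_smul]
    · rw [hx]
      by_cases hy : y = a.rev
      · rw [hy]
        simp [ha, hYaa, hom.2]
      · rw [hrowB y hy]
        simp [Ne.symm hy, ha, hom.2]
    · rcases cases3 a y with hy | hy | hy
      · rw [hy, hcolA x hx.1]
        simp [hx.1, hx.1.symm, Ne.symm ha, hom.rev.1.symm]
      · rw [hy]
        simp only [hx.1.symm, hx.2, if_false, zero_smul, zero_add, false_and, and_true]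
        have h1 := hrel x hx 1
        rw [one_smul, map_one, mul_one] at h1
        by_cases hxo : x = o
        · subst hxo; rw [h1]; simp
        · rw [h1, hrow o ho x.rev hx.rev (fun e => hxo (Fin.rev_injective e)), smul_zero,
            if_neg (Ne.symm hxo), zero_smul]
      · rw [hmid x y hx hy]
        by_cases hxy : x = y <;> simp [hxy, hx.1.symm, hy.1.symm, hy.2.symm]
  · intro hne
    by_cases h : ∃ ω, Φ.σ ω ≠ ω
    · exfalso
      exact hne (hω h _ ⟨fun e => by have := congrArg Fin.val e; rw [Fin.val_rev] at this; omega,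
        fun e => by have := congrArg Fin.val (Fin.rev_injective e); omega⟩)
    · push Not at h
      rcases hP with ⟨ω, hω'⟩ | ⟨-, hk4, -, -⟩
      · exact absurd (h ω) hω'
      · exact ⟨hk4, h⟩

end CfsgLib.MaxSub.TensorForm
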