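import Cfsg.Agent.Lib.MaxSub.TensorForm.Levi
import Cfsg.Agent.Lib.MaxSub.TensorPow.Isolate

/-!
Groups of isometries containing the isometry groups of the factors; moving a root element of a factor to one of
a factor.
-/

set_option autoImplicit false
set_option maxHeartbeats 400000
set_option linter.unusedSectionVars false

namespace CfsgLib.MaxSub.TensorForm

open Matrix
open CfsgLib.Aschbacher CfsgLib.MaxSub.TensorPow

variable {F : Type*} [Field F] {k t : ℕ}

local notation "Mm" => Matrix (Fin k) (Fin k) F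
local notation "MT" => Matrix (Fin t → Fin k) (Fin t → Fin k) F

/-- The permutations of the factors seen in the group suffice for transitivity. -/
structure Moves (G : Subgroup (GL (Fin t → Fin k) F)) : Prop where
  three : ∀ i j l : Fin t, i ≠ j → l ≠ i → l ≠ j → ∃ (A : Fin t → GL (Fin k) F) (π : Equiv.Perm (Fin t)),
    π i = j ∧ (∀ x, x ≠ i → x ≠ j → x ≠ l → π x = x) ∧ pureGL A * permGL k F π ∈ G
  fix : ∀ i j l : Fin t, j ≠ i → l ≠ i → ∃ (A : Fin t → GL (Fin k) F) (π : Equiv.Perm (Fin t)),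
    π i = i ∧ π j = l ∧ pureGL A * permGL k F π ∈ G

namespace Frame

variable (Φ : Frame F k)

/-- A group of isometries containing the factor groups and moving the factors. -/
structure Hyp (G : Subgroup (GL (Fin t → Fin k) F)) : Prop where
  iso : ∀ g ∈ G, Φ.Iso g
  roots : ∀ i s, Φ.SI s → fu i s ∈ G
  moves : Moves G

/-- The functional of a vector. -/
def qv (v : Fin k → F) : Fin k → F := fun y => Φ.sg y * Φ.σ (v y.rev)

/-- The scalars on long root positions. -/
def Lng (c : F) : Prop := c + Φ.eps * Φ.σ c = 0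

/-- All isotropic points are alike. -/
def Transitive (a : Fin k) : Prop :=
  ∀ v : Fin k → F, v ≠ 0 → Φ.qv v ⬝ᵥ v = 0 → ∃ (s : GL (Fin k) F) (μ : F), μ ≠ 0 ∧ Φ.SI s ∧
    (s : Mm) *ᵥ Pi.single a 1 = μ • v

theorem qv_smul (c : F) (v : Fin k → F) : Φ.qv (c • v) = Φ.σ c • Φ.qv v := by
  funext y; simp [qv, mul_left_comm]

theorem qv_ne {v : Fin k → F} (h : v ≠ 0) : Φ.qv v ≠ 0 := fun h0 => h (funext fun y => by
  have := congrFun h0 y.rev
  simpa [qv, Φ.sg_ne] using this)

theorem SI.mul {s r : GL (Fin k) F} (hs : Φ.SI s) (hr : Φ.SI r) : Φ.SI (s * r) :=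
  ⟨Φ.iso1_mul hs.1 hr.1, by rw [Units.val_mul, det_mul, hs.2, hr.2, one_mul]⟩

theorem si_one : Φ.SI (1 : GL (Fin k) F) := ⟨by simp [Iso1, adj1_one], by simp⟩

/-- The adjoint of a matrix of rank one. -/
theorem adj1_vecMulVec (v φ : Fin k → F) :
    Φ.adj1 (vecMulVec v φ) = vecMulVec (Φ.qv φ) (Φ.qv v) := by
  ext x y
  simp only [adj1_apply, vecMulVec_apply, map_mul, qv]
  ring

/-- A root matrix of square zero gives an element of the factor group. -/
theorem si_one_add {N : Mm} (h2 : N * N = 0) (hN : Φ.adj1 N + N = 0) (hdet : (1 + N).det = 1) :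
    Φ.SI (one_add N h2) := by
  refine ⟨?_, by rw [one_add_val, hdet]⟩
  show Φ.adj1 (1 + N) * (1 + N) = 1
  rw [adj1_add, adj1_one, eq_neg_of_add_eq_zero_left hN]
  simp [add_mul, mul_add, h2]

theorem adj1_long (a : Fin k) (c : F) :
    Φ.adj1 (Matrix.single a a.rev c) = Matrix.single a a.rev (Φ.eps * Φ.σ c) := by
  rw [adj1_single, Fin.rev_rev, Φ.sg_rev]
  congr 1
  linear_combination (Φ.eps * Φ.σ c) * Φ.sg_sq a

/-- The long root element. -/
theorem exists_long {a : Fin k} (ha : a ≠ a.rev) {c : F} (hc : Φ.Lng c) :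
    ∃ s : GL (Fin k) F, Φ.SI s ∧ (s : Mm) = 1 + Matrix.single a a.rev c :=
  ⟨one_add _ (single_sq ha c), Φ.si_one_add _ (by
      rw [adj1_long, ← Matrix.single_add, add_comm, hc, Matrix.single_zero])
    (Matrix.det_transvection_of_ne a a.rev ha c), rfl⟩

/-- The conjugate of a long root matrix. -/
theorem conj_long {a : Fin k} {s : GL (Fin k) F} (hs : Φ.Iso1 s) :
    (s : Mm) * Matrix.single a a.rev 1 * ((s⁻¹ : GL (Fin k) F) : Mm) =
      Φ.sg a.rev • vecMulVec ((s : Mm) *ᵥ Pi.single a 1) (Φ.qv ((s : Mm) *ᵥ Pi.single a 1)) := by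
  rw [single_eq_single_vecMulVec_single, mul_vecMulVec, vecMulVec_mul, ← vecMulVec_smul]
  congr 1
  rw [← (Units.inv_eq_of_mul_eq_one_left hs).symm]
  funext y
  rw [Matrix.single_one_vecMul, Pi.smul_apply, smul_eq_mul, Matrix.row_apply, adj1_apply, qv, Matrix.mulVec_single_one,
    Fin.rev_rev, Matrix.col_apply]
  ring

end Frame

variable {Φ : Frame F k} {G : Subgroup (GL (Fin t → Fin k) F)} {a : Fin k}

theorem fu_mem_GJ [NeZero k] (hH : Φ.Hyp G) {J : Finset (Fin t)} (i : Fin t) {s : GL (Fin k) F}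
    (hs : Φ.SI s) : fu i s ∈ GJ G J := by
  have e : pureGL (Function.update 1 i s) * permGL k F (1 : Equiv.Perm (Fin t)) = fu i s := by
    rw [permGL_one, mul_one, fu_eq]
  rw [← e]
  exact mem_GJ_of_wr (e ▸ hH.roots i s hs) fun x _ => rfl

/-- A moved long root element carries its factor along. -/
theorem maps_of_root [NeZero k] (hH : Φ.Hyp G) (hT : Φ.PointTools a) {i j : Fin t} (hS : ScalAt G j a)
    {g : GL (Fin t → Fin k) F} (hg : g ∈ G) {l : F} (hl : l ≠ 0)
    (e : Ad g (fa i (Matrix.single a a.rev (1 : F))) = l • fa j (Matrix.single a a.rev 1)) : Maps g i j := by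
  set p : GL (Fin t → Fin k) F := permGL k F (Equiv.swap i j) with hp
  have hpu : pureGL (1 : Fin t → GL (Fin k) F) * p = p := by rw [pureGL_one, one_mul]
  have hAd : ∀ X, Ad p (fa j X) = fa i X := fun X => by
    have := Ad_wr_fa (1 : Fin t → GL (Fin k) F) (Equiv.swap i j) j X
    simpa [← hp, hpu] using this
  have hfu : ∀ s, p * fu j s * p⁻¹ = fu i s := fun s => Units.ext (by
    rw [fu_val, ← hAd, Ad_apply, Units.val_mul, Units.val_mul, fu_val])
  have hmap := Frame.maps_levi hT hS (h := g * p) ((hH.iso g hg).mul _ (Φ.iso_perm _))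
    (fun s hs => by
      rw [show g * p * fu j s * (g * p)⁻¹ = g * (p * fu j s * p⁻¹) * g⁻¹ by group, hfu]
      exact mul_mem (mul_mem hg (hH.roots i s hs)) (inv_mem hg))
    (hH.roots j) hl (by rw [Ad_mul, hAd, e])
  intro X
  obtain ⟨Y, hY⟩ := hmap X
  exact ⟨Y, by rwa [Ad_mul, hAd] at hY⟩

/-- An element of the group mapping a factor to a factor permutes the factors, if this holds for smaller
sets. -/
theorem isWr_of_maps_step [NeZero k] (hk : 2 ≤ k) (hM : Moves G) {J : Finset (Fin t)}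
    (hrec : ∀ J' : Finset (Fin t), J'.card < J.card → ∀ g ∈ GJ G J', IsWr g)
    {g : GL (Fin t → Fin k) F} (hg : g ∈ GJ G J) {i j : Fin t} (hi : i ∈ J) (hj : j ∈ J)
    (hmap : Maps g i j) : IsWr g := by
  have hfix : ∀ {g : GL (Fin t → Fin k) F}, g ∈ GJ G J → Maps g i i → IsWr g := fun {g} hg hgi =>
    hrec (J.erase i) (Finset.card_erase_lt_of_mem hi) g ⟨hg.1, fun x hx => by
      by_cases hxi : x = i
      · subst hxi; exact hgi
      · exact hg.2 x fun hx' => hx (Finset.mem_erase.2 ⟨hxi, hx'⟩)⟩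
  by_cases hij : i = j
  · subst hij; exact hfix hg hmap
  by_cases h3 : ∃ l ∈ J, l ≠ i ∧ l ≠ j
  · obtain ⟨l, hl, hli, hlj⟩ := h3
    obtain ⟨A, π, hπ, hπx, hA⟩ := hM.three j i l (Ne.symm hij) hlj hli
    have hAJ := mem_GJ_of_wr (J := J) hA fun x hx =>
      hπx x (fun h => hx (h ▸ hj)) (fun h => hx (h ▸ hi)) (fun h => hx (h ▸ hl))
    have hi' := (maps_wr A π j).mul hmap
    rw [hπ] at hi'
    have h2 := hfix (mul_mem hAJ hg) hi'
    have h4 := isWr_mul (isWr_inv (⟨A, π, rfl⟩ : IsWr (pureGL A * permGL k F π))) h2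
    rwa [inv_mul_cancel_left] at h4
  · push Not at h3
    have hJ : ∀ x ∈ J, x = i ∨ x = j := fun x hx => by
      by_cases hxi : x = i
      · exact Or.inl hxi
      · exact Or.inr (h3 x hx hxi)
    have hji : Maps g j i := fun X => by
      refine cent_range i fun x hx X' => ?_
      obtain ⟨W, hW⟩ : ∃ W, ∃ l, l ≠ j ∧ Ad g (fa l W) = fa x X' := by
        by_cases hxj : x = j
        · subst hxj
          obtain ⟨W, hW⟩ := hmap.inv X'
          exact ⟨W, i, hij, by rw [← hW, ← Ad_mul, mul_inv_cancel, Ad_one]⟩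
        · obtain ⟨W, hW⟩ := (hg.2 x fun hx' => (hJ x hx').elim hx hxj).inv X'
          exact ⟨W, x, hxj, by rw [← hW, ← Ad_mul, mul_inv_cancel, Ad_one]⟩
      obtain ⟨l, hlj, hW⟩ := hW
      rw [← hW, Commute, SemiconjBy, ← Ad_mul_apply, ← Ad_mul_apply, (fa_commute hlj.symm X W).eq]
    refine isWr_of_maps hk (Nat.one_le_iff_ne_zero.2 fun h => by subst h; exact i.elim0) fun x => ?_
    by_cases hx : x ∈ J
    · rcases hJ x hx with rfl | rfl
      · exact ⟨j, hmap⟩
      · exact ⟨i, hji⟩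
    · exact ⟨x, hg.2 x hx⟩

/-- An element moving a long root element to a transvection of a factor. -/
theorem isWr_of_root [NeZero k] (hk : 2 ≤ k) (hH : Φ.Hyp G) (hT : Φ.PointTools a) (hV : Φ.Transitive a)
    (hS : ∀ i, ScalAt G i a) {J : Finset (Fin t)}
    (hrec : ∀ J' : Finset (Fin t), J'.card < J.card → ∀ g ∈ GJ G J', IsWr g)
    {g : GL (Fin t → Fin k) F} (hg : g ∈ GJ G J) {i j : Fin t} (hi : i ∈ J) {c : F}
    {v : Fin k → F} (hc : c ≠ 0) (hv : v ≠ 0) (hvv : Φ.qv v ⬝ᵥ v = 0)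
    (e : Ad g (fa i (Matrix.single a a.rev (1 : F))) = c • fa j (vecMulVec v (Φ.qv v))) : IsWr g := by
  have hN : Φ.qv v ≠ 0 := Φ.qv_ne hv
  have hj : j ∈ J := by
    by_contra hj
    obtain ⟨Y, hY⟩ := (hg.2 j hj).inv (c • vecMulVec v (Φ.qv v))
    rw [map_smul, ← e, Ad_inv_cancel, single_eq_single_vecMulVec_single] at hY
    exact hj (eq_of_fa_eq (v := Pi.single a (1 : F)) (φ := Pi.single a.rev (1 : F)) (by simp) (by simp)
      (by simp [Ne.symm hT.ne]) hY ▸ hi)
  obtain ⟨s, μ, hμ, hs, hsv⟩ := hV v hv hvv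
  have hfu := fu_mem_GJ hH (J := J) j hs
  set g' := (fu j s)⁻¹ * g with hg'
  have hsT : fa j (vecMulVec v (Φ.qv v)) =
      (Φ.sg a.rev * μ * Φ.σ μ)⁻¹ • Ad (fu j s) (fa j (Matrix.single a a.rev (1 : F))) := by
    rw [Ad_fu_fa, Φ.conj_long hs.1, hsv, Φ.qv_smul, smul_vecMulVec, vecMulVec_smul, smul_smul, smul_smul,
      map_smul, inv_smul_smul₀ (mul_ne_zero (mul_ne_zero (Φ.sg_ne _) hμ)
        (by simpa using hμ))]
  have hmap : Maps g' i j := maps_of_root hH hT (hS j) (mul_mem (inv_mem hfu.1) hg.1)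
    (l := c * (Φ.sg a.rev * μ * Φ.σ μ)⁻¹)
    (mul_ne_zero hc (inv_ne_zero (mul_ne_zero (mul_ne_zero (Φ.sg_ne _) hμ) (by simpa using hμ))))
    (by rw [hg', Ad_mul, e, hsT, map_smul, map_smul, Ad_inv_cancel, smul_smul])
  have := isWr_of_maps_step hk hH.moves hrec (mul_mem (inv_mem hfu) hg) hi hj hmap
  have h4 := isWr_mul (isWr_fu j s) this
  rwa [mul_inv_cancel_left] at h4

end CfsgLib.MaxSub.TensorForm
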