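import Cfsg.Agent.Lib.MaxSub.TensorForm.Symp
import Cfsg.Agent.Lib.MaxSub.TensorForm.TwoFull
import Cfsg.Agent.Lib.MaxSub.SubspaceMaximal
import Cfsg.Agent.Lib.MaxSub.TensorWreathSympFrame

/-!
The stabiliser of an odd tensor power of symplectic spaces of dimension two is maximal.
-/

set_option autoImplicit false
set_option maxHeartbeats 1000000
set_option linter.unusedSectionVars false
set_option linter.unusedSimpArgs false

namespace CfsgLib.MaxSub.TensorForm

open Matrix
open CfsgLib.Aschbacher CfsgLib.MaxSub.TensorPow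

variable {F : Type*} [Field F] {k t m : ℕ}

local notation "Mm" => Matrix (Fin k) (Fin k) F
local notation "MT" => Matrix (Fin t → Fin k) (Fin t → Fin k) F

variable [Fintype F]

open Cfsg.Geo in
/-- The stabiliser of an odd tensor power of symplectic spaces is maximal. -/
theorem symp_tensorWreath_maximal_two (hodd : Odd (Fintype.card F)) (hk : k = 2) (hq : 3 < Fintype.card F) (ht : Odd t) (ht2 : 2 ≤ t)
    (e : (Fin m ⊕ Fin m) ≃ (Fin t → Fin k)) (P : GL (Fin m ⊕ Fin m) F) (f₁ : (Fin k → F) → (Fin k → F) → F)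
    (hf₁ : IsSymplecticForm f₁) (hT : IsTensorPowerFormStructure id (Cfsg.sympForm m F) f₁ e P) :
    IsMaximalIn (Cfsg.spGL m F) (tensorWreathSubgroup k t e P ⊓ Cfsg.spGL m F) := by
  classical
  obtain ⟨l, rfl, C, r, hr, hC⟩ := exists_symp_frame hf₁
  obtain rfl : l = 1 := by omega
  set Φ := sympFrame F 1 with hΦ
  obtain ⟨c, hc, hform⟩ := Frame.formIn_newFrame (Φ := Φ) (σ := id) (fun _ => rfl) hT C hr hC
  rw [← tensorWreath_newFrame e P C]
  set P' := newFrame e P C with hP'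
  clear_value P'
  have h2 : (2 : F) ≠ 0 := by
    refine Ring.two_ne_zero fun h => ?_
    have := FiniteField.even_card_of_char_two h
    rw [Nat.odd_iff] at hodd
    omega
  have hL : Φ.Lng 1 := by show (1 : F) + -1 * 1 = 0; ring
  have hcc : (2⁻¹ : F) + Φ.σ (2⁻¹) = 1 := by
    show (2⁻¹ : F) + 2⁻¹ = 1
    field_simp; norm_num
  have hd := Φ.halfTrace_of hcc
  have hev : Even (1 + 1) := ⟨1, rfl⟩
  set a : Fin (1 + 1) := ⟨0, by omega⟩ with ha0
  have hLall : ∀ c : F, Φ.Lng c := fun c => by show c + -1 * c = 0; ring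
  obtain ⟨α, hα0, hα⟩ : ∃ α : F, α ≠ 0 ∧ α * α ≠ 1 := by
    by_contra hc
    push Not at hc
    have : Fintype.card F ≤ 3 := by
      rw [← Finset.card_univ]
      refine (Finset.card_le_card (t := ({0, 1, -1} : Finset F)) fun x _ => ?_).trans Finset.card_le_three
      by_cases hx : x = 0
      · simp [hx]
      rcases mul_self_eq_one_iff.1 (hc x hx) with h | h <;> simp [h]
    omega
  obtain ⟨d, hd', hdd⟩ := gl_two (!![α, 0; 0, α⁻¹] : Matrix (Fin 2) (Fin 2) F) (by simp [Matrix.det_fin_two, hα0])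
  have ha : a ≠ a.rev := ne_rev_of_even hev a
  have hpt : Φ.PointTools a := Φ.pointTools_of hd one_ne_zero hL ha (fun y hy => absurd hy (ne_rev_of_even hev y))
    (Or.inr ⟨d, si_two hLall hdd, fun p r hpr => by
      rw [hd']; fin_cases p <;> fin_cases r <;> simp at hpr ⊢, by
      rw [hd', show a = 0 from rfl, show (0 : Fin (1 + 1)).rev = 1 from rfl]
      simp
      intro h; exact hα (by nth_rw 2 [h]; rw [mul_inv_cancel₀ hα0])⟩)
  have hV := Φ.transitive_of one_ne_zero hL hpt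
  have hiso : ∀ g, frU e P' g ∈ Cfsg.spGL m F ↔ Φ.Iso g := fun g => hform.iso_iff hc g
  have heps : Φ.eps ^ t = -1 := ht.neg_one_pow
  refine ⟨lt_of_le_of_ne inf_le_right fun h => ?_, fun G hG hGS => ?_⟩
  · have hne : (fun _ : Fin t => a) ≠ fun _ : Fin t => a.rev := fun e => ha (congrFun e ⟨0, by omega⟩)
    let g : GL (Fin t → Fin (1 + 1)) F :=
      one_add (Matrix.single (fun _ => a) (fun _ => a.rev) 1) (Matrix.single_mul_single_of_ne _ _ _ _ (Ne.symm hne) _)
    have hgi : Φ.Iso g := by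
      show Φ.adj (1 + _) * (1 + _) = (1 : Matrix (Fin t → Fin (1 + 1)) (Fin t → Fin (1 + 1)) F)
      rw [Φ.adj_add, Φ.adj_one, Φ.adj_single]
      have e1 : (Fin.rev ∘ fun _ : Fin t => a.rev) = fun _ => a := funext fun _ => Fin.rev_rev a
      have e2 : (Fin.rev ∘ fun _ : Fin t => a) = fun _ => a.rev := rfl
      rw [e1, e2, map_one, mul_one]
      have hs : Φ.sgT (fun _ : Fin t => a) * Φ.sgT (fun _ : Fin t => a.rev) = -1 := by
        rw [← e2, Φ.sgT_rev, heps]
        linear_combination -Φ.sgT_sq (fun _ : Fin t => a)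
      rw [hs, ← Matrix.single_neg]
      simp [add_mul, mul_add, Matrix.single_mul_single_of_ne _ _ _ _ (Ne.symm hne)]
    have hmem : frU e P' g ∈ tensorWreathSubgroup (1 + 1) t e P' := by
      have : frU e P' g ∈ Cfsg.spGL m F := (hiso g).2 hgi
      rw [← h] at this
      exact this.1
    rw [tensorWreathSubgroup, map_glReindex_conj] at hmem
    obtain ⟨g', hg', he⟩ := hmem
    rw [(frU e P').injective he] at hg'
    exact not_isWr_transvection ht2 ha one_ne_zero (g := g) rfl (mem_std_iff.1 hg')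
  by_cases hin : G ≤ tensorWreathSubgroup (1 + 1) t e P'
  · exact Or.inl (le_antisymm (le_inf hin hGS) hG)
  refine Or.inr (le_antisymm hGS ?_)
  rw [tensorWreathSubgroup, map_glReindex_conj] at hG hin
  let K := G.comap (frU e P').toMonoidHom
  have hK : ∀ g : GL (Fin t → Fin (1 + 1)) F, IsWr g → Φ.Iso g → g ∈ K := fun g hg hi =>
    hG ⟨⟨g, mem_std_iff.2 hg, rfl⟩, (hiso g).2 hi⟩
  have hperm : ∀ π : Equiv.Perm (Fin t), pureGL 1 * permGL (1 + 1) F π ∈ K := fun π =>
    hK _ ⟨1, π, rfl⟩ (by rw [pureGL_one, one_mul]; exact Φ.iso_perm π)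
  have hH : Φ.Hyp K :=
    ⟨fun g hg => (hiso g).1 (hGS hg), fun i s hs => hK _ (isWr_fu i s) (Φ.iso_fu i hs.1),
      ⟨fun i j z _ hzi hzj => ⟨1, _, Equiv.swap_apply_left i j,
          fun x hxi hxj _ => Equiv.swap_apply_of_ne_of_ne hxi hxj, hperm _⟩,
        fun i j z hji hzi => ⟨1, _, Equiv.swap_apply_of_ne_of_ne hji.symm hzi.symm, Equiv.swap_apply_left j z,
          hperm _⟩⟩⟩
  rcases wr_or_transvections_two (Φ := Φ) h2 hq ht2 hLall hH hpt hV
    (fun a b x y _ _ => by have := hperm (Equiv.swap a b * Equiv.swap x y); rwa [pureGL_one, one_mul] at this) with h | h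
  · refine absurd (fun g hg => ?_) hin
    exact ⟨(frU e P').symm g, h (show frU e P' ((frU e P').symm g) ∈ G by rwa [MulEquiv.apply_symm_apply]),
      MulEquiv.apply_symm_apply _ _⟩
  refine spGL_le_of_centre fun v d => ?_
  obtain ⟨x, rfl⟩ := Frame.exists_coords e P' v
  have hiso0 : Φ.qT x ⬝ᵥ x = 0 := by
    have h1 := sympForm_alt (F := F) m ((P' : Matrix (Fin m ⊕ Fin m) (Fin m ⊕ Fin m) F) *ᵥ (x ∘ e))
    rw [hform] at h1
    exact (mul_eq_zero.1 h1).resolve_left hc
  obtain ⟨g₀, hg₀, hg₀v⟩ := h x hiso0 (d * c) (by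
    rw [heps]
    show d * c + -1 * (d * c) = 0
    ring)
  suffices sT ((P' : Matrix (Fin m ⊕ Fin m) (Fin m ⊕ Fin m) F) *ᵥ (x ∘ e)) d = frU e P' g₀ by
    rw [this]; exact hg₀
  refine Units.ext (Matrix.ext_of_mulVec_single fun p => ?_)
  obtain ⟨y, hy⟩ := Frame.exists_coords e P' (Pi.single p 1)
  rw [sT_mulVec, hy, frU_mulVec, hform, hg₀v, Matrix.add_mulVec, Matrix.one_mulVec, Matrix.smul_mulVec,
    Matrix.vecMulVec_mulVec, op_smul_eq_smul, smul_smul, show (y + (d * c * (Φ.qT x ⬝ᵥ y)) • x) ∘ e =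
      y ∘ e + (d * c * (Φ.qT x ⬝ᵥ y)) • (x ∘ e) from rfl, Matrix.mulVec_add, Matrix.mulVec_smul, mul_assoc d c]

end CfsgLib.MaxSub.TensorForm
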