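import Cfsg.Agent.Lib.MaxSub.TensorForm.Two

/-!
Two-dimensional factors: an element stabilising the sum of the factor algebras permutes the factors; the deviation
vanishes; the group lies in the wreath product.
-/

set_option autoImplicit false
set_option maxHeartbeats 1000000
set_option linter.unusedSectionVars false
set_option linter.unusedSimpArgs false

namespace CfsgLib.MaxSub.TensorForm

open Matrix
open CfsgLib.Aschbacher CfsgLib.MaxSub.TensorPow

variable {F : Type*} [Field F] {t : ℕ}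

local notation "M2" => Matrix (Fin 2) (Fin 2) F
local notation "MT2" => Matrix (Fin t → Fin 2) (Fin t → Fin 2) F
local notation "E[" i "](" a "," b ")" => fa i (Matrix.single a b (1 : F))

/-- An element stabilising the sum of the factor algebras permutes two-dimensional factors. -/
theorem wr_of_preserves_two [Finite F] (h2F : (2 : F) ≠ 0) (ht : 0 < t) {g : GL (Fin t → Fin 2) F} (R : Submodule F MT2)
    (h1 : ∀ (i : Fin t) (Z : M2), Z.trace = 0 → fa i Z ∈ R)
    (h2 : R ≤ Submodule.span F (Set.range fun p : Fin t × M2 => fa p.1 p.2))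
    (hg : ∀ X ∈ R, Ad g X ∈ R) : IsWr g := by
  classical
    haveI : NeZero t := ⟨ht.ne'⟩
  have rep : ∀ X ∈ R, ∃ Y : Fin t → M2, X = ∑ k, fa k (Y k) := fun X hX => by
    obtain ⟨Y, hY⟩ := span_le_sumFa (h2 hX)
    exact ⟨Y, by rw [← hY, sumFa_apply]⟩
  have surj : ∀ X ∈ R, ∃ X' ∈ R, Ad g X' = X := by
    intro X hX
    have hinj : Function.Injective ((Ad g).restrict hg) := fun x y h =>
      Subtype.ext (Ad_injective g (congrArg Subtype.val h))
    obtain ⟨X', hX'⟩ := LinearMap.injective_iff_surjective.mp hinj ⟨X, hX⟩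
    exact ⟨X'.1, X'.2, congrArg Subtype.val hX'⟩
  let sl : Submodule F M2 := LinearMap.ker (Matrix.traceLinearMap (Fin 2) F F)
  have memsl : ∀ Z : M2, Z ∈ sl ↔ Z.trace = 0 := fun Z => Iff.rfl
  let a₀ : Fin 2 := 0
  let b₀ : Fin 2 := 1
  have hab₀ : a₀ ≠ b₀ := by simp [a₀, b₀, Fin.ext_iff]
  have htr : ∀ {a b : Fin 2}, a ≠ b → (Matrix.single a b (1 : F)).trace = 0 := fun {a b} h => by
    simp [Matrix.trace, h]
  have notscalar : ∀ {a b : Fin 2}, a ≠ b → ∀ c : F, (Matrix.single a b (1 : F) : M2) ≠ c • 1 := by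
    intro a b h c e
    have := congrFun (congrFun e a) b
    simp [h] at this
  -- the image of a factor
  let K : Fin t → Submodule F MT2 := fun i => sl.map ((Ad g).comp (fa i).toLinearMap)
  have key : ∀ i, ∃ j, (∀ Z : M2, Z.trace = 0 → ∃ Z' : M2, Ad g (fa i Z) = fa j Z' ∧ Z'.trace = 0) ∧
      ∀ Z' : M2, Z'.trace = 0 → ∃ Z : M2, Ad g (fa i Z) = fa j Z' ∧ Z.trace = 0 := by
    intro i
    have hX0 : fa i (Matrix.single a₀ b₀ (1 : F)) ∈ R := h1 i _ (htr hab₀)
    obtain ⟨Y, hY⟩ := rep _ (hg _ hX0)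
    obtain ⟨j, hj⟩ : ∃ j, ∀ c : F, Y j ≠ c • 1 := by
      by_contra hc
      push Not at hc
      choose c hc using hc
      have e : Ad g (fa i (Matrix.single a₀ b₀ (1 : F))) = Ad g ((∑ k, c k) • 1) := by
        rw [hY, map_smul]
        have : Ad g (1 : MT2) = 1 := by simp [Ad_apply]
        rw [this, Finset.sum_smul]
        exact Finset.sum_congr rfl fun k _ => by rw [hc k, map_smul, map_one]
      refine notscalar hab₀ (∑ k, c k) (fa_injective i ?_)
      rw [Ad_injective g e, map_smul, map_one]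
    have hbr : ∀ X ∈ K i, ∀ W : M2, W.trace = 0 → br X (fa j W) ∈ K i := by
      rintro _ ⟨Z, hZ, rfl⟩ W hW
      obtain ⟨X', hX', hW'⟩ := surj _ (h1 j W hW)
      obtain ⟨Y', hY'⟩ := rep _ hX'
      refine ⟨br Z (Y' i), trace_br _ _, ?_⟩
      simp only [LinearMap.comp_apply, AlgHom.toLinearMap_apply]
      rw [← hW', ← Ad_br, hY']
      congr 1
      have := br_sumFa Y' i Z
      rw [br, br, map_sub] at this ⊢
      rw [← neg_sub ((∑ k, fa k (Y' k)) * fa i Z) (fa i Z * ∑ k, fa k (Y' k)), this, map_mul, map_mul, neg_sub]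
    let S : Submodule F M2 := (K i).comap (fa j).toLinearMap
    have hle : ∀ W : M2, W.trace = 0 → W ∈ S := fun W hW => by
      refine traceless_le_two h2F S (fun X hX Z hZ => ?_) hj (fun Z hZ => ?_) hW
      · show fa j (br X Z) ∈ K i
        rw [br, map_sub, map_mul, map_mul]
        exact hbr _ hX Z hZ
      · show fa j (br (Y j) Z) ∈ K i
        rw [← br_sumFa, ← hY]
        exact hbr _ ⟨_, htr hab₀, rfl⟩ Z hZ
    have hsub : sl.map (fa j).toLinearMap ≤ K i := by
      rintro _ ⟨W, hW, rfl⟩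
      exact hle W hW
    have heq : sl.map (fa j).toLinearMap = K i := by
      refine Submodule.eq_of_le_of_finrank_eq hsub ?_
      have e1 := (Submodule.equivMapOfInjective (fa (F := F) (m := 2) j).toLinearMap (fa_injective j) sl).finrank_eq
      have e2 := (Submodule.equivMapOfInjective ((Ad g).comp (fa i).toLinearMap)
          ((Ad_injective g).comp (fa_injective i)) sl).finrank_eq
      exact e1.symm.trans e2
    refine ⟨j, fun Z hZ => ?_, fun Z' hZ' => ?_⟩
    swap
    · obtain ⟨Z, hZ, e⟩ : fa j Z' ∈ K i := hsub ⟨Z', hZ', rfl⟩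
      exact ⟨Z, e, hZ⟩
    obtain ⟨Z', hZ', e⟩ : Ad g (fa i Z) ∈ sl.map (fa j).toLinearMap := heq ▸ ⟨Z, hZ, rfl⟩
    exact ⟨Z', e.symm, hZ'⟩
  choose σ hσ using key
  have hinj : Function.Injective σ := by
    intro i i' h
    by_contra hne
    have hc : ∀ W : M2, W.trace = 0 → br (Matrix.single a₀ b₀ (1 : F)) W = 0 := by
      intro W hW
      obtain ⟨Z₂, e₂, t₂⟩ := (hσ i).1 W hW
      obtain ⟨W', e', -⟩ := (hσ i').2 Z₂ t₂
      rw [← h] at e'
      have e : fa i W = fa i' W' := Ad_injective g (e₂.trans e'.symm)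
      refine fa_injective i ?_
      rw [br, map_sub, map_mul, map_mul, map_zero, e, (fa_commute hne _ W').eq, sub_self]
    have := hc _ (htr hab₀.symm)
    have := congrFun (congrFun this a₀) a₀
    simp [br, Ne.symm hab₀] at this
  let π : Equiv.Perm (Fin t) := Equiv.ofBijective σ (Finite.injective_iff_bijective.mp hinj)
  refine mem_std_iff.mp (mem_tensorWreathStandard_of_permuting (σ := π) fun i k l => ?_)
  have off : ∀ {a b : Fin 2}, a ≠ b → ∃ Y : M2, Ad g (fa i (Matrix.single a b (1 : F))) = fa (σ i) Y := by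
    intro a b h
    obtain ⟨Y, hY, -⟩ := (hσ i).1 _ (htr h)
    exact ⟨Y, hY⟩
  show ∃ Y, Ad g (fa i (Matrix.single k l (1 : F))) = fa (σ i) Y
  by_cases hkl : k = l
  · subst hkl
    obtain ⟨z, hz⟩ : ∃ z : Fin 2, z ≠ k := by
      by_cases hk : k = a₀
      · exact ⟨b₀, hk ▸ hab₀.symm⟩
      · exact ⟨a₀, Ne.symm hk⟩
    obtain ⟨Y, hY⟩ := off hz.symm
    obtain ⟨Y', hY'⟩ := off hz
    refine ⟨Y * Y', ?_⟩
    rw [map_mul, ← hY, ← hY', ← Ad_mul_apply, ← map_mul]
    simp
  · exact off hkl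


theorem rev_two : (0 : Fin 2).rev = 1 := rfl

theorem rev_two' : (1 : Fin 2).rev = 0 := rfl

theorem mid_two {v : Fin 2} (h : Mid 0 v) : False := by
  obtain ⟨h1, h2⟩ := h
  fin_cases v
  · exact h1 rfl
  · exact h2 rfl

variable [Fintype F]

/-- The sum of the squares in a field with more than three elements. -/
theorem sum_sq_eq_zero (h : 3 < Fintype.card F) : ∑ c : F, c * c = 0 := by
  classical
  obtain ⟨d, hd0, hd1⟩ : ∃ d : F, d ≠ 0 ∧ d * d ≠ 1 := by
    by_contra hc
    push Not at hc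
    have : Fintype.card F ≤ 3 := by
      rw [← Finset.card_univ]
      refine (Finset.card_le_card (t := ({0, 1, -1} : Finset F)) fun x _ => ?_).trans Finset.card_le_three
      by_cases hx : x = 0
      · simp [hx]
      rcases mul_self_eq_one_iff.1 (hc x hx) with h | h <;> simp [h]
    omega
  have e : (d * d) * ∑ c : F, c * c = ∑ c : F, c * c := by
    rw [Finset.mul_sum]
    exact Fintype.sum_equiv (Equiv.mulLeft₀ d hd0) _ _ fun c => by simp; ring
  by_contra hne
  exact hd1 (mul_right_cancel₀ hne (e.trans (one_mul _).symm))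

variable {Φ : Frame F 2}

omit [Fintype F] in
/-- The long root elements of a symplectic plane. -/
theorem exists_long_two (hL : ∀ c, Φ.Lng c) (c : F) :
    (∃ s : GL (Fin 2) F, Φ.SI s ∧ (s : M2) = 1 + Matrix.single 0 1 c) ∧
      ∃ s : GL (Fin 2) F, Φ.SI s ∧ (s : M2) = 1 + Matrix.single 1 0 c :=
  ⟨Φ.exists_long (a := 0) (by decide) (hL c), Φ.exists_long (a := 1) (by decide) (hL c)⟩

omit [Fintype F] in
/-- A subspace stable under the factor group containing a root matrix contains the traceless matrices. -/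
theorem sl2_le (h2 : (2 : F) ≠ 0) (hL : ∀ c, Φ.Lng c) (W : Submodule F M2)
    (hconj : ∀ s, Φ.SI s → ∀ X ∈ W, (s : M2) * X * ((s⁻¹ : GL (Fin 2) F) : M2) ∈ W)
    (he : Matrix.single 0 1 (1 : F) ∈ W) {X : M2} (hX : X.trace = 0) : X ∈ W := by
  have key : ∀ c : F, Matrix.single 0 1 1 + c • (Matrix.single 1 1 1 - Matrix.single 0 0 1) -
      (c * c) • Matrix.single 1 0 (1 : F) ∈ W := fun c => by
    obtain ⟨s, hs, hsv⟩ := (exists_long_two hL c).2
    have hsi : ((s⁻¹ : GL (Fin 2) F) : M2) = 1 - Matrix.single 1 0 c := by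
      have e : s = one_add _ (single_sq (show (1 : Fin 2) ≠ 0 by decide) c) := Units.ext hsv
      rw [e]; rfl
    have h := hconj s hs _ he
    rw [hsv, hsi] at h
    convert h using 1
    ext x y; fin_cases x <;> fin_cases y <;> simp [Matrix.mul_apply, Fin.sum_univ_two]
  have hA := key 1
  have hB := key (-1)
  have hh : Matrix.single 0 0 (1 : F) - Matrix.single 1 1 1 ∈ W := by
    have := W.smul_mem (2 : F)⁻¹ (W.sub_mem hB hA)
    convert this using 1
    ext x y; fin_cases x <;> fin_cases y <;> simp <;> field_simp <;> norm_num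
  have hf : Matrix.single 1 0 (1 : F) ∈ W := by
    have := W.sub_mem he (W.smul_mem (2 : F)⁻¹ (W.add_mem hA hB))
    convert this using 1
    ext x y; fin_cases x <;> fin_cases y <;> simp <;> field_simp <;> norm_num
  have hX' : X 1 1 = -X 0 0 := by
    simp [Matrix.trace, Fin.sum_univ_two] at hX
    linear_combination hX
  have : X = X 0 0 • (Matrix.single 0 0 (1 : F) - Matrix.single 1 1 1) + X 0 1 • Matrix.single 0 1 (1 : F) +
      X 1 0 • Matrix.single 1 0 (1 : F) := by
    ext x y; fin_cases x <;> fin_cases y <;> simp [hX']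
  rw [this]
  exact W.add_mem (W.add_mem (W.smul_mem _ hh) (W.smul_mem _ he)) (W.smul_mem _ hf)

variable {G : Subgroup (GL (Fin t → Fin 2) F)} {J : Finset (Fin t)}

section

variable (h2 : (2 : F) ≠ 0) (ht : 2 ≤ t) (hL : ∀ c, Φ.Lng c) (hH : Φ.Hyp G) (hT : Φ.PointTools 0)
  (hV : Φ.Transitive 0) (hS : ∀ i, ScalAt G i (0 : Fin 2))
  (hrec : ∀ J' : Finset (Fin t), J'.card < J.card → ∀ g ∈ GJ G J', IsWr g)
include h2 ht hL hH hT hV hS hrec

/-- Long root elements of two-dimensional factors are isolated. -/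
theorem isWr_of_conj_two {g : GL (Fin t → Fin 2) F} (hg : g ∈ GJ G J) {i : Fin t} (hi : i ∈ J) {c : F}
    (hc : c ≠ 0) {u : GL (Fin t → Fin 2) F} (huv : (u : MT2) = 1 + fa i (Matrix.single 0 1 c))
    (hw : IsWr (g⁻¹ * u * g)) : IsWr g := by
  set N : M2 := Matrix.single 0 1 c with hN
  have hNN : N * N = 0 := single_sq (show (0 : Fin 2) ≠ 1 by decide) c
  have e1 : ((g⁻¹ * u * g : GL (Fin t → Fin 2) F) : MT2) = 1 + Ad g⁻¹ (fa i N) := by
    rw [Units.val_mul, Units.val_mul, huv, mul_add, add_mul, mul_one, Units.inv_mul, Ad_apply, inv_inv]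
  have hsq : (((g⁻¹ * u * g : GL (Fin t → Fin 2) F) : MT2) - 1) *
      (((g⁻¹ * u * g : GL (Fin t → Fin 2) F) : MT2) - 1) = 0 := by
    rw [e1, add_sub_cancel_left, ← Ad_mul_apply, ← map_mul, hNN, map_zero, map_zero]
  obtain ⟨j, X, hX⟩ := shape_odd le_rfl (by omega) h2 hw hsq
  rw [hX] at hsq
  have hY2 : (X - 1) * (X - 1) = 0 := by
    refine fa_injective (t := t) j ?_
    rw [map_mul, map_sub, map_one, map_zero]; exact hsq
  obtain ⟨v, φ, h', hY⟩ := two_nilpotent hY2
  have hv' : Ad g⁻¹ (fa i N) = fa j (vecMulVec v φ) := by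
    rw [← hY, map_sub, map_one, ← hX, e1, add_sub_cancel_left]
  have hne : fa i N ≠ (0 : MT2) := fun h0 => by
    have := fa_injective i (h0.trans (map_zero (fa (F := F) (m := 2) (t := t) i)).symm)
    exact hc (by simpa [hN] using congrFun (congrFun this 0) 1)
  have hne' : fa j (vecMulVec v φ) ≠ (0 : MT2) := fun h0 => hne (by
    have := congrArg (Ad g) (hv'.trans h0)
    rwa [← Ad_mul, mul_inv_cancel, Ad_one, map_zero] at this)
  have hv : v ≠ 0 := fun h0 => hne' (by simp [h0])
  have hφ : φ ≠ 0 := fun h0 => hne' (by simp [h0])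
  have hgi : Φ.Iso g⁻¹ := (hH.iso g hg.1).inv
  have hadj : Φ.adj1 (vecMulVec v φ) = -vecMulVec v φ := by
    refine fa_injective (t := t) j ?_
    have h3 : Matrix.single (0 : Fin 2) (1 : Fin 2) (Φ.eps * Φ.σ c) = -(Matrix.single (0 : Fin 2) (1 : Fin 2) c) :=
      eq_neg_of_add_eq_zero_left (by rw [← Matrix.single_add, add_comm, hL c, Matrix.single_zero])
    rw [← Φ.adj_fa, ← hv', hgi.adj_Ad, Φ.adj_fa, map_neg, ← hv', hN, ← rev_two, Φ.adj1_long, rev_two, h3, map_neg,
      map_neg]
  obtain ⟨μ, hμ, hφv, hvv⟩ := root_form hv hφ h' hadj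
  have hsm : Matrix.single (0 : Fin 2) (1 : Fin 2) c = c • Matrix.single (0 : Fin 2) (1 : Fin 2) (1 : F) := by simp
  have := isWr_of_root (g := g⁻¹) (i := i) (j := j) (a := (0 : Fin 2)) (c := c⁻¹ * μ) (v := v) le_rfl hH hT hV hS
    hrec (inv_mem hg) hi (mul_ne_zero (inv_ne_zero hc) hμ) hv hvv (by
      rw [mul_smul, ← map_smul (fa j) μ, ← vecMulVec_smul, ← hφv, ← hv', hN, hsm, map_smul, map_smul,
        inv_smul_smul₀ hc, rev_two])
  simpa using isWr_inv this

/-- The deviation vanishes for two-dimensional factors. -/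
theorem dev_zero_two (hq : 3 < Fintype.card F) {i : Fin t} (hi : i ∈ J) (X : MT2) : dev G J X = 0 := by
  classical
  set N : MT2 := E[i](0, 1) with hN
  have hNN : N * N = 0 := by rw [hN, fs_mul, if_neg (by decide)]
  have hsq : ∀ c : F, (c • N) * (c • N) = 0 := fun c => by
    rw [Matrix.smul_mul, Matrix.mul_smul, hNN, smul_zero, smul_zero]
  let u : F → GL (Fin t → Fin 2) F := fun c => one_add (c • N) (hsq c)
  have huv : ∀ c, (u c : MT2) = 1 + fa i (Matrix.single 0 1 c) := fun c => by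
    rw [one_add_val, hN, ← map_smul, Matrix.smul_single, smul_eq_mul, mul_one]
  have hu : ∀ c, ∃ s, Φ.SI s ∧ u c = fu i s := fun c => by
    obtain ⟨s, hs, hsv⟩ := (exists_long_two hL c).1
    exact ⟨s, hs, Units.ext (by rw [huv, fu_val, hsv, map_add, map_one])⟩
  have fixed : ∀ X : MT2, N * X = X * N → N * X * N = 0 → dev G J X = 0 := by
    intro X hc hz
    obtain ⟨Y, hY⟩ := avg_sub_mem (ρ := AdRep) (σ := AdRep) (H := Cfsg.Geo.tensorWreathStandard 2 t F)
      (commH_lieOp (G := G) (J := J)) u (Units.ext (by simp [u, one_add_val]))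
      (fun c d => Units.ext (by
        rw [Units.val_mul, one_add_val, one_add_val, one_add_val, add_smul]
        simp only [add_mul, mul_add, one_mul, mul_one, Matrix.smul_mul, Matrix.mul_smul, hNN, smul_zero]
        abel))
      (fun c => by obtain ⟨s, hs, e⟩ := hu c; rw [e]; exact fu_mem_GJ hH i hs)
      (fun c => by obtain ⟨s, hs, e⟩ := hu c; rw [e]; exact mem_std_iff.2 (isWr_fu i s))
      (fun c hc g hg h => mem_std_iff.2 (isWr_of_conj_two h2 ht hL hH hT hV hS hrec hg hi hc (huv c)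
        (isWr_of_mem_std h)))
      (X := X) (fun c => by
        rw [AdRep_apply, Ad_one_add]
        simp [Matrix.smul_mul, Matrix.mul_smul, hc, mul_assoc, hNN])
    rw [dev, LinearMap.sub_apply, hY]
    simp only [AdRep_apply, u, Ad_one_add, Finset.sum_add_distrib, Finset.sum_const, Finset.card_univ,
      ← Nat.cast_smul_eq_nsmul F, FiniteField.cast_card_eq_zero, zero_smul, zero_add, Finset.sum_sub_distrib,
      Matrix.smul_mul, Matrix.mul_smul, smul_smul, ← Finset.sum_smul, sum_field_eq_zero (F := F) (by omega),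
      sum_sq_eq_zero hq, sub_zero]
  have hcent : ∀ P : MT2, (∀ X, Commute P (fa i X)) → dev G J P = 0 := fun P hP =>
    fixed P (hP _).eq.symm (by rw [← (hP _).eq, mul_assoc, hNN, mul_zero])
  have hup : ∀ P : MT2, (∀ X, Commute P (fa i X)) → dev G J (N * P) = 0 := fun P hP => by
    refine fixed _ ?_ ?_
    · rw [mul_assoc N P N, (hP _).eq]
    · rw [← mul_assoc, hNN, zero_mul, zero_mul]
  conv_lhs => rw [bl_expand i X]
  simp only [map_sum]
  refine Finset.sum_eq_zero fun x _ => Finset.sum_eq_zero fun y _ => ?_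
  set P := bl i X x y with hPdef
  have hP : ∀ X, Commute P (fa i X) := bl_commute i _ _ _
  let W : Submodule F M2 :=
    { carrier := {Z | dev G J (fa i Z * P) = 0}
      add_mem' := fun {Y Z} hY hZ => by
        show dev G J _ = 0
        rw [map_add, add_mul, map_add, show dev G J _ = 0 from hY, show dev G J _ = 0 from hZ, add_zero]
      zero_mem' := by show dev G J _ = 0; rw [map_zero, zero_mul, map_zero]
      smul_mem' := fun c Y hY => by
        show dev G J _ = 0
        rw [map_smul, Matrix.smul_mul, map_smul, show dev G J _ = 0 from hY, smul_zero] }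
  have hconj : ∀ s, Φ.SI s → ∀ Z ∈ W, (s : M2) * Z * ((s⁻¹ : GL (Fin 2) F) : M2) ∈ W := fun s hs Z hZ => by
    show dev G J _ = 0
    have h := dev_equivariant (J := J) hH i hs (fa i Z * P)
    rw [show dev G J (fa i Z * P) = 0 from hZ, map_zero] at h
    rw [← h, Ad_mul_apply, Ad_fu_fa]
    congr 2
    rw [Ad_apply, fu_val, ← (hP _).eq, mul_assoc, ← map_inv, fu_val, ← map_mul, Units.mul_inv, map_one, mul_one]
  show Matrix.single x y (1 : F) ∈ W
  have h1 : (1 : M2) ∈ W := by show dev G J _ = 0; rw [map_one, one_mul]; exact hcent P hP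
  have he : Matrix.single 0 1 (1 : F) ∈ W := hup P hP
  have e : Matrix.single x y (1 : F) = (2⁻¹ * (Matrix.single x y (1 : F) : M2).trace) • (1 : M2) +
      (Matrix.single x y 1 - (2⁻¹ * (Matrix.single x y (1 : F) : M2).trace) • (1 : M2)) := by abel
  rw [e]
  refine W.add_mem (W.smul_mem _ h1) (sl2_le h2 hL W hconj he ?_)
  rw [Matrix.trace_sub, Matrix.trace_smul, Matrix.trace_one, Fintype.card_fin, smul_eq_mul, Nat.cast_ofNat]
  field_simp
  ring

end

/-- The induction over the sets of factors, two-dimensional. -/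
theorem core_two (h2 : (2 : F) ≠ 0) (hq : 3 < Fintype.card F) (ht : 2 ≤ t) (hL : ∀ c, Φ.Lng c) (hH : Φ.Hyp G)
    (hT : Φ.PointTools 0) (hV : Φ.Transitive 0) (hS : ∀ i, ScalAt G i (0 : Fin 2)) :
    ∀ (J : Finset (Fin t)), ∀ g ∈ GJ G J, IsWr g := by
  classical
  suffices h : ∀ n, ∀ (J : Finset (Fin t)), J.card = n → ∀ g ∈ GJ G J, IsWr g from
    fun J => h J.card J rfl
  intro n
  induction n using Nat.strong_induction_on with
  | _ n ih =>
    intro J hJn g hg
    subst hJn
    rcases J.eq_empty_or_nonempty with rfl | ⟨i, hi⟩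
    · exact isWr_of_maps le_rfl (by omega) fun x => ⟨x, hg.2 x (Finset.notMem_empty x)⟩
    have hall := dev_zero_two h2 ht hL hH hT hV hS (fun J' h => ih _ h J' rfl) hq hi
    refine wr_of_preserves_two h2 (by omega) (LinearMap.range (lieOp 2 t F))
      (fun x Z hZ => lieOp_fa x Z hZ) (by rintro _ ⟨X, rfl⟩; exact lieOp_mem X) ?_
    rintro _ ⟨X, rfl⟩
    refine ⟨Ad g X, ?_⟩
    have h1 := avg_equivariant (ρ := AdRep) (σ := AdRep) (H := Cfsg.Geo.tensorWreathStandard 2 t F)
      (commH_lieOp (G := G) (J := J)) hg X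
    rw [AdRep_apply, AdRep_apply] at h1
    have e : ∀ Y : MT2, avg AdRep AdRep (GJ G J) (Cfsg.Geo.tensorWreathStandard 2 t F) (lieOp 2 t F) Y =
        lieOp 2 t F Y := fun Y => sub_eq_zero.1 (hall Y)
    rwa [e, e] at h1

/-- Without non-scalar long root blocks the group lies in the wreath product. -/
theorem le_wreath_two (h2 : (2 : F) ≠ 0) (hq : 3 < Fintype.card F) (ht : 2 ≤ t) (hL : ∀ c, Φ.Lng c) (hH : Φ.Hyp G)
    (hT : Φ.PointTools 0) (hV : Φ.Transitive 0) (hS : ∀ i, ScalAt G i (0 : Fin 2)) :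
    G ≤ Cfsg.Geo.tensorWreathStandard 2 t F := fun g hg =>
  mem_std_iff.2 (core_two h2 hq ht hL hH hT hV hS Finset.univ g ⟨hg, fun x hx => absurd (Finset.mem_univ x) hx⟩)

end CfsgLib.MaxSub.TensorForm
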