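import Cfsg.Agent.Lib.MaxSub.TensorForm.Builders
import Cfsg.Agent.Lib.MaxSub.TensorPow.Main

/-!
The alternative for a group of isometries, changes of frame, and the witnesses against containment.
-/

set_option autoImplicit false
set_option maxHeartbeats 1000000
set_option linter.unusedSectionVars false
set_option linter.unusedSimpArgs false

namespace CfsgLib.MaxSub.TensorForm

open Matrix
open CfsgLib.Aschbacher CfsgLib.MaxSub.TensorPow

variable {F : Type*} [Field F] {k t : ℕ}

local notation "Mm" => Matrix (Fin k) (Fin k) F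
local notation "MT" => Matrix (Fin t → Fin k) (Fin t → Fin k) F

variable {Φ : Frame F k} [NeZero k]

/-- A group of isometries containing the factor groups and moving the factors either lies in the wreath product
or contains all transvections. -/
theorem wr_or_transvections [Fintype F] {G : Subgroup (GL (Fin t → Fin k) F)} {a : Fin k} (hk : 3 ≤ k) (ht : 2 ≤ t)
    (hH : Φ.Hyp G) (hT : Tools Φ a) (hP : PatTools Φ) (ha0 : (a : ℕ) = 0) {γ : F} (hγ : γ ≠ 0) (hL : Φ.Lng γ)
    {c : F} (hc : c + Φ.σ c = 1) :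
    G ≤ Cfsg.Geo.tensorWreathStandard k t F ∨
      ∀ v : (Fin t → Fin k) → F, Φ.qT v ⬝ᵥ v = 0 → ∀ c : F, c + Φ.eps ^ t * Φ.σ c = 0 →
        ∃ g ∈ G, (g : MT) = 1 + c • vecMulVec v (Φ.qT v) := by
  by_cases hS : ∀ i, ScalAt G i a
  · exact Or.inl (le_wreath hk ht hH hT hS)
  push Not at hS
  obtain ⟨i, hi⟩ := hS
  refine Or.inr fun v hv c' hc' => transvection_mem (i := i) hH hT.ne hγ hL ?_ hv hc'
  exact ⟨fun Y hY => all_rows hk hH hT hP ha0 hγ hL hi hY,
    fun Z hZ hZ' => all_long hk hH hT hP ha0 hγ hL hc hi hZ hZ'⟩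

/-- The action of a framed matrix. -/
theorem frU_mulVec {ι : Type} [Fintype ι] [DecidableEq ι] (e : ι ≃ (Fin t → Fin k)) (P : GL ι F)
    (g : GL (Fin t → Fin k) F) (x : (Fin t → Fin k) → F) :
    ((frU e P g : GL ι F) : Matrix ι ι F) *ᵥ ((P : Matrix ι ι F) *ᵥ (x ∘ e)) =
      (P : Matrix ι ι F) *ᵥ (((g : MT) *ᵥ x) ∘ e) := by
  rw [frU_val, frAlg_apply, Matrix.mulVec_mulVec, mul_assoc, Units.inv_mul, mul_one, ← Matrix.mulVec_mulVec,
    Matrix.submatrix_mulVec_equiv]
  congr 2
  ext i; simp [Function.comp_def]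

theorem det_frU {ι : Type} [Fintype ι] [DecidableEq ι] (e : ι ≃ (Fin t → Fin k)) (P : GL ι F)
    (g : GL (Fin t → Fin k) F) : ((frU e P g : GL ι F) : Matrix ι ι F).det = (g : MT).det := by
  rw [frU_val, frAlg_apply, Matrix.det_units_conj, Matrix.det_submatrix_equiv_self]

/-- A change of basis of the factors. -/
noncomputable def newFrame {ι : Type} [Fintype ι] [DecidableEq ι] (e : ι ≃ (Fin t → Fin k)) (P : GL ι F)
    (C : GL (Fin k) F) : GL ι F :=
  P * Cfsg.Geo.glReindex e.symm (pureGL fun _ => C)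

theorem newFrame_mulVec {ι : Type} [Fintype ι] [DecidableEq ι] (e : ι ≃ (Fin t → Fin k)) (P : GL ι F)
    (C : GL (Fin k) F) (x : (Fin t → Fin k) → F) :
    (newFrame e P C : Matrix ι ι F) *ᵥ (x ∘ e) =
      (P : Matrix ι ι F) *ᵥ ((((pureGL fun _ => C : GL (Fin t → Fin k) F) : MT) *ᵥ x) ∘ e) := by
  rw [newFrame, Units.val_mul, ← Matrix.mulVec_mulVec]
  congr 1
  show Matrix.reindexAlgEquiv F F e.symm _ *ᵥ _ = _
  rw [Matrix.reindexAlgEquiv_apply, Matrix.reindex_apply, Equiv.symm_symm, Matrix.submatrix_mulVec_equiv]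
  congr 2
  ext i; simp [Function.comp_def]

/-- The tensor wreath subgroup does not see a change of basis of the factors. -/
theorem tensorWreath_newFrame {ι : Type} [Fintype ι] [DecidableEq ι] (e : ι ≃ (Fin t → Fin k)) (P : GL ι F)
    (C : GL (Fin k) F) :
    Cfsg.Geo.tensorWreathSubgroup k t e (newFrame e P C) = Cfsg.Geo.tensorWreathSubgroup k t e P := by
  set u : GL (Fin t → Fin k) F := pureGL fun _ => C
  have hu : u ∈ Cfsg.Geo.tensorWreathStandard k t F :=
    mem_std_iff.2 ⟨fun _ => C, 1, by rw [permGL_one, mul_one]⟩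
  have e1 : ∀ g, frU e (newFrame e P C) g = frU e P (u * g * u⁻¹) := fun g => by
    simp only [frU, newFrame, MulEquiv.trans_apply, MulAut.conj_apply, MulAut.mul_apply, map_mul, map_inv, _root_.mul_inv_rev, u, mul_assoc]
  rw [Cfsg.Geo.tensorWreathSubgroup, Cfsg.Geo.tensorWreathSubgroup, map_glReindex_conj, map_glReindex_conj]
  ext x
  simp only [Subgroup.mem_map, MulEquiv.coe_toMonoidHom]
  constructor
  · rintro ⟨g, hg, rfl⟩
    exact ⟨_, mul_mem (mul_mem hu hg) (inv_mem hu), (e1 g).symm⟩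
  · rintro ⟨g, hg, rfl⟩
    exact ⟨u⁻¹ * g * u, mul_mem (mul_mem (inv_mem hu) hg) hu, by rw [e1]; congr 1; group⟩

/-- A transvection with full support is not in the wreath product. -/
theorem not_isWr_transvection (ht : 2 ≤ t) {a : Fin k} (ha : a ≠ a.rev) {c : F} (hc : c ≠ 0)
    {g : GL (Fin t → Fin k) F} (hg : (g : MT) = 1 + Matrix.single (fun _ => a) (fun _ => a.rev) c) : ¬ IsWr g := by
  rintro ⟨A, π, rfl⟩
  let j₀ : Fin t := ⟨0, by omega⟩
  let j₁ : Fin t := ⟨1, by omega⟩
  have h01 : j₀ ≠ j₁ := by simp [j₀, j₁, Fin.ext_iff]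
  set X : Mm := Matrix.single a.rev a.rev 1 with hX
  set x : Fin t → Fin k := fun _ => a with hx
  set y : Fin t → Fin k := fun _ => a.rev with hy
  have hzero : ∀ (l : Fin t) (Y : Mm), fa l Y x y = 0 := by
    intro l Y
    rw [fa_apply, if_neg]
    intro h
    rcases eq_or_ne l j₀ with rfl | hl
    · exact ha (h j₁ h01.symm)
    · exact ha (h j₀ (Ne.symm hl))
  have hr : ∀ M : MT, (M * fa j₀ X) x y = M x y := by
    intro M
    rw [Matrix.mul_apply, Finset.sum_eq_single y]
    · rw [fa_apply, if_pos (fun _ _ => rfl), hX]; simp [y]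
    · intro z _ hz
      rw [fa_apply]
      split
      · rename_i h
        have : z j₀ ≠ a.rev := fun e => hz (funext fun l => by
          by_cases hl : l = j₀
          · subst hl; exact e
          · exact h l hl)
        simp [X, Matrix.single_apply, Ne.symm this]
      · rw [mul_zero]
    · simp
  have h := congrArg (fun M : MT => M x y)
    (show ((pureGL A * permGL k F π : GL (Fin t → Fin k) F) : MT) * fa j₀ X =
      Ad (pureGL A * permGL k F π) (fa j₀ X) * ((pureGL A * permGL k F π : GL (Fin t → Fin k) F) : MT) by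
        rw [Ad_apply, mul_assoc _ _ ((pureGL A * permGL k F π : GL (Fin t → Fin k) F) : MT), Units.inv_mul, mul_one])
  simp only [hr] at h
  rw [Ad_wr_fa] at h
  set Y : Mm := (A (π j₀) : Mm) * X * (((A (π j₀))⁻¹ : GL (Fin k) F) : Mm)
  rw [hg, mul_add, mul_one, Matrix.add_apply, Matrix.add_apply, hzero, zero_add, Matrix.mul_single_apply_same,
    Matrix.single_apply_same, Matrix.one_apply_ne (fun e => ha (congrFun e j₀)), zero_add] at h
  have hYxx : fa (π j₀) Y x x = 1 := by
    have := mul_right_cancel₀ hc (show fa (π j₀) Y x x * c = 1 * c by rw [one_mul]; exact h.symm)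
    exact this
  -- the same element fixes a vector killed by the other side
  have h2 := congrArg (fun M : MT => M x x)
    (show ((pureGL A * permGL k F π : GL (Fin t → Fin k) F) : MT) * fa j₀ X =
      Ad (pureGL A * permGL k F π) (fa j₀ X) * ((pureGL A * permGL k F π : GL (Fin t → Fin k) F) : MT) by
        rw [Ad_apply, mul_assoc _ _ ((pureGL A * permGL k F π : GL (Fin t → Fin k) F) : MT), Units.inv_mul, mul_one])
  rw [Ad_wr_fa, hg] at h2
  simp only [add_mul, mul_add, one_mul, mul_one, Matrix.add_apply] at h2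
  rw [Matrix.single_mul_apply_same, fa_apply, if_pos (fun _ _ => rfl), fa_apply, if_neg] at h2
  · rw [Matrix.mul_single_apply_of_ne (hbj := fun e => ha (congrFun e j₀)), add_zero, mul_zero, add_zero,
      show fa (π j₀) ((A (π j₀) : Mm) * X * (((A (π j₀))⁻¹ : GL (Fin k) F) : Mm)) x x = 1 from hYxx] at h2
    simp [X, x, ha, ha.symm] at h2
  · intro hh
    exact ha (hh j₁ h01.symm).symm

end CfsgLib.MaxSub.TensorForm
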